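import Cfsg.Agent.Lib.CharCore.Complete
import Cfsg.Agent.Lib.CharClifford.Central
import Cfsg.Prelude.Def_Blocks
import Mathlib.Tactic.LinearCombination

/-!
# Small additions to the character library: kernels, quotients, class sizes
-/

set_option autoImplicit false

open scoped ComplexConjugate

namespace Cfsg.Agent.BC87

universe u

variable {G : Type u} [Group G]

theorem charDegree_eq {χ : G → ℂ} {n : ℕ} (h : χ 1 = n) : Cfsg.charDegree χ = n := by
  simp [Cfsg.charDegree, h]

theorem apply_one_eq (χ : Cfsg.IrrCharacter G) :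
    (χ : G → ℂ) 1 = (Cfsg.charDegree (χ : G → ℂ) : ℂ) := by
  obtain ⟨n, -, hn⟩ := CharCore.IsIrrCharacter.exists_degree χ.2
  rw [charDegree_eq hn, hn]

theorem charDegree_pos (χ : Cfsg.IrrCharacter G) : 0 < Cfsg.charDegree (χ : G → ℂ) := by
  obtain ⟨n, hn0, hn⟩ := CharCore.IsIrrCharacter.exists_degree χ.2
  rwa [charDegree_eq hn]

/-- The principal character. -/
def triv (G : Type u) [Group G] : Cfsg.IrrCharacter G := ⟨1, CharCore.isIrrCharacter_one⟩

@[simp] theorem triv_apply (g : G) : (triv G : G → ℂ) g = 1 := rfl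

variable [Finite G]

theorem charDegree_dvd_card (χ : Cfsg.IrrCharacter G) :
    Cfsg.charDegree (χ : G → ℂ) ∣ Nat.card G := by
  obtain ⟨d, -, hd, h⟩ := CharClifford.exists_degree_dvd_card χ.2
  rwa [charDegree_eq h]

/-- The kernel of an irreducible character. -/
def kerChar (χ : Cfsg.IrrCharacter G) : Subgroup G where
  carrier := {g | (χ : G → ℂ) g = (χ : G → ℂ) 1}
  mul_mem' := fun {a b} ha hb => by
    obtain ⟨n, ρ, -, h⟩ := χ.2
    simp only [Set.mem_setOf_eq, ← h, Representation.char_one,
      CharCore.character_eq_finrank_iff] at ha hb ⊢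
    rw [map_mul, ha, hb]
    rfl
  one_mem' := rfl
  inv_mem' := fun {a} ha => by
    show (χ : G → ℂ) a⁻¹ = (χ : G → ℂ) 1
    rw [CharCore.irr_apply_inv, show (χ : G → ℂ) a = (χ : G → ℂ) 1 from ha, apply_one_eq]
    exact Complex.conj_natCast _

theorem mem_kerChar {χ : Cfsg.IrrCharacter G} {g : G} :
    g ∈ kerChar χ ↔ (χ : G → ℂ) g = (χ : G → ℂ) 1 := Iff.rfl

instance kerChar_normal (χ : Cfsg.IrrCharacter G) : (kerChar χ).Normal :=
  ⟨fun a ha g => by
    rw [mem_kerChar, CharCore.irr_isClassFunction χ a g]; exact ha⟩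

theorem apply_mul_of_mem_kerChar {χ : Cfsg.IrrCharacter G} {a : G} (ha : a ∈ kerChar χ) (g : G) :
    (χ : G → ℂ) (g * a) = (χ : G → ℂ) g := by
  obtain ⟨n, ρ, -, h⟩ := χ.2
  simp only [mem_kerChar, ← h, Representation.char_one,
    CharCore.character_eq_finrank_iff] at ha ⊢
  simp only [Representation.character, map_mul, ha]
  rfl

/-- Irreducible characters of `G ⧸ K` are the irreducible characters of `G` trivial on `K`. -/
noncomputable def inflEquiv (K : Subgroup G) [K.Normal] :
    Cfsg.IrrCharacter (G ⧸ K) ≃ {χ : Cfsg.IrrCharacter G // K ≤ kerChar χ} :=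
  Equiv.ofBijective
    (fun θ => ⟨⟨fun g => (θ : G ⧸ K → ℂ) (g : G ⧸ K),
      CharCore.isIrrCharacter_comp_surjective θ.2 (QuotientGroup.mk' K)
        (QuotientGroup.mk'_surjective K)⟩, fun k hk => by
      rw [mem_kerChar]
      simp only
      rw [(QuotientGroup.eq_one_iff k).mpr hk]
      rfl⟩)
    ⟨fun θ θ' h => Subtype.ext (funext fun x => by
        obtain ⟨g, rfl⟩ := QuotientGroup.mk_surjective x
        exact congrFun (congrArg Subtype.val (congrArg Subtype.val h)) g),
    fun ⟨χ, hK⟩ => by
      obtain ⟨n, ρ, hρ, h⟩ := χ.2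
      have hker : K ≤ MonoidHom.ker ρ := fun k hk => by
        have := hK hk
        rw [mem_kerChar, ← h, Representation.char_one, CharCore.character_eq_finrank_iff] at this
        exact this
      let σ : Representation ℂ (G ⧸ K) (Fin n → ℂ) := QuotientGroup.lift K ρ hker
      have : σ.IsIrreducible := CharClifford.irreducible_of_comp ρ (QuotientGroup.mk' K)
        (QuotientGroup.mk'_surjective K) σ fun g => rfl
      refine ⟨⟨σ.character, n, σ, this, rfl⟩, Subtype.ext (Subtype.ext ?_)⟩
      funext g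
      exact congrFun h g⟩

theorem inflEquiv_apply (K : Subgroup G) [K.Normal] (θ : Cfsg.IrrCharacter (G ⧸ K)) (g : G) :
    ((inflEquiv K θ).1 : G → ℂ) g = (θ : G ⧸ K → ℂ) (g : G ⧸ K) := rfl

/-- A normal subgroup is the intersection of the kernels of the characters trivial on it. -/
theorem mem_of_forall_kerChar (K : Subgroup G) [K.Normal] {g : G}
    (h : ∀ χ : Cfsg.IrrCharacter G, K ≤ kerChar χ → g ∈ kerChar χ) : g ∈ K := by
  rw [← QuotientGroup.eq_one_iff]
  refine isConj_one_left.mp (IsConj.symm ((CharCore.isConj_iff_forall_irr _ _).mpr fun θ => ?_))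
  have := h _ (inflEquiv K θ).2
  rw [mem_kerChar, inflEquiv_apply, inflEquiv_apply] at this
  exact this.symm

omit [Finite G] in
/-- The number of conjugates of `x` times the order of its centralizer is the group order. -/
theorem card_isConj_mul_card_centralizer (x : G) :
    Nat.card {g : G // IsConj x g} * Nat.card (Subgroup.centralizer ({x} : Set G)) = Nat.card G := by
  have h2 : (Subgroup.centralizer ({x} : Set G)).index = Nat.card {g : G // IsConj x g} := by
    rw [Subgroup.centralizer_eq_comap_stabilizer]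
    refine (Subgroup.index_comap_of_surjective _
      (ConjAct.toConjAct (G := G)).surjective).trans ?_
    rw [MulAction.index_stabilizer, ← Nat.card_coe_set_eq]
    refine Nat.card_congr (Equiv.setCongr ?_)
    ext g
    rw [ConjAct.mem_orbit_conjAct]
    exact isConj_comm
  rw [← h2, Subgroup.index_mul_card]

theorem sum_norm_sq_eq_card_centralizer (g : G) :
    ∑ χ : Cfsg.IrrCharacter G, (χ : G → ℂ) g * conj ((χ : G → ℂ) g) =
      (Nat.card (Subgroup.centralizer ({g} : Set G)) : ℂ) := by
  classical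
  have := Fintype.ofFinite G
  rw [CharCore.sum_apply_mul_conj g g, if_pos (IsConj.refl g)]

omit [Finite G] in
theorem apply_one_eq_one_of_comm (hG : ∀ a b : G, a * b = b * a) (χ : Cfsg.IrrCharacter G) :
    (χ : G → ℂ) 1 = 1 := by
  obtain ⟨n, ρ, hρ, h⟩ := χ.2
  have : IsMulCommutative G := ⟨⟨hG⟩⟩
  rw [← h, Representation.char_one,
    Representation.IsIrreducible.finrank_eq_one_of_isMulCommutative ρ]
  simp

/-- An irreducible character of degree one is multiplicative. -/
theorem apply_mul_of_degree_one {χ : Cfsg.IrrCharacter G} (h1 : (χ : G → ℂ) 1 = 1) (a b : G) :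
    (χ : G → ℂ) (a * b) = (χ : G → ℂ) a * (χ : G → ℂ) b := by
  obtain ⟨n, ρ, hρ, h⟩ := χ.2
  rw [← h, Representation.char_one] at h1
  have h1' : Module.finrank ℂ (Fin n → ℂ) = 1 := by exact_mod_cast h1
  have hn : n = 1 := by simpa using h1'
  subst hn
  rw [← h]
  have hv : ∀ v : Fin 1 → ℂ, v = v 0 • Pi.single 0 1 := fun v => by
    ext i
    fin_cases i
    simp
  simp only [Representation.character, map_mul,
    LinearMap.trace_eq_matrix_trace ℂ (Pi.basisFun ℂ (Fin 1))]
  simp [Matrix.trace]
  rw [hv (ρ b (Pi.single 0 1)), map_smul]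
  simp [mul_comm]

end Cfsg.Agent.BC87
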