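import Cfsg.Agent.CharDeep.Ext.Inertia
import Cfsg.Agent.Lib.CharCore.Complete

/-!
# The Clifford correspondence: irreducibility and injectivity of induction
-/

set_option autoImplicit false

namespace Cfsg.Agent.BC87

open CharDeep.Ext

variable {G : Type*} [Group G] [Fintype G] {H : Subgroup G} [hN : H.Normal] [Fintype H]
  {ϑ : H → ℂ} {T : Subgroup G} [Fintype T]

/-- An irreducible character over `ϑ` has a single constituent over `ϑ` on the inertia group. -/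
theorem eq_of_constituents_inertia (hϑ : Cfsg.IsIrrCharacter H ϑ)
    (hT : ∀ g : G, g ∈ T ↔ ∀ n : H, ϑ ⟨g * n * g⁻¹, hN.conj_mem (n : G) n.2 g⟩ = ϑ n)
    (hHT : H ≤ T) (χ : Cfsg.IrrCharacter G) (η : Cfsg.IrrCharacter T)
    (h1 : Cfsg.classInner (fun t : T => (χ : G → ℂ) t) (η : T → ℂ) ≠ 0)
    (h2 : Cfsg.classInner (fun n : H => (η : T → ℂ) ⟨(n : G), hHT n.2⟩) ϑ ≠ 0) :
    Cfsg.indFun T (η : T → ℂ) = (χ : G → ℂ) := by
  classical
  have hres := CharCore.isCharacter_restrict (CharCore.irr_isCharacter χ) T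
  obtain ⟨m, hm⟩ := CharCore.IsCharacter.exists_sum hres
  have hnat : ∀ ψ : Cfsg.IrrCharacter T, ∃ k : ℕ,
      Cfsg.classInner (fun n : H => (ψ : T → ℂ) ⟨(n : G), hHT n.2⟩) ϑ = k := fun ψ =>
    CharCore.IsCharacter.exists_classInner_irr_eq_natCast (G := H)
      (CharCore.isCharacter_comp (CharCore.irr_isCharacter ψ) (Subgroup.inclusion hHT))
      ⟨ϑ, hϑ⟩
  choose a ha using hnat
  have hsum : Cfsg.classInner (fun n : H => (χ : G → ℂ) n) ϑ = ((∑ ψ, m ψ * a ψ : ℕ) : ℂ) := by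
    have e : (fun n : H => (χ : G → ℂ) n) =
        ∑ ψ : Cfsg.IrrCharacter T, (m ψ : ℂ) • fun n : H => (ψ : T → ℂ) ⟨(n : G), hHT n.2⟩ := by
      funext n
      have := congrFun hm ⟨(n : G), hHT n.2⟩
      simpa [Finset.sum_apply] using this
    rw [e, CharCore.classInner_sum_left, Nat.cast_sum]
    exact Finset.sum_congr rfl fun ψ _ => by
      rw [CharCore.classInner_smul_left, ha, Nat.cast_mul]
  have hmη : m η ≠ 0 := by
    intro h
    apply h1
    rw [hm, CharCore.classInner_sum_all (fun ψ => (m ψ : ℂ)) η, h, Nat.cast_zero]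
  have haη : a η ≠ 0 := fun h => h2 (by rw [ha, h, Nat.cast_zero])
  have hcon : Cfsg.classInner (fun n : H => (χ : G → ℂ) n) ϑ ≠ 0 := by
    rw [hsum, Nat.cast_ne_zero]
    intro h
    exact mul_ne_zero hmη haη (Finset.sum_eq_zero_iff.mp h η (Finset.mem_univ _))
  obtain ⟨ψ, hψ, hind, heq⟩ := exists_inertia_induced H hϑ T hT hHT χ.2 hcon
  let ψ' : Cfsg.IrrCharacter T := ⟨ψ, hψ⟩
  rcases eq_or_ne ψ' η with rfl | hne
  · exact hind
  exfalso
  have hmψ : m ψ' ≠ 0 := by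
    intro h
    have h3 : Cfsg.classInner (Cfsg.indFun T ψ) (χ : G → ℂ) = 1 := by
      rw [hind]; exact (CharCore.isIrrCharacter_iff.mp χ.2).2
    rw [CharInd.classInner_indFun_left T ψ (CharCore.irr_isClassFunction χ),
      ← CharInd.classInner_swap, hm, CharCore.classInner_sum_all (fun φ => (m φ : ℂ)) ψ', h,
      Nat.cast_zero, map_zero] at h3
    exact zero_ne_one h3
  rw [show (fun n : H => ψ ⟨(n : G), hHT n.2⟩) = fun n : H => (ψ' : T → ℂ) ⟨(n : G), hHT n.2⟩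
    from rfl, ha ψ', hsum, Nat.cast_inj] at heq
  have h4 : m ψ' * a ψ' + m η * a η ≤ ∑ φ, m φ * a φ := by
    calc m ψ' * a ψ' + m η * a η = ∑ φ ∈ ({ψ', η} : Finset _), m φ * a φ := by
          rw [Finset.sum_pair hne]
      _ ≤ _ := Finset.sum_le_sum_of_subset (Finset.subset_univ _)
  have h5 : a ψ' ≤ m ψ' * a ψ' := Nat.le_mul_of_pos_left _ (Nat.pos_of_ne_zero hmψ)
  have h6 : 0 < m η * a η := Nat.pos_of_ne_zero (mul_ne_zero hmη haη)
  omega

/-- Induction from the inertia group of a character over `ϑ` is irreducible. -/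
theorem isIrrCharacter_indFun_inertia (hϑ : Cfsg.IsIrrCharacter H ϑ)
    (hT : ∀ g : G, g ∈ T ↔ ∀ n : H, ϑ ⟨g * n * g⁻¹, hN.conj_mem (n : G) n.2 g⟩ = ϑ n)
    (hHT : H ≤ T) (η : Cfsg.IrrCharacter T)
    (h2 : Cfsg.classInner (fun n : H => (η : T → ℂ) ⟨(n : G), hHT n.2⟩) ϑ ≠ 0) :
    Cfsg.IsIrrCharacter G (Cfsg.indFun T (η : T → ℂ)) := by
  classical
  obtain ⟨m, hm⟩ := CharCore.IsCharacter.exists_sum
    (CharInd.isCharacter_indFun T (CharCore.irr_isCharacter η))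
  obtain ⟨χ, hχ⟩ : ∃ χ : Cfsg.IrrCharacter G, m χ ≠ 0 := by
    by_contra! h
    have h1 := congrFun hm 1
    rw [CharInd.indFun_apply_one] at h1
    simp [h, CharCore.irr_apply_one_ne_zero, Subgroup.index_ne_zero_of_finite] at h1
  have h1 : Cfsg.classInner (fun t : T => (χ : G → ℂ) t) (η : T → ℂ) ≠ 0 := by
    rw [← CharInd.classInner_swap,
      ← CharInd.classInner_indFun_left T (η : T → ℂ) (CharCore.irr_isClassFunction χ), hm,
      CharCore.classInner_sum_all (fun ψ => (m ψ : ℂ)) χ, map_natCast]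
    exact_mod_cast hχ
  rw [eq_of_constituents_inertia hϑ hT hHT χ η h1 h2]
  exact χ.2

/-- Induction from the inertia group is injective on characters over `ϑ`. -/
theorem indFun_inertia_injective (hϑ : Cfsg.IsIrrCharacter H ϑ)
    (hT : ∀ g : G, g ∈ T ↔ ∀ n : H, ϑ ⟨g * n * g⁻¹, hN.conj_mem (n : G) n.2 g⟩ = ϑ n)
    (hHT : H ≤ T) (η η' : Cfsg.IrrCharacter T)
    (h2 : Cfsg.classInner (fun n : H => (η : T → ℂ) ⟨(n : G), hHT n.2⟩) ϑ ≠ 0)
    (h2' : Cfsg.classInner (fun n : H => (η' : T → ℂ) ⟨(n : G), hHT n.2⟩) ϑ ≠ 0)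
    (h : Cfsg.indFun T (η : T → ℂ) = Cfsg.indFun T (η' : T → ℂ)) : η = η' := by
  classical
  let χ : Cfsg.IrrCharacter G := ⟨_, isIrrCharacter_indFun_inertia hϑ hT hHT η h2⟩
  have hirr := (CharCore.isIrrCharacter_iff.mp χ.2).2
  obtain ⟨m, hm⟩ := CharCore.IsCharacter.exists_sum
    (CharCore.isCharacter_restrict (CharCore.irr_isCharacter χ) T)
  by_contra hne
  have hin : ∀ φ : Cfsg.IrrCharacter T, (χ : G → ℂ) = Cfsg.indFun T (φ : T → ℂ) → m φ = 1 := by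
    intro φ hφ
    have h3 : Cfsg.classInner (Cfsg.indFun T (φ : T → ℂ)) (χ : G → ℂ) = 1 := by
      rw [← hφ]; exact hirr
    rw [CharInd.classInner_indFun_left T (φ : T → ℂ) (CharCore.irr_isClassFunction χ),
      ← CharInd.classInner_swap, hm, CharCore.classInner_sum_all (fun ψ => (m ψ : ℂ)) φ,
      map_natCast] at h3
    exact_mod_cast h3
  have hnat : ∀ ψ : Cfsg.IrrCharacter T, ∃ k : ℕ,
      Cfsg.classInner (fun n : H => (ψ : T → ℂ) ⟨(n : G), hHT n.2⟩) ϑ = k := fun ψ =>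
    CharCore.IsCharacter.exists_classInner_irr_eq_natCast (G := H)
      (CharCore.isCharacter_comp (CharCore.irr_isCharacter ψ) (Subgroup.inclusion hHT))
      ⟨ϑ, hϑ⟩
  choose a ha using hnat
  have hsum : Cfsg.classInner (fun n : H => (χ : G → ℂ) n) ϑ = ((∑ ψ, m ψ * a ψ : ℕ) : ℂ) := by
    have e : (fun n : H => (χ : G → ℂ) n) =
        ∑ ψ : Cfsg.IrrCharacter T, (m ψ : ℂ) • fun n : H => (ψ : T → ℂ) ⟨(n : G), hHT n.2⟩ := by
      funext n
      have := congrFun hm ⟨(n : G), hHT n.2⟩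
      simpa [Finset.sum_apply] using this
    rw [e, CharCore.classInner_sum_left, Nat.cast_sum]
    exact Finset.sum_congr rfl fun ψ _ => by
      rw [CharCore.classInner_smul_left, ha, Nat.cast_mul]
  have hcon : Cfsg.classInner (fun n : H => (χ : G → ℂ) n) ϑ ≠ 0 := by
    rw [hsum, Nat.cast_ne_zero]
    intro h0
    have := Finset.sum_eq_zero_iff.mp h0 η (Finset.mem_univ _)
    rw [hin η rfl, one_mul] at this
    exact h2 (by rw [ha, this, Nat.cast_zero])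
  obtain ⟨ψ, hψ, hind, heq⟩ := exists_inertia_induced H hϑ T hT hHT χ.2 hcon
  have hψm := hin ⟨ψ, hψ⟩ hind.symm
  rw [show (fun n : H => ψ ⟨(n : G), hHT n.2⟩) =
    fun n : H => ((⟨ψ, hψ⟩ : Cfsg.IrrCharacter T) : T → ℂ) ⟨(n : G), hHT n.2⟩ from rfl,
    ha, hsum, Nat.cast_inj] at heq
  obtain ⟨φ, hφ, hφ0, hφa⟩ : ∃ φ, φ ≠ (⟨ψ, hψ⟩ : Cfsg.IrrCharacter T) ∧ m φ = 1 ∧ a φ ≠ 0 := by
    by_cases hη : η = ⟨ψ, hψ⟩
    · exact ⟨η', fun e => hne (hη.trans e.symm), hin η' h,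
        fun e => h2' (by rw [ha, e, Nat.cast_zero])⟩
    · exact ⟨η, hη, hin η rfl, fun e => h2 (by rw [ha, e, Nat.cast_zero])⟩
  have h4 : m ⟨ψ, hψ⟩ * a ⟨ψ, hψ⟩ + m φ * a φ ≤ ∑ ξ, m ξ * a ξ := by
    calc _ = ∑ ξ ∈ ({⟨ψ, hψ⟩, φ} : Finset _), m ξ * a ξ := by rw [Finset.sum_pair hφ.symm]
      _ ≤ _ := Finset.sum_le_sum_of_subset (Finset.subset_univ _)
  rw [hψm, hφ0, one_mul, one_mul] at h4
  have h6 : 0 < a φ := Nat.pos_of_ne_zero hφa
  omega

end Cfsg.Agent.BC87
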