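import Cfsg.Agent.BC87.Basic
import Mathlib.LinearAlgebra.Matrix.Kronecker
import Mathlib.LinearAlgebra.Dimension.Finrank
import Mathlib.LinearAlgebra.Matrix.Determinant.Basic
import Mathlib.LinearAlgebra.Matrix.Bilinear

/-!
# Frobenius–Schur indicators: trichotomy, square roots, and a criterion for the sign
-/

set_option autoImplicit false

open scoped ComplexConjugate Kronecker Matrix

namespace Cfsg.Agent.BC87

universe u

variable {G : Type u} [Group G] [Finite G]

/-- The Frobenius–Schur indicator. -/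
noncomputable def nu (χ : G → ℂ) : ℂ := (Nat.card G : ℂ)⁻¹ * ∑ᶠ g : G, χ (g * g)

omit [Finite G] in
theorem nu_eq [Fintype G] (χ : G → ℂ) : nu χ = (Nat.card G : ℂ)⁻¹ * ∑ g : G, χ (g * g) := by
  rw [nu, finsum_eq_sum_of_fintype]

omit [Finite G] in
/-- The matrices of a representation on a coordinate space. -/
noncomputable def matHom {n : ℕ} (ρ : Representation ℂ G (Fin n → ℂ)) :
    G →* Matrix (Fin n) (Fin n) ℂ where
  toFun g := LinearMap.toMatrix' (ρ g)
  map_one' := by rw [map_one, Module.End.one_eq_id, LinearMap.toMatrix'_id]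
  map_mul' g h := by rw [map_mul, LinearMap.toMatrix'_mul]

omit [Finite G] in
theorem trace_matHom {n : ℕ} (ρ : Representation ℂ G (Fin n → ℂ)) (g : G) :
    (matHom ρ g).trace = ρ.character g := by
  rw [← Matrix.trace_toLin'_eq]
  simp [matHom, Representation.character]

omit [Finite G] in
theorem toLin'_matHom {n : ℕ} (ρ : Representation ℂ G (Fin n → ℂ)) (g : G) :
    Matrix.toLin' (matHom ρ g) = ρ g := by
  simp [matHom]

/-- An average of a matrix representation is idempotent and absorbs the group. -/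
theorem avg_mul [Fintype G] {m : Type} [Fintype m] [DecidableEq m] (T : G →* Matrix m m ℂ) :
    let E := (Nat.card G : ℂ)⁻¹ • ∑ g, T g
    (∀ g, T g * E = E) ∧ E * E = E := by
  intro E
  have h1 : ∀ g, T g * E = E := fun g => by
    simp only [E, Matrix.mul_smul, Finset.mul_sum, ← map_mul]
    congr 1
    exact Fintype.sum_equiv (Equiv.mulLeft g) _ _ fun h => rfl
  refine ⟨h1, ?_⟩
  calc E * E = (Nat.card G : ℂ)⁻¹ • ∑ g, T g * E := by
        conv_lhs => simp only [E]
        rw [Matrix.smul_mul, Finset.sum_mul]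
    _ = E := by
        rw [Finset.sum_congr rfl fun g _ => h1 g, Finset.sum_const, Finset.card_univ,
          ← Nat.cast_smul_eq_nsmul ℂ, smul_smul, ← Nat.card_eq_fintype_card,
          inv_mul_cancel₀ (Nat.cast_ne_zero.mpr Nat.card_pos.ne'), one_smul]

theorem trace_eq_finrank_range {m : Type} [Fintype m] [DecidableEq m] {E : Matrix m m ℂ}
    (hE : E * E = E) :
    E.trace = Module.finrank ℂ (LinearMap.range (Matrix.toLin' E)) := by
  have hf : IsIdempotentElem (Matrix.toLin' E) := by
    show Matrix.toLin' E * Matrix.toLin' E = _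
    rw [Module.End.mul_eq_comp, ← Matrix.toLin'_mul, hE]
  rw [← Matrix.trace_toLin'_eq]
  exact ((LinearMap.isProj_range_iff_isIdempotentElem _).mpr hf).trace

omit [Finite G] in
theorem real_iff (χ : Cfsg.IrrCharacter G) :
    (∀ g, conj ((χ : G → ℂ) g) = (χ : G → ℂ) g) ↔ ∀ g, ((χ : G → ℂ) g).im = 0 :=
  forall_congr' fun _ => Complex.conj_eq_iff_im

/-- The data behind the indicator: `ν = 0` for a non-real character; for a real one `ν = ε = ±1`
where `ε` is the symmetry of an invariant invertible form. -/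
theorem nu_cases (χ : Cfsg.IrrCharacter G) :
    ((¬ ∀ g, ((χ : G → ℂ) g).im = 0) ∧ nu (χ : G → ℂ) = 0) ∨
      ((∀ g, ((χ : G → ℂ) g).im = 0) ∧
        ∃ (n : ℕ) (ρ : Representation ℂ G (Fin n → ℂ)) (U : Matrix (Fin n) (Fin n) ℂ) (ε : ℂ),
          ρ.character = (χ : G → ℂ) ∧ IsUnit U.det ∧
          (∀ g, matHom ρ g * U * (matHom ρ g)ᵀ = U) ∧ (ε = 1 ∨ ε = -1) ∧ Uᵀ = ε • U ∧
          nu (χ : G → ℂ) = ε) := by
  classical
  have := Fintype.ofFinite G
  obtain ⟨n, ρ, hρ, hχ⟩ := χ.2
  let A := matHom ρ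
  let T : G →* Matrix (Fin n × Fin n) (Fin n × Fin n) ℂ :=
    { toFun := fun g => A g ⊗ₖ A g
      map_one' := by rw [map_one, Matrix.one_kronecker_one]
      map_mul' := fun g h => by rw [map_mul, Matrix.mul_kronecker_mul] }
  set c : ℂ := (Nat.card G : ℂ)⁻¹
  set P := c • ∑ g, T g with hPdef
  obtain ⟨hTP, hPP⟩ : (∀ g, T g * P = P) ∧ P * P = P := avg_mul T
  have htr : P.trace = c * ∑ g, (χ : G → ℂ) g * (χ : G → ℂ) g := by
    simp [P, T, A, Matrix.trace_smul, Matrix.trace_sum, Matrix.trace_kronecker, trace_matHom, hχ]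
  have hnu : nu (χ : G → ℂ) = ∑ i, ∑ j, P (i, j) (j, i) := by
    rw [nu_eq]
    simp only [P, Matrix.smul_apply, Matrix.sum_apply, smul_eq_mul, ← Finset.mul_sum]
    congr 1
    have key : ∀ g, (χ : G → ℂ) (g * g) = ∑ i, ∑ j, T g (i, j) (j, i) := fun g => by
      rw [← hχ, ← trace_matHom ρ, map_mul]
      simp only [T, MonoidHom.coe_mk, OneHom.coe_mk, Matrix.kroneckerMap_apply, Matrix.trace,
        Matrix.diag, Matrix.mul_apply]
      exact Finset.sum_congr rfl fun i _ => Finset.sum_congr rfl fun j _ => rfl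
    rw [Finset.sum_congr rfl fun g _ => key g, Finset.sum_comm]
    exact Finset.sum_congr rfl fun i _ => Finset.sum_comm
  have hrk := trace_eq_finrank_range hPP
  by_cases hreal : ∀ g, ((χ : G → ℂ) g).im = 0
  · right
    refine ⟨hreal, n, ρ, ?_⟩
    have hone : Module.finrank ℂ (LinearMap.range (Matrix.toLin' P)) = 1 := by
      have : P.trace = 1 := by
        have h := CharCore.classInner_irr_self χ
        rw [CharCore.classInner_def] at h
        rw [htr, ← h]
        simp only [(real_iff χ).mpr hreal, c]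
      rw [hrk] at this
      exact_mod_cast this
    obtain ⟨⟨u, hu⟩, hu0, hspan⟩ := finrank_eq_one_iff'.mp hone
    obtain ⟨v, hv⟩ := hu
    have hfixu : ∀ g, (T g) *ᵥ u = u := fun g => by
      rw [← hv, Matrix.toLin'_apply, Matrix.mulVec_mulVec, hTP]
    let U : Matrix (Fin n) (Fin n) ℂ := Matrix.of fun i j => u (i, j)
    have hswap : ∀ (g : G) (i j k l : Fin n), T g (i, j) (k, l) = T g (j, i) (l, k) := fun g i j k l => by
      simp [T, mul_comm]
    have hPswap : ∀ i j k l : Fin n, P (i, j) (k, l) = P (j, i) (l, k) := fun i j k l => by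
      simp only [P, Matrix.smul_apply, Matrix.sum_apply, hswap _ i j k l]
    let u' : Fin n × Fin n → ℂ := fun a => u (a.2, a.1)
    have hu' : u' ∈ LinearMap.range (Matrix.toLin' P) := by
      refine ⟨fun a => v (a.2, a.1), funext fun ⟨i, j⟩ => ?_⟩
      simp only [u', ← hv, Matrix.toLin'_apply, Matrix.mulVec, dotProduct]
      refine Fintype.sum_equiv (Equiv.prodComm (Fin n) (Fin n)) _ _ fun ⟨k, l⟩ => ?_
      simp [hPswap i j k l]
    obtain ⟨ε, hε⟩ := hspan ⟨u', hu'⟩
    have hε' : ∀ i j, u (j, i) = ε * u (i, j) := fun i j => by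
      have := congrFun (congrArg Subtype.val hε) (i, j)
      simpa [u'] using this.symm
    have hune : u ≠ 0 := fun h => hu0 (Subtype.ext h)
    have hε1 : ε = 1 ∨ ε = -1 := by
      obtain ⟨⟨i, j⟩, hij⟩ := Function.ne_iff.mp hune
      have h1 : u (i, j) = ε * (ε * u (i, j)) := by
        conv_lhs => rw [hε' j i, hε' i j]
      have : (ε * ε - 1) * u (i, j) = 0 := by linear_combination -h1
      exact mul_self_eq_one_iff.mp (sub_eq_zero.mp ((mul_eq_zero.mp this).resolve_right hij))
    have hUinv : ∀ g, A g * U * (A g)ᵀ = U := fun g => by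
      ext i j
      have := congrFun (hfixu g) (i, j)
      simp only [Matrix.mulVec, dotProduct, T, MonoidHom.coe_mk, OneHom.coe_mk,
        Matrix.kroneckerMap_apply, Fintype.sum_prod_type] at this
      simp only [Matrix.mul_apply, Matrix.transpose_apply, U, Matrix.of_apply, Finset.sum_mul]
      rw [Finset.sum_comm]
      refine Eq.trans ?_ this
      exact Finset.sum_congr rfl fun k _ => Finset.sum_congr rfl fun l _ => by ring
    refine ⟨U, ε, hχ, ?_, hUinv, hε1, ?_, ?_⟩
    · have hUA : ∀ g, A g * U = U * (A g⁻¹)ᵀ := fun g => by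
        calc A g * U = A g * U * ((A g)ᵀ * (A g⁻¹)ᵀ) := by
              rw [← Matrix.transpose_mul, ← map_mul, inv_mul_cancel, map_one,
                Matrix.transpose_one, Matrix.mul_one]
          _ = _ := by rw [← Matrix.mul_assoc, hUinv]
      let W : Subrepresentation ρ :=
        { toSubmodule := LinearMap.range (Matrix.toLin' U)
          apply_mem_toSubmodule := by
            rintro g _ ⟨w, rfl⟩
            refine ⟨(A g⁻¹)ᵀ *ᵥ w, ?_⟩
            rw [← toLin'_matHom ρ g]
            simp only [Matrix.toLin'_apply, Matrix.mulVec_mulVec]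
            exact congrArg (· *ᵥ w) (hUA g).symm }
      rcases (IsSimpleOrder.eq_bot_or_eq_top W : W = ⊥ ∨ W = ⊤) with hW | hW
      · exfalso
        have h0 : Matrix.toLin' U = 0 :=
          LinearMap.range_eq_bot.mp (congrArg Subrepresentation.toSubmodule hW)
        have hU0 : U = 0 := Matrix.toLin'.injective (by rw [h0, map_zero])
        exact hune (funext fun ⟨i, j⟩ => congrFun (congrFun hU0 i) j)
      · have hsurj : Function.Surjective (Matrix.toLin' U) :=
          LinearMap.range_eq_top.mp (congrArg Subrepresentation.toSubmodule hW)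
        exact (Matrix.isUnit_iff_isUnit_det U).mp
          (Matrix.mulVec_surjective_iff_isUnit.mp hsurj)
    · ext i j
      exact hε' i j
    · rw [hnu]
      have hcol : ∀ b, ∃ w : ℂ, ∀ a, P a b = w * u a := fun b => by
        obtain ⟨w, hw⟩ := hspan ⟨Matrix.toLin' P (Pi.single b 1), LinearMap.mem_range_self _ _⟩
        refine ⟨w, fun a => ?_⟩
        have := congrFun (congrArg Subtype.val hw) a
        simpa using this.symm
      choose w hw using hcol
      have h1 : ∑ i, ∑ j, P (i, j) (j, i) = ε * P.trace := by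
        rw [Matrix.trace, Fintype.sum_prod_type, Finset.mul_sum]
        simp only [Finset.mul_sum, Matrix.diag]
        rw [Finset.sum_comm]
        refine Finset.sum_congr rfl fun i _ => Finset.sum_congr rfl fun j _ => ?_
        rw [hw, hw, hε' i j]
        ring
      rw [h1, hrk, hone, Nat.cast_one, mul_one]
  · left
    refine ⟨hreal, ?_⟩
    let χ' : Cfsg.IrrCharacter G := ⟨_, CharCore.isIrrCharacter_star χ.2⟩
    have hne : χ ≠ χ' := fun e => hreal ((real_iff χ).mp fun g =>
      (congrFun (congrArg Subtype.val e) g).symm)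
    have h := CharCore.classInner_irr_of_ne hne
    rw [CharCore.classInner_def] at h
    simp only [χ', Complex.conj_conj] at h
    have hrk0 : Module.finrank ℂ (LinearMap.range (Matrix.toLin' P)) = 0 := by
      have : P.trace = 0 := by rw [htr, ← h]
      rw [hrk] at this
      exact_mod_cast this
    have h0 : P = 0 := Matrix.toLin'.injective (by
      rw [map_zero, LinearMap.range_eq_bot.mp (Submodule.finrank_eq_zero.mp hrk0)])
    simp [hnu, h0]

theorem nu_real {χ : Cfsg.IrrCharacter G} (h : nu (χ : G → ℂ) ≠ 0) (g : G) :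
    ((χ : G → ℂ) g).im = 0 := by
  rcases nu_cases χ with ⟨-, h0⟩ | ⟨hr, -⟩
  · exact absurd h0 h
  · exact hr g

theorem nu_eq_one_or {χ : Cfsg.IrrCharacter G} (h : ∀ g, ((χ : G → ℂ) g).im = 0) :
    nu (χ : G → ℂ) = 1 ∨ nu (χ : G → ℂ) = -1 := by
  rcases nu_cases χ with ⟨hr, -⟩ | ⟨-, n, ρ, U, ε, -, -, -, hε, -, hν⟩
  · exact absurd h hr
  · rw [hν]; exact hε

/-- A real irreducible character containing the principal character of some subgroup with odd
multiplicity has indicator one. -/
theorem nu_eq_one_of_odd {χ : Cfsg.IrrCharacter G} (hr : ∀ g, ((χ : G → ℂ) g).im = 0)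
    (S : Subgroup G) [Fintype S] {a : ℕ} (ha : Odd a)
    (hmult : Cfsg.classInner (fun s : S => (χ : G → ℂ) s) 1 = a) : nu (χ : G → ℂ) = 1 := by
  classical
  rcases nu_cases χ with ⟨h, -⟩ | ⟨-, n, ρ, U, ε, hχ, hU, hinv, hε, hT, hν⟩
  · exact absurd hr h
  rcases hε with rfl | rfl
  · exact hν
  exfalso
  let A := matHom ρ
  let B : S →* Matrix (Fin n) (Fin n) ℂ := A.comp S.subtype
  set c : ℂ := (Nat.card S : ℂ)⁻¹
  set E := c • ∑ s : S, B s with hEdef
  obtain ⟨hBE, hEE⟩ : (∀ s, B s * E = E) ∧ E * E = E := avg_mul B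
  have hrk : Module.finrank ℂ (LinearMap.range (Matrix.toLin' E)) = a := by
    have h1 := trace_eq_finrank_range hEE
    have h2 : E.trace = (a : ℂ) := by
      rw [← hmult, CharCore.classInner_def]
      simp [E, B, A, Matrix.trace_smul, Matrix.trace_sum, trace_matHom, hχ, c]
    rw [h2] at h1
    exact_mod_cast h1.symm
  have hEU : E * U = U * Eᵀ := by
    simp only [E, Matrix.transpose_smul, Matrix.transpose_sum, Matrix.smul_mul, Matrix.mul_smul,
      Finset.sum_mul, Finset.mul_sum]
    congr 1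
    refine Fintype.sum_equiv (Equiv.inv S) _ _ fun s => ?_
    simp only [Equiv.inv_apply, B, MonoidHom.comp_apply, Subgroup.coe_subtype, InvMemClass.coe_inv]
    calc A (s : G) * U = A (s : G) * U * ((A (s : G))ᵀ * (A (s : G)⁻¹)ᵀ) := by
          rw [← Matrix.transpose_mul, ← map_mul, inv_mul_cancel, map_one,
            Matrix.transpose_one, Matrix.mul_one]
      _ = _ := by rw [← Matrix.mul_assoc, hinv]
  set W := LinearMap.range (Matrix.toLin' E)
  let b : Module.Basis (Fin a) ℂ W := Module.finBasisOfFinrankEq ℂ W hrk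
  let L : Matrix (Fin n) (Fin a) ℂ := LinearMap.toMatrix' (W.subtype ∘ₗ b.equivFun.symm.toLinearMap)
  let R : Matrix (Fin a) (Fin n) ℂ :=
    LinearMap.toMatrix' (b.equivFun.toLinearMap ∘ₗ (Matrix.toLin' E).rangeRestrict)
  have hLR : L * R = E := by
    simp only [L, R]
    rw [← LinearMap.toMatrix'_comp]
    conv_rhs => rw [← LinearMap.toMatrix'_toLin' E]
    congr 1
    ext v i
    simp
  have hfix : ∀ x : W, Matrix.toLin' E x = x := fun ⟨x, w, hw⟩ => by
    show Matrix.toLin' E x = x
    rw [← hw, ← LinearMap.comp_apply, ← Matrix.toLin'_mul, hEE]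
  have hRL : R * L = 1 := by
    simp only [L, R]
    rw [← LinearMap.toMatrix'_comp, ← LinearMap.toMatrix'_id]
    congr 1
    refine LinearMap.ext fun x => ?_
    have : (Matrix.toLin' E).rangeRestrict (W.subtype (b.equivFun.symm x)) = b.equivFun.symm x :=
      Subtype.ext (hfix _)
    simp only [LinearMap.comp_apply, LinearEquiv.coe_coe, LinearMap.id_coe, id_eq, this,
      LinearEquiv.apply_symm_apply]
  set M := R * (E * U) * Rᵀ with hM
  have hMskew : Mᵀ = -M := by
    simp only [M, Matrix.transpose_mul, Matrix.transpose_transpose, hT, neg_one_smul,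
      Matrix.neg_mul, Matrix.mul_neg]
    simp only [Matrix.mul_assoc]
    rw [← Matrix.mul_assoc U Eᵀ Rᵀ, ← hEU, Matrix.mul_assoc]
  have hMinv : M * (Lᵀ * U⁻¹ * L) = 1 := by
    have h1 : Rᵀ * Lᵀ = Eᵀ := by rw [← Matrix.transpose_mul, hLR]
    have h2 : U * Eᵀ * U⁻¹ = E := by
      rw [← hEU, Matrix.mul_assoc, Matrix.mul_nonsing_inv U hU, Matrix.mul_one]
    calc M * (Lᵀ * U⁻¹ * L) = R * E * (U * (Rᵀ * Lᵀ) * U⁻¹) * L := by
          simp only [M, Matrix.mul_assoc]
      _ = R * (E * E) * L := by rw [h1, h2]; simp only [Matrix.mul_assoc]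
      _ = 1 := by rw [hEE, ← hLR]; simp only [← Matrix.mul_assoc, hRL, Matrix.one_mul]
  have hdet := congrArg Matrix.det hMskew
  rw [Matrix.det_transpose, Matrix.det_neg, Fintype.card_fin, ha.neg_one_pow] at hdet
  have h0 : M.det = 0 := by linear_combination hdet / 2
  have := congrArg Matrix.det hMinv
  rw [Matrix.det_mul, h0, zero_mul, Matrix.det_one] at this
  exact zero_ne_one this

/-- The number of square roots of an element. -/
theorem card_sqrt (g : G) :
    (Nat.card {s : G // s * s = g} : ℂ) =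
      ∑ χ : Cfsg.IrrCharacter G, nu (χ : G → ℂ) * (χ : G → ℂ) g := by
  classical
  have := Fintype.ofFinite G
  let f : G → ℂ := fun x => ∑ s : G, if s * s = x then 1 else 0
  have hf : Cfsg.IsClassFunction G f := fun x y => by
    refine Fintype.sum_equiv (MulAut.conj y⁻¹).toEquiv _ _ fun s => ?_
    simp only [MulEquiv.toEquiv_eq_coe, MulEquiv.coe_toEquiv, MulAut.conj_apply, inv_inv]
    refine if_congr ⟨fun h => ?_, fun h => ?_⟩ rfl rfl
    · calc y⁻¹ * s * y * (y⁻¹ * s * y) = y⁻¹ * (s * s) * y := by group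
        _ = x := by rw [h]; group
    · calc s * s = y * (y⁻¹ * s * y * (y⁻¹ * s * y)) * y⁻¹ := by group
        _ = _ := by rw [h]
  have hcoef : ∀ χ : Cfsg.IrrCharacter G, Cfsg.classInner f χ = nu (χ : G → ℂ) := fun χ => by
    rw [CharCore.classInner_eq_inv _ (CharCore.irr_isCharacter χ), nu_eq]
    congr 1
    simp only [f, Finset.sum_mul, ite_mul, one_mul, zero_mul]
    rw [Finset.sum_comm]
    simp only [Finset.sum_ite_eq, Finset.mem_univ, if_true]
    exact Fintype.sum_equiv (Equiv.inv G) _ _ fun s => by simp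
  have h := congrFun (CharCore.eq_sum_classInner hf) g
  simp only [hcoef, Finset.sum_apply, Pi.smul_apply, smul_eq_mul] at h
  rw [← h, Nat.card_eq_fintype_card, Fintype.card_subtype, Finset.natCast_card_filter]

end Cfsg.Agent.BC87
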