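import Cfsg.Agent.BC87.CoprimeFix
import Cfsg.Agent.BC87.Basic
import Cfsg.Agent.BC87.CliffordCorr
import Cfsg.Agent.BC84.SylowNormalize
import Cfsg.Agent.CharDeep.Ext.Wrap
import Cfsg.Agent.Lib.Coprime.SchurZassenhaus
import Cfsg.Agent.Lib.Solvable.Basic
import Mathlib.GroupTheory.FiniteAbelian.Duality
import Mathlib.RingTheory.RootsOfUnity.Complex
import Mathlib.Analysis.Complex.Polynomial.Basic

/-!
# Degrees of `p'` and `q'` characters and commuting Sylow subgroups
-/

set_option autoImplicit false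
set_option linter.unusedSectionVars false
set_option linter.style.haveILetI false

open Subgroup
open scoped ComplexConjugate

namespace Cfsg.Agent.BC87.CommSylow

universe u

open Cfsg

variable {G : Type u} [Group G] [Finite G] {p q : ℕ} [hp : Fact p.Prime] [hq : Fact q.Prime]

/-- Characters of `p'`-degree trivial on `O_{p'}(G)` have degree prime to `q`. -/
def HDeg (p q : ℕ) (G : Type u) [Group G] [Finite G] : Prop :=
  ∀ χ : Cfsg.IrrCharacter G, pPrimeCore p G ≤ kerChar χ → ¬ p ∣ charDegree (χ : G → ℂ) →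
    ¬ q ∣ charDegree (χ : G → ℂ)

/-- Some Sylow `p`- and `q`-subgroups commute elementwise. -/
def Commuting (p q : ℕ) (G : Type u) [Group G] : Prop :=
  ∃ (P : Sylow p G) (Q : Sylow q G), ∀ x ∈ (P : Subgroup G), ∀ y ∈ (Q : Subgroup G), x * y = y * x

theorem Commuting.symm (h : Commuting p q G) : Commuting q p G :=
  let ⟨P, Q, h⟩ := h
  ⟨Q, P, fun x hx y hy => (h y hy x hx).symm⟩

theorem HDeg.of_surjective {X : Type u} [Group X] [Finite X] (h : HDeg p q G) (f : G →* X)
    (hf : Function.Surjective f) : HDeg p q X := by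
  intro θ hθ
  let χ : Cfsg.IrrCharacter G :=
    ⟨fun g => (θ : X → ℂ) (f g), CharCore.isIrrCharacter_comp_surjective θ.2 f hf⟩
  have hd : charDegree (χ : G → ℂ) = charDegree (θ : X → ℂ) :=
    charDegree_eq (show (θ : X → ℂ) (f 1) = _ by rw [map_one]; exact apply_one_eq θ)
  rw [← hd]
  refine h χ fun g hg => ?_
  rw [mem_kerChar]
  show (θ : X → ℂ) (f g) = (θ : X → ℂ) (f 1)
  rw [map_one]
  exact hθ (Thompson.le_pPrimeCore (Thompson.instPPrimeCoreNormal.map f hf)
    ((Thompson.card_pPrimeCore_coprime (p := p) (G := G)).coprime_dvd_left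
      (Subgroup.card_map_dvd _ f)) (Subgroup.mem_map_of_mem f hg))

/-- A Sylow subgroup lies in a normal subgroup of index prime to its prime. -/
theorem sylow_le_of_not_dvd_index {N : Subgroup G} [N.Normal] (Q : Sylow q G)
    (hN : ¬ q ∣ N.index) : (Q : Subgroup G) ≤ N := by
  have h1 : IsPGroup q ((Q : Subgroup G).map (QuotientGroup.mk' N)) := Q.2.map _
  have h2 : (Q : Subgroup G).map (QuotientGroup.mk' N) = ⊥ := by
    refine Subgroup.eq_bot_of_card_eq _ (h1.card_eq_or_dvd.resolve_right fun h => hN ?_)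
    rw [Subgroup.index_eq_card]
    exact h.trans (Subgroup.card_subgroup_dvd_card _)
  rwa [Subgroup.map_eq_bot_iff, QuotientGroup.ker_mk'] at h2

theorem not_dvd_index_of_commuting (hpq : p ≠ q) (hps : IsPSolvable p G) (h : Commuting p q G) :
    ¬ q ∣ (pPrimeCore p G).index :=
  let ⟨P, Q, h⟩ := h
  BC84.not_dvd_index_of_normalize hpq hps P Q fun x hx => Subgroup.mem_normalizer_iff.mpr fun y => by
    constructor
    · intro hy
      simpa [h x hx y hy] using hy
    · intro hy
      have h1 := h x hx _ hy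
      have h2 : y = x * y * x⁻¹ := by
        calc y = x⁻¹ * (x * y * x⁻¹ * x) := by group
          _ = x⁻¹ * (x * (x * y * x⁻¹)) := by rw [h1]
          _ = x * y * x⁻¹ := inv_mul_cancel_left _ _
      rw [h2]; exact hy

theorem commuting_of_not_dvd_index (h1 : ¬ q ∣ (pPrimeCore p G).index)
    (h2 : ¬ p ∣ (pPrimeCore q G).index) : Commuting p q G := by
  obtain ⟨P⟩ : Nonempty (Sylow p G) := inferInstance
  obtain ⟨Q, hQ⟩ := BC84.exists_normalized_sylow P h1
  refine ⟨P, Q, fun x hx y hy => ?_⟩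
  have hxO := sylow_le_of_not_dvd_index (N := pPrimeCore q G) P h2 hx
  have hm1 : x * y * x⁻¹ * y⁻¹ ∈ (Q : Subgroup G) :=
    mul_mem ((Subgroup.mem_normalizer_iff.mp (hQ hx) y).mp hy) (inv_mem hy)
  have hm2 : x * y * x⁻¹ * y⁻¹ ∈ pPrimeCore q G := by
    rw [mul_assoc, mul_assoc, ← mul_assoc y]
    exact mul_mem hxO (Subgroup.Normal.conj_mem inferInstance _ (inv_mem hxO) y)
  have hcop : (Nat.card (Q : Subgroup G)).Coprime (Nat.card (pPrimeCore q G)) := by
    obtain ⟨n, hn⟩ := Q.2.exists_card_eq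
    rw [hn]; exact (Thompson.card_pPrimeCore_coprime (p := q) (G := G)).symm.pow_left n
  have h1' : x * y * x⁻¹ * y⁻¹ = 1 :=
    Subgroup.mem_bot.mp (Subgroup.inf_eq_bot_of_coprime hcop ▸ ⟨hm1, hm2⟩)
  rwa [mul_inv_eq_one, mul_inv_eq_iff_eq_mul] at h1'

/-- Inside a subgroup containing `P` and of index prime to `q`, some Sylow `q`-subgroup of `G`
commutes with `P`. -/
theorem exists_commuting_sylow_le (hpq : p ≠ q) (hps : IsPSolvable p G) (hqs : IsPSolvable q G)
    (hc : Commuting p q G) {P : Sylow p G} {U : Subgroup G} (hPU : (P : Subgroup G) ≤ U)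
    (hU : ¬ q ∣ U.index) :
    ∃ Q : Sylow q G, (Q : Subgroup G) ≤ U ∧
      (Q : Subgroup G) ≤ Subgroup.centralizer (P : Set G) := by
  have h1 := not_dvd_index_of_commuting hpq hps hc
  have h2 := not_dvd_index_of_commuting hpq.symm hqs hc.symm
  let P' : Sylow p U := P.subtype hPU
  have hidx : ∀ {a b : ℕ}, [Fact a.Prime] → ¬ b ∣ (pPrimeCore a G).index →
      ¬ b ∣ (pPrimeCore a U).index := fun {a b} _ hh hd => by
    refine hh (hd.trans ?_)
    refine (Subgroup.index_dvd_of_le (Thompson.le_pPrimeCore (inferInstance :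
      ((pPrimeCore a G).subgroupOf U).Normal) ?_)).trans (Subgroup.relIndex_dvd_index_of_normal _ _)
    exact (Thompson.card_pPrimeCore_coprime (p := a) (G := G)).coprime_dvd_left
      (Subgroup.card_comap_dvd_of_injective _ _ U.subtype_injective)
  obtain ⟨Q, hQ⟩ := BC84.exists_normalized_sylow (q := q) P' (hidx h1)
  have hQi : ¬ q ∣ ((Q : Subgroup U).map U.subtype).index := by
    rw [Subgroup.index_map_subtype]
    exact fun hd => (hq.out.dvd_mul.mp hd).elim Q.not_dvd_index hU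
  refine ⟨(Q.2.map U.subtype).toSylow hQi, Subgroup.map_subtype_le _, ?_⟩
  rintro _ ⟨y, hy, rfl⟩
  rw [Subgroup.mem_centralizer_iff]
  intro x hx
  have hxO : (⟨x, hPU hx⟩ : U) ∈ pPrimeCore q U :=
    sylow_le_of_not_dvd_index P' (hidx h2) hx
  have hm1 : (⟨x, hPU hx⟩ : U) * y * (⟨x, hPU hx⟩ : U)⁻¹ * y⁻¹ ∈ (Q : Subgroup U) :=
    mul_mem ((Subgroup.mem_normalizer_iff.mp (hQ hx) y).mp hy) (inv_mem hy)
  have hm2 : (⟨x, hPU hx⟩ : U) * y * (⟨x, hPU hx⟩ : U)⁻¹ * y⁻¹ ∈ pPrimeCore q U := by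
    rw [mul_assoc, mul_assoc, ← mul_assoc y]
    exact mul_mem hxO (Subgroup.Normal.conj_mem inferInstance _ (inv_mem hxO) y)
  have hcop : (Nat.card (Q : Subgroup U)).Coprime (Nat.card (pPrimeCore q U)) := by
    obtain ⟨n, hn⟩ := Q.2.exists_card_eq
    rw [hn]; exact (Thompson.card_pPrimeCore_coprime (p := q) (G := U)).symm.pow_left n
  have h1' : (⟨x, hPU hx⟩ : U) * y * (⟨x, hPU hx⟩ : U)⁻¹ * y⁻¹ = 1 :=
    Subgroup.mem_bot.mp (Subgroup.inf_eq_bot_of_coprime hcop ▸ ⟨hm1, hm2⟩)
  rw [mul_inv_eq_one, mul_inv_eq_iff_eq_mul] at h1'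
  exact congrArg Subtype.val h1'

/-- Two Sylow subgroups centralising `P` are conjugate by an element centralising `P`. -/
theorem exists_conj_of_centralizing {P : Subgroup G} (Q Q' : Sylow q G)
    (hQ : (Q : Subgroup G) ≤ Subgroup.centralizer (P : Set G))
    (hQ' : (Q' : Subgroup G) ≤ Subgroup.centralizer (P : Set G)) {K : Subgroup G}
    (hK : (Q : Subgroup G) ≤ K) (hK' : (Q' : Subgroup G) ≤ K) :
    ∃ y ∈ K ⊓ Subgroup.centralizer (P : Set G),
      ∀ z, z ∈ (Q : Subgroup G) ↔ y * z * y⁻¹ ∈ (Q' : Subgroup G) := by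
  obtain ⟨⟨y, hy⟩, h⟩ := MulAction.exists_smul_eq (K ⊓ Subgroup.centralizer (P : Set G) : Subgroup G)
    (Q.subtype (le_inf hK hQ)) (Q'.subtype (le_inf hK' hQ'))
  refine ⟨y, hy, fun z => ?_⟩
  have h' := congrArg Sylow.toSubgroup h
  simp only [Sylow.coe_subgroup_smul, Sylow.coe_subtype] at h'
  constructor
  · intro hz
    have : (MulAut.conj (⟨y, hy⟩ : ↥(K ⊓ Subgroup.centralizer (P : Set G)))) •
        (⟨z, hK hz, hQ hz⟩ : ↥(K ⊓ Subgroup.centralizer (P : Set G))) ∈
          (Q' : Subgroup G).subgroupOf _ := h' ▸ Subgroup.smul_mem_pointwise_smul _ _ _ hz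
    exact this
  · intro hz
    have hz' : (⟨y * z * y⁻¹, hK' hz, hQ' hz⟩ : ↥(K ⊓ Subgroup.centralizer (P : Set G))) ∈
        (Q' : Subgroup G).subgroupOf _ := hz
    rw [← h'] at hz'
    obtain ⟨w, hw, hwe⟩ := hz'
    have h2 : y * (w : G) * y⁻¹ = y * z * y⁻¹ := congrArg Subtype.val hwe
    have h3 : (w : G) = z := by simpa using h2
    exact h3 ▸ hw

/-- The stabiliser of a function on a normal subgroup. -/
def inertia {α : Type*} (R : Subgroup G) [hR : R.Normal] (f : R → α) : Subgroup G where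
  carrier := {g | ∀ n : R, f ⟨g * n * g⁻¹, hR.conj_mem (n : G) n.2 g⟩ = f n}
  one_mem' := fun n => congrArg f (Subtype.ext (by simp))
  mul_mem' := fun {g h} hg hh n => by
    refine Eq.trans ?_ ((hg ⟨h * n * h⁻¹, hR.conj_mem (n : G) n.2 h⟩).trans (hh n))
    exact congrArg f (Subtype.ext (by simp [mul_assoc]))
  inv_mem' := fun {g} hg n => by
    refine (hg ⟨g⁻¹ * n * g⁻¹⁻¹, hR.conj_mem (n : G) n.2 g⁻¹⟩).symm.trans ?_
    exact congrArg f (Subtype.ext (by group))

theorem mem_inertia {α : Type*} {R : Subgroup G} [hR : R.Normal] {f : R → α} {g : G} :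
    g ∈ inertia R f ↔ ∀ n : R, f ⟨g * n * g⁻¹, hR.conj_mem (n : G) n.2 g⟩ = f n := Iff.rfl

theorem le_inertia_of_classFun (R : Subgroup G) [hR : R.Normal] {f : R → ℂ}
    (hf : Cfsg.IsClassFunction R f) : R ≤ inertia R f := fun g hg n =>
  (congrArg f (Subtype.ext rfl)).trans (hf n ⟨g, hg⟩)

/-- An invariant character of a normal `p'`-subgroup lies under a character of `p'`-degree. -/
theorem exists_pPrime_over (R : Subgroup G) [R.Normal] (hpR : ¬ p ∣ Nat.card R)
    (P : Sylow p G) (θ : Cfsg.IrrCharacter R) (hθ : (P : Subgroup G) ≤ inertia R (θ : R → ℂ)) :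
    ∃ χ : Cfsg.IrrCharacter G, ¬ p ∣ charDegree (χ : G → ℂ) ∧
      (inertia R (θ : R → ℂ)).index ∣ charDegree (χ : G → ℂ) := by
  classical
  have := Fintype.ofFinite G
  have := Fintype.ofFinite R
  set U := R ⊔ (P : Subgroup G) with hUdef
  have := Fintype.ofFinite U
  set R' := R.subgroupOf U
  have := Fintype.ofFinite R'
  let e : R' ≃* R := Subgroup.subgroupOfEquivOfLe le_sup_left
  let θ' : Cfsg.IrrCharacter R' :=
    ⟨fun n => (θ : R → ℂ) (e n),
      CharCore.isIrrCharacter_comp_surjective θ.2 e.toMonoidHom e.surjective⟩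
  have hinv : CharDeep.Ext.Inv R' (θ' : R' → ℂ) := fun t n =>
    (sup_le (le_inertia_of_classFun R (CharCore.irr_isClassFunction θ)) hθ t.2) (e n)
  have hidx : ∃ k, R'.index = p ^ k := by
    obtain ⟨k, hk⟩ := (P.2.map (QuotientGroup.mk' R)).exists_card_eq
    refine ⟨k, ?_⟩
    rw [show R'.index = R.relIndex U from rfl, Thompson.relIndex_eq_card_map_mk',
      Subgroup.map_sup, (Subgroup.map_eq_bot_iff _).mpr (by rw [QuotientGroup.ker_mk']),
      bot_sup_eq, hk]
  obtain ⟨k, hk⟩ := hidx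
  have hd : (θ' : R' → ℂ) 1 = (charDegree (θ : R → ℂ) : ℂ) := by
    show (θ : R → ℂ) (e 1) = _
    rw [map_one, apply_one_eq]
  have hpθ : ¬ p ∣ charDegree (θ : R → ℂ) := fun h => hpR (h.trans (charDegree_dvd_card θ))
  have hcop : Nat.Coprime R'.index
      (Cfsg.detOrder (θ' : R' → ℂ) * charDegree (θ : R → ℂ)) := by
    rw [hk]
    refine Nat.Coprime.pow_left k (hp.out.coprime_iff_not_dvd.mpr ?_)
    intro h
    rcases hp.out.dvd_mul.mp h with h | h
    · refine hpR (h.trans ?_)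
      rw [CharDeep.Ext.detOrder_eq, ← Nat.card_congr e.toEquiv]
      refine orderOf_dvd_of_pow_eq_one (MonoidHom.ext fun n => ?_)
      rw [MonoidHom.pow_apply, ← map_pow, pow_card_eq_one', map_one, MonoidHom.one_apply]
    · exact hpθ h
  obtain ⟨η, ⟨hη, hext, -⟩, -⟩ := CharDeep.Ext.exists_ext_detOrder R' θ'.2 hinv hd hcop
  have hηc := CharCore.IsIrrCharacter.isCharacter hη
  obtain ⟨m, hm⟩ := CharCore.IsCharacter.exists_sum (CharInd.isCharacter_indFun U hηc)
  have hU : ¬ p ∣ U.index := fun h =>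
    P.not_dvd_index (h.trans (Subgroup.index_dvd_of_le le_sup_right))
  have hdeg : (∑ χ, m χ * charDegree (χ : G → ℂ)) = U.index * charDegree (θ : R → ℂ) := by
    have h1 := congrFun hm 1
    rw [CharInd.indFun_apply_one, show η 1 = (charDegree (θ : R → ℂ) : ℂ) from
      (hext 1).trans hd] at h1
    simp only [Finset.sum_apply, Pi.smul_apply, smul_eq_mul, apply_one_eq] at h1
    exact_mod_cast h1.symm
  obtain ⟨χ, hmχ, hχp⟩ : ∃ χ, m χ ≠ 0 ∧ ¬ p ∣ charDegree (χ : G → ℂ) := by
    by_contra hno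
    push Not at hno
    refine (hp.out.dvd_mul.mp (hdeg ▸ Finset.dvd_sum fun χ _ => ?_)).elim hU hpθ
    by_cases h0 : m χ = 0
    · simp [h0]
    · exact dvd_mul_of_dvd_right (hno χ h0) _
  refine ⟨χ, hχp, ?_⟩
  have hswap : Cfsg.classInner (fun t : U => (χ : G → ℂ) t) η ≠ 0 := by
    rw [← CharInd.classInner_swap,
      ← CharInd.classInner_indFun_left U η (CharCore.irr_isClassFunction χ), hm,
      CharCore.classInner_sum_all (fun ψ => (m ψ : ℂ)) χ, map_natCast]
    exact_mod_cast hmχ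
  obtain ⟨b, hb⟩ := CharCore.IsCharacter.exists_sum
    (CharCore.isCharacter_restrict (CharCore.irr_isCharacter χ) U)
  let ηI : Cfsg.IrrCharacter U := ⟨η, hη⟩
  have hbη : b ηI ≠ 0 := fun h => hswap (by
    rw [hb]
    exact (CharCore.classInner_sum_all (fun ψ => (b ψ : ℂ)) ηI).trans (by rw [h, Nat.cast_zero]))
  have hnat : ∀ ψ : Cfsg.IrrCharacter U, ∃ a : ℕ,
      Cfsg.classInner (fun n : R => (ψ : U → ℂ) ⟨(n : G), le_sup_left (b := (P : Subgroup G)) n.2⟩)
        (θ : R → ℂ) = a := fun ψ =>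
    CharCore.IsCharacter.exists_classInner_irr_eq_natCast
      (CharCore.isCharacter_comp (CharCore.irr_isCharacter ψ) (Subgroup.inclusion le_sup_left)) θ
  choose a ha using hnat
  have haη : a ηI = 1 := by
    have h := ha ηI
    rw [show (fun n : R => (ηI : U → ℂ) ⟨(n : G), le_sup_left (b := (P : Subgroup G)) n.2⟩) =
      (θ : R → ℂ) from funext fun n => hext ⟨⟨(n : G), le_sup_left (b := (P : Subgroup G)) n.2⟩, n.2⟩,
      CharCore.classInner_irr_self θ] at h
    exact_mod_cast h.symm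
  have hcon : Cfsg.classInner (fun n : R => (χ : G → ℂ) n) (θ : R → ℂ) ≠ 0 := by
    have e : (fun n : R => (χ : G → ℂ) n) = ∑ ψ : Cfsg.IrrCharacter U, (b ψ : ℂ) •
        fun n : R => (ψ : U → ℂ) ⟨(n : G), le_sup_left (b := (P : Subgroup G)) n.2⟩ := by
      funext n
      have := congrFun hb ⟨(n : G), le_sup_left (b := (P : Subgroup G)) n.2⟩
      simpa [Finset.sum_apply] using this
    rw [e, CharCore.classInner_sum_left]
    simp only [CharCore.classInner_smul_left, ha, ← Nat.cast_mul, ← Nat.cast_sum, Nat.cast_ne_zero]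
    intro h0
    have := Finset.sum_eq_zero_iff.mp h0 ηI (Finset.mem_univ _)
    rw [haη, mul_one] at this
    exact hbη this
  obtain ⟨ψ, hψ, hind, -⟩ := CharDeep.Ext.exists_inertia_induced R θ.2 (inertia R (θ : R → ℂ))
    (fun g => Iff.rfl) (le_inertia_of_classFun R (CharCore.irr_isClassFunction θ)) χ.2 hcon
  refine ⟨charDegree ψ, ?_⟩
  have h1 := congrFun hind 1
  rw [CharInd.indFun_apply_one, apply_one_eq χ, show ψ 1 = (charDegree ψ : ℂ) from
    apply_one_eq ⟨ψ, hψ⟩] at h1
  exact_mod_cast h1.symm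

/-- A minimal normal subgroup of a `p`-solvable group is a `p`-group or a `p'`-group. -/
theorem isPGroup_or_coprime_of_minimal (hps : IsPSolvable p G) (R : Subgroup G) [R.Normal]
    (hmin : ∀ K : Subgroup G, K.Normal → K ≤ R → K = ⊥ ∨ K = R) :
    IsPGroup p R ∨ ¬ p ∣ Nat.card R := by
  rcases subsingleton_or_nontrivial R with hs | hs
  · exact Or.inl fun r => ⟨0, Subsingleton.elim _ _⟩
  rcases Thompson.pCore_ne_bot_or_pPrimeCore_ne_bot (Thompson.isPSolvable_subgroup R hps) with h | h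
  · left
    rcases hmin ((pCore p R).map R.subtype) inferInstance (Subgroup.map_subtype_le _) with h' | h'
    · exact absurd ((Subgroup.map_eq_bot_iff_of_injective _ R.subtype_injective).mp h') h
    · have := (Thompson.isPGroup_pCore (p := p) (G := R)).map R.subtype
      rwa [h'] at this
  · right
    rcases hmin ((pPrimeCore p R).map R.subtype) inferInstance (Subgroup.map_subtype_le _) with h' | h'
    · exact absurd ((Subgroup.map_eq_bot_iff_of_injective _ R.subtype_injective).mp h') h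
    · intro hd
      rw [← h'] at hd
      exact hp.out.coprime_iff_not_dvd.mp
        (Thompson.card_pPrimeCore_coprime (p := p) (G := R)).symm
        (hd.trans (Subgroup.card_map_dvd _ _))

/-- The centralizer of `P` normalizes `Q`. -/
theorem centralizer_le_normalizer : ∀ (n : ℕ) (X : Type u) [Group X] [Finite X], Nat.card X = n →
    p ≠ q → IsPSolvable p X → IsPSolvable q X →
    (∀ χ : Cfsg.IrrCharacter X, ¬ p ∣ charDegree (χ : X → ℂ) → ¬ q ∣ charDegree (χ : X → ℂ)) →
    ∀ (P : Sylow p X) (Q : Sylow q X),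
      (∀ x ∈ (P : Subgroup X), ∀ y ∈ (Q : Subgroup X), x * y = y * x) →
      Subgroup.centralizer (P : Set X) ≤ Subgroup.normalizer ((Q : Subgroup X) : Set X) := by
  intro n
  induction n using Nat.strong_induction_on with
  | _ n ih =>
  intro X _ _ hn hpq hps hqs hdeg P Q hPQ y hy
  rcases subsingleton_or_nontrivial X with hs | hs
  · rw [Subsingleton.elim y 1]; exact one_mem _
  obtain ⟨R, hRn, hR1, hmin⟩ := Solvable.exists_minimal_normal X
  have hQC : (Q : Subgroup X) ≤ Subgroup.centralizer (P : Set X) := fun z hz =>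
    Subgroup.mem_centralizer_iff.mpr fun x hx => hPQ x hx z hz
  -- induction: `QR` is normalised
  let π := QuotientGroup.mk' R
  have hπ : Function.Surjective π := QuotientGroup.mk'_surjective R
  have hlt : Nat.card (X ⧸ R) < n := by
    rw [← hn, ← Subgroup.index_eq_card, ← R.index_mul_card]
    exact lt_mul_of_one_lt_right (Nat.pos_of_ne_zero Subgroup.index_ne_zero_of_finite)
      (Subgroup.one_lt_card_iff_ne_bot _ |>.mpr hR1)
  have hQR : ∀ g ∈ Subgroup.centralizer (P : Set X), ∀ z,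
      z ∈ (Q : Subgroup X) ⊔ R ↔ g * z * g⁻¹ ∈ (Q : Subgroup X) ⊔ R := by
    intro g hg z
    have h := ih _ hlt (X ⧸ R) rfl hpq (Thompson.isPSolvable_quotient R hps)
      (Thompson.isPSolvable_quotient R hqs) (fun θ hθ => by
        have hd : charDegree (((inflEquiv R θ).1 : Cfsg.IrrCharacter X) : X → ℂ) =
            charDegree (θ : X ⧸ R → ℂ) :=
          charDegree_eq (show (θ : X ⧸ R → ℂ) ((1 : X) : X ⧸ R) = _ by
            rw [QuotientGroup.mk_one]; exact apply_one_eq θ)
        rw [← hd] at hθ ⊢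
        exact hdeg _ hθ) (P.mapSurjective hπ) (Q.mapSurjective hπ) (by
        rintro _ ⟨a, ha, rfl⟩ _ ⟨b, hb, rfl⟩
        rw [← map_mul, ← map_mul, hPQ a ha b hb]) (x := π g) (by
        rw [Subgroup.mem_centralizer_iff]
        rintro _ ⟨a, ha, rfl⟩
        rw [← map_mul, ← map_mul, Subgroup.mem_centralizer_iff.mp hg a ha])
    rw [← Solvable.comap_map_mk', Subgroup.mem_comap, Subgroup.mem_comap, map_mul, map_mul, map_inv]
    exact Subgroup.mem_normalizer_iff.mp h (π z)
  rcases isPGroup_or_coprime_of_minimal (p := q) hqs R hmin with hqR | hqR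
  · have hle : R ≤ Q := IsPGroup.le_sylow_of_normal hqR Q
    rw [Subgroup.mem_normalizer_iff]
    simpa [sup_eq_left.mpr hle] using hQR y hy
  -- it remains to see that the fixed points of `P` on `R` centralise `Q`
  suffices hfix : ∀ c ∈ R ⊓ Subgroup.centralizer (P : Set X), ∀ b ∈ (Q : Subgroup X),
      b * c = c * b by
    let Q' : Sylow q X :=
      Q.mapSurjective (f := (MulAut.conj y).toMonoidHom) (MulAut.conj y).surjective
    have hQ'C : (Q' : Subgroup X) ≤ Subgroup.centralizer (P : Set X) := by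
      rintro _ ⟨z, hz, rfl⟩
      exact mul_mem (mul_mem hy (hQC hz)) (inv_mem hy)
    have hQ'K : (Q' : Subgroup X) ≤ (Q : Subgroup X) ⊔ R := by
      rintro _ ⟨z, hz, rfl⟩
      exact (hQR y hy z).mp (Subgroup.mem_sup_left hz)
    obtain ⟨w, ⟨hwK, hwC⟩, hw⟩ :=
      exists_conj_of_centralizing Q Q' hQC hQ'C le_sup_left hQ'K
    obtain ⟨b, hb, r, hr, rfl⟩ := Subgroup.mem_sup_of_normal_right.mp hwK
    have hrC : r ∈ Subgroup.centralizer (P : Set X) := by
      simpa using mul_mem (inv_mem (hQC hb)) hwC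
    have hbN : b ∈ Subgroup.normalizer ((Q : Subgroup X) : Set X) := Subgroup.le_normalizer hb
    have hrN : r ∈ Subgroup.normalizer ((Q : Subgroup X) : Set X) := by
      rw [Subgroup.mem_normalizer_iff]
      intro z
      constructor
      · intro hz
        rwa [← hfix r ⟨hr, hrC⟩ z hz, mul_inv_cancel_right]
      · intro hz
        have h1 := hfix r ⟨hr, hrC⟩ _ hz
        have h2 : r * z = r * (r * z * r⁻¹) := by rw [← h1]; group
        rwa [mul_left_cancel h2]
    have hQQ : ∀ u, u ∈ (Q' : Subgroup X) ↔ u ∈ (Q : Subgroup X) := fun u => by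
      have h1 := hw ((b * r)⁻¹ * u * (b * r))
      have h2 := Subgroup.mem_normalizer_iff.mp (mul_mem hbN hrN) ((b * r)⁻¹ * u * (b * r))
      rw [show b * r * ((b * r)⁻¹ * u * (b * r)) * (b * r)⁻¹ = u by group] at h1 h2
      exact h1.symm.trans h2
    rw [Subgroup.mem_normalizer_iff]
    intro z
    rw [← hQQ (y * z * y⁻¹)]
    exact (Subgroup.mem_map_iff_mem (f := (MulAut.conj y).toMonoidHom)
      (MulAut.conj y).injective).symm
  intro c hc b hb
  rcases isPGroup_or_coprime_of_minimal (p := p) hps R hmin with hpR | hpR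
  · exact (hPQ c (IsPGroup.le_sylow_of_normal hpR P hc.1) b hb).symm
  have hcomm : Commuting p q X := ⟨P, Q, hPQ⟩
  let φ : (P : Subgroup X) →* MulAut R := MulAut.conjNormal.comp (P : Subgroup X).subtype
  obtain ⟨k, hk⟩ := Q.2 ⟨b, hb⟩
  have hk' : b ^ q ^ k = 1 := by simpa using congrArg Subtype.val hk
  haveI := Fintype.ofFinite R
  have h := CoprimeFix.apply_eq_self (q := q) (k := k) P.2 φ hpR hqR
    (MulAut.conjNormal b : MulAut R) (by rw [← map_pow, hk', map_one])
    (fun a r => Subtype.ext (by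
      simp only [φ, MonoidHom.comp_apply, Subgroup.subtype_apply, MulAut.conjNormal_apply]
      calc b * ((a : X) * r * (a : X)⁻¹) * b⁻¹ = (b * a) * r * (b * a)⁻¹ := by group
        _ = (a * b) * r * (a * b)⁻¹ := by rw [hPQ a a.2 b hb]
        _ = _ := by group))
    (fun θ hθ => ?_) (c := ⟨c, hc.1⟩) (fun a => Subtype.ext (by
      simp only [φ, MonoidHom.comp_apply, Subgroup.subtype_apply, MulAut.conjNormal_apply]
      rw [Subgroup.mem_centralizer_iff.mp hc.2 a a.2, mul_inv_cancel_right]))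
  · have h' := congrArg Subtype.val h
    rw [MulAut.conjNormal_apply] at h'
    exact mul_inv_eq_iff_eq_mul.mp h'
  -- every invariant character is fixed by `Q`
  intro r
  have hPT : (P : Subgroup X) ≤ inertia R (θ : R → ℂ) := fun a ha n =>
    (congrArg (θ : R → ℂ) (Subtype.ext rfl)).trans (hθ ⟨a, ha⟩ n)
  obtain ⟨χ, hχp, hχT⟩ := exists_pPrime_over R hpR P θ hPT
  obtain ⟨Q₁, hQ₁T, hQ₁C⟩ := exists_commuting_sylow_le hpq hps hqs hcomm hPT
    (fun hd => hdeg χ hχp (hd.trans hχT))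
  obtain ⟨g, ⟨-, hgC⟩, hg⟩ := exists_conj_of_centralizing (K := ⊤) Q₁ Q hQ₁C hQC le_top le_top
  have hle : (Q : Subgroup X) ⊔ R ≤ inertia R (θ : R → ℂ) := by
    refine sup_le (fun z hz => ?_) (le_inertia_of_classFun R (CharCore.irr_isClassFunction θ))
    have h4 : z ∈ (Q₁ : Subgroup X) ⊔ R := by
      have hK : (Q : Subgroup X) ⊔ R ≤
          ((Q₁ : Subgroup X) ⊔ R).comap (MulAut.conj g⁻¹).toMonoidHom := by
        refine sup_le (fun u hu => ?_) (fun u hu => Subgroup.mem_sup_right ?_)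
        · show g⁻¹ * u * g⁻¹⁻¹ ∈ (Q₁ : Subgroup X) ⊔ R
          rw [inv_inv]
          exact Subgroup.mem_sup_left ((hg _).mpr (by group; exact hu))
        · exact hRn.conj_mem u hu g⁻¹
      have h3 : g⁻¹ * (g * z * g⁻¹) * g⁻¹⁻¹ ∈ (Q₁ : Subgroup X) ⊔ R :=
        hK ((hQR g hgC z).mp (Subgroup.mem_sup_left hz))
      simpa [mul_assoc] using h3
    exact sup_le hQ₁T (le_inertia_of_classFun R (CharCore.irr_isClassFunction θ)) h4
  exact (congrArg (θ : R → ℂ) (Subtype.ext (MulAut.conjNormal_apply b r))).trans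
    (hle (Subgroup.mem_sup_left hb) r)

end Cfsg.Agent.BC87.CommSylow
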