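import Cfsg.Agent.BC87.CommSylowMain
import Cfsg.Agent.S0915

/-!
# The principal block of a `p`-solvable group
-/

set_option autoImplicit false

namespace Cfsg.Agent.BC87.CommSylow

open Cfsg

universe u

variable {G : Type u} [Group G] [Finite G] {p : ℕ} [hp : Fact p.Prime] {M : Ideal Cfsg.AlgInt}

/-- The principal block consists of the characters trivial on `O_{p'}(G)`. -/
theorem mem_principalBlock_iff_le_kerChar (hM : IsPModular p M) (hps : IsPSolvable p G)
    (χ : Cfsg.IrrCharacter G) :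
    χ ∈ principalBlock M G ↔ pPrimeCore p G ≤ kerChar χ := by
  have := BlocksCore.isPrime hM
  constructor
  · intro hχ k hk
    exact BlocksDefect.kernel_of_sameBlock hM (χ := triv G) (ψ := χ) hχ (pPrimeCore p G)
      (hp.out.coprime_iff_not_dvd.mp (Thompson.card_pPrimeCore_coprime (p := p) (G := G)).symm)
      (fun n _ => rfl) k hk
  · intro hle
    obtain ⟨ψ, rfl⟩ := BlocksDefect.exists_inflate_eq (pPrimeCore p G) χ fun n hn => hle hn
    exact BlocksDefect.sameBlock_inflate (pPrimeCore p G) hM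
      (S0915.result p M hM (Thompson.isPSolvable_quotient _ hps)
        (Thompson.pPrimeCore_quotient_pPrimeCore (p := p) (G := G))
        (triv (G ⧸ pPrimeCore p G)) ψ)

omit hp in
theorem charDegree_dvd_index {χ : Cfsg.IrrCharacter G} {K : Subgroup G} [K.Normal]
    (h : K ≤ kerChar χ) : charDegree (χ : G → ℂ) ∣ K.index := by
  obtain ⟨θ, hθ⟩ := (inflEquiv K).surjective ⟨χ, h⟩
  have h1 : ((inflEquiv K θ).1 : G → ℂ) 1 = (χ : G → ℂ) 1 := by rw [hθ]
  rw [inflEquiv_apply, QuotientGroup.mk_one] at h1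
  have hd : charDegree (χ : G → ℂ) = charDegree (θ : G ⧸ K → ℂ) :=
    charDegree_eq (h1.symm.trans (apply_one_eq θ))
  rw [hd, Subgroup.index_eq_card]
  exact charDegree_dvd_card θ

/-- Some character of `p'`-degree is nontrivial on a normal subgroup of index prime to `p`. -/
theorem not_dvd_card_of_forall_le_kerChar (R : Subgroup G) [R.Normal] (hR : ¬ p ∣ R.index)
    (h : ∀ χ : Cfsg.IrrCharacter G, ¬ p ∣ charDegree (χ : G → ℂ) → R ≤ kerChar χ) :
    ¬ p ∣ Nat.card G := by
  classical
  intro hdvd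
  have := Fintype.ofFinite G
  have := Fintype.ofFinite (G ⧸ R)
  let d : Cfsg.IrrCharacter G → ℕ := fun χ => charDegree (χ : G → ℂ) ^ 2
  have h1 : ∑ χ, d χ = Nat.card G := by
    have h2 := CharCore.sum_degree_sq (G := G)
    simp only [apply_one_eq] at h2
    exact_mod_cast h2
  have h2 : ∑ θ : Cfsg.IrrCharacter (G ⧸ R), charDegree (θ : G ⧸ R → ℂ) ^ 2 = R.index := by
    have h3 := CharCore.sum_degree_sq (G := G ⧸ R)
    simp only [apply_one_eq] at h3
    rw [Subgroup.index_eq_card]
    exact_mod_cast h3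
  have h3 : ∑ χ ∈ Finset.univ.filter (fun χ => R ≤ kerChar χ), d χ = R.index := by
    rw [← h2, Finset.sum_subtype _ (p := fun χ => R ≤ kerChar χ) (by simp) d]
    refine (Fintype.sum_equiv (inflEquiv R) _ _ fun θ => ?_).symm
    show _ = charDegree ((inflEquiv R θ).1 : G → ℂ) ^ 2
    congr 1
  refine hR (h3 ▸ ?_)
  have h4 : p ∣ ∑ χ ∈ Finset.univ.filter (fun χ => ¬ R ≤ kerChar χ), d χ :=
    Finset.dvd_sum fun χ hχ => dvd_pow (not_not.mp fun hn => (Finset.mem_filter.mp hχ).2 (h χ hn))
      two_ne_zero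
  rw [← h1, ← Finset.sum_filter_add_sum_filter_not Finset.univ (fun χ => R ≤ kerChar χ)] at hdvd
  exact (Nat.dvd_add_left h4).mp hdvd

end Cfsg.Agent.BC87.CommSylow
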