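import Cfsg.Agent.BC87.CommSylow

/-!
# The main induction for commuting Sylow subgroups
-/

set_option autoImplicit false
set_option linter.unusedSectionVars false
set_option linter.style.haveILetI false

open Subgroup

namespace Cfsg.Agent.BC87.CommSylow

universe u

open Cfsg

variable {p q : ℕ} [hp : Fact p.Prime] [hq : Fact q.Prime]

/-- A coprime automorphism commuting with a `p`-group of operators on an abelian `p`-group and
fixing its fixed points is trivial. -/
theorem eq_one_of_fixed_fixed {A P : Type*} [CommGroup A] [Finite A] [Group P]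
    (hA : IsPGroup p A) (hP : IsPGroup p P) (ρ : P →* MulAut A) (σ : MulAut A) {m : ℕ}
    (hm : σ ^ m = 1) (hmp : ¬ p ∣ m) (hσ : ∀ a x, σ (ρ a x) = ρ a (σ x))
    (hfix : ∀ x, (∀ a, ρ a x = x) → σ x = x) : σ = 1 := by
  let f : A →* A :=
    { toFun := fun x => σ x / x
      map_one' := by simp
      map_mul' := fun x y => by rw [map_mul, mul_div_mul_comm] }
  by_contra hne
  have hI : f.range ≠ ⊥ := by
    intro hb
    refine hne (MulEquiv.ext fun x => div_eq_one.mp ?_)
    exact Subgroup.mem_bot.mp (hb ▸ (⟨x, rfl⟩ : f x ∈ f.range))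
  let _ : MulAction P f.range :=
    { smul := fun a w => ⟨ρ a w, by
        obtain ⟨x, hx⟩ := w.2
        refine ⟨ρ a x, ?_⟩
        rw [← hx]
        show σ (ρ a x) / ρ a x = ρ a (σ x / x)
        rw [map_div, hσ]⟩
      one_smul := fun w => Subtype.ext (show ρ 1 (w : A) = w by rw [map_one]; rfl)
      mul_smul := fun a b w => Subtype.ext
        (show ρ (a * b) (w : A) = ρ a (ρ b w) by rw [map_mul]; rfl) }
  have hdvd : p ∣ Nat.card f.range :=
    (hA.to_subgroup _).card_eq_or_dvd.resolve_left fun h => hI (Subgroup.card_eq_one.mp h)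
  obtain ⟨⟨w, hw⟩, hwfix, hw1⟩ := hP.exists_fixed_point_of_prime_dvd_card_of_fixed_point
    f.range hdvd (a := 1) (fun a => Subtype.ext (show ρ a 1 = 1 from map_one _))
  have hwσ : σ w = w := hfix w fun a => congrArg Subtype.val (hwfix a)
  obtain ⟨x, rfl⟩ := hw
  have hx : σ x = x * f x := by show σ x = x * (σ x / x); rw [mul_div_cancel]
  have hj : ∀ j : ℕ, (σ ^ j) x = x * f x ^ j := by
    intro j
    induction j with
    | zero => simp
    | succ j ih => rw [pow_succ', MulAut.mul_apply, ih, map_mul, map_pow, hwσ, hx, pow_succ',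
        mul_assoc]
  have h1 : f x ^ m = 1 := mul_left_cancel (a := x) (by rw [← hj m, hm, mul_one]; rfl)
  obtain ⟨k, hk⟩ := hA (f x)
  have h2 := pow_gcd_eq_one.mpr ⟨h1, hk⟩
  rw [Nat.Coprime.gcd_eq_one ((hp.out.coprime_iff_not_dvd.mpr hmp).symm.pow_right k), pow_one] at h2
  exact hw1 (Subtype.ext h2.symm)

/-- The transpose of an automorphism. -/
def dualAut {N B : Type*} [Group N] [CommGroup B] : MulAut N →* MulAut (N →* B) where
  toFun a :=
    { toFun := fun l => l.comp (a⁻¹).toMonoidHom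
      invFun := fun l => l.comp a.toMonoidHom
      left_inv := fun l => MonoidHom.ext fun x => by simp
      right_inv := fun l => MonoidHom.ext fun x => by simp
      map_mul' := fun l m => MonoidHom.ext fun x => rfl }
  map_one' := MulEquiv.ext fun l => MonoidHom.ext fun x => by simp
  map_mul' a b := MulEquiv.ext fun l => MonoidHom.ext fun x => by simp [mul_inv_rev]

/-- The key step: `q` is prime to the index of `O_{p'}(G)`. -/
theorem not_dvd_index_of_hdeg {G : Type u} [Group G] [Finite G] (hpq : p ≠ q)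
    (hps : IsPSolvable p G) (hqs : IsPSolvable q G) (h1 : HDeg p q G) (h2 : HDeg q p G)
    (ih : ∀ (X : Type u) [Group X] [Finite X], Nat.card X < Nat.card G → IsPSolvable p X →
      IsPSolvable q X → HDeg p q X → HDeg q p X → Commuting p q X) :
    ¬ q ∣ (pPrimeCore p G).index := by
  have hquot : ∀ (N : Subgroup G) [N.Normal], N ≠ ⊥ → Commuting p q (G ⧸ N) := fun N _ hN =>
    ih (G ⧸ N) (by
      rw [← Subgroup.index_eq_card, ← N.index_mul_card]
      exact lt_mul_of_one_lt_right (Nat.pos_of_ne_zero Subgroup.index_ne_zero_of_finite)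
        (Subgroup.one_lt_card_iff_ne_bot _ |>.mpr hN))
      (Thompson.isPSolvable_quotient N hps) (Thompson.isPSolvable_quotient N hqs)
      (h1.of_surjective _ (QuotientGroup.mk'_surjective N))
      (h2.of_surjective _ (QuotientGroup.mk'_surjective N))
  by_cases hO : pPrimeCore p G = ⊥
  swap
  · have h := not_dvd_index_of_commuting hpq (Thompson.isPSolvable_quotient _ hps) (hquot _ hO)
    rwa [Thompson.pPrimeCore_quotient_pPrimeCore, Subgroup.index_bot, ← Subgroup.index_eq_card]
      at h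
  rcases subsingleton_or_nontrivial G with hs | hs
  · rw [hO, Subgroup.index_bot, Nat.card_of_subsingleton (1 : G)]
    exact hq.out.not_dvd_one
  have hOp : pCore p G ≠ ⊥ :=
    (Thompson.pCore_ne_bot_or_pPrimeCore_ne_bot hps).resolve_right (fun h => h hO)
  obtain ⟨N, hNn, hN1, hNle, hmin⟩ := Solvable.exists_minimal_normal_le (pCore p G) hOp
  have hNp : IsPGroup p N := (Thompson.isPGroup_pCore (p := p) (G := G)).to_le hNle
  haveI : Group.IsSolvable N := Coprime.isSolvable_of_isNilpotent' hNp.isNilpotent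
  haveI hNc : IsMulCommutative N := Solvable.isMulCommutative_of_minimal_normal N hN1 hmin
  obtain ⟨a, ha⟩ := hNp.exists_card_eq
  have hqN : ¬ q ∣ Nat.card N := fun h => hpq ((Nat.prime_dvd_prime_iff_eq hq.out hp.out).mp
    (hq.out.dvd_of_dvd_pow (ha ▸ h))).symm
  set L := (pPrimeCore p (G ⧸ N)).comap (QuotientGroup.mk' N) with hL
  have hqL : ¬ q ∣ L.index := by
    rw [hL, Subgroup.index_comap_of_surjective _ (QuotientGroup.mk'_surjective N)]
    exact not_dvd_index_of_commuting hpq (Thompson.isPSolvable_quotient N hps) (hquot N hN1)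
  have hNL : N ≤ L := fun n hn => by
    show QuotientGroup.mk' N n ∈ pPrimeCore p (G ⧸ N)
    rw [QuotientGroup.mk'_apply, (QuotientGroup.eq_one_iff n).mpr hn]; exact one_mem _
  have hrel : (N.relIndex L).Coprime p := by
    rw [Thompson.relIndex_eq_card_map_mk', hL,
      Subgroup.map_comap_eq_self_of_surjective (QuotientGroup.mk'_surjective N)]
    exact Thompson.card_pPrimeCore_coprime
  have hcop : (Nat.card (N.subgroupOf L)).Coprime (N.subgroupOf L).index := by
    rw [Nat.card_congr (Subgroup.subgroupOfEquivOfLe hNL).toEquiv, ha]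
    exact hrel.symm.pow_left a
  obtain ⟨H₀, hH₀⟩ := Subgroup.exists_right_complement'_of_coprime hcop
  set H := H₀.map L.subtype with hH
  have hHL : H ≤ L := Subgroup.map_subtype_le _
  have hHcard : Nat.card H = N.relIndex L := by
    rw [hH, Subgroup.card_map_of_injective L.subtype_injective]
    exact (hH₀.symm.index_eq_card).symm
  have hdisj : N ⊓ H = ⊥ := Subgroup.inf_eq_bot_of_coprime (by
    rw [hHcard, ha]; exact hrel.symm.pow_left a)
  have hLsup : L ≤ N ⊔ H := fun z hz => by
    obtain ⟨⟨⟨⟨n, hnL⟩, hn⟩, ⟨t, ht⟩⟩, hnt⟩ := hH₀.2 ⟨z, hz⟩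
    have : n * (t : G) = z := congrArg Subtype.val hnt
    rw [← this]
    exact Subgroup.mul_mem_sup hn ⟨t, ht, rfl⟩
  set X := Subgroup.normalizer (H : Set G)
  have hNN : N ≤ Subgroup.normalizer (N : Set G) := Subgroup.le_normalizer
  -- Frattini argument
  have hG : ∀ g : G, g ∈ N ⊔ X := by
    intro g
    have hconjle : H.map (MulAut.conj g).toMonoidHom ≤ N ⊔ H := by
      rintro _ ⟨z, hz, rfl⟩
      exact hLsup ((inferInstance : L.Normal).conj_mem z (hHL hz) g)
    obtain ⟨n, hn, hconj⟩ := Coprime.exists_conj_le_of_comm N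
      (H.map (MulAut.conj g).toMonoidHom) H
      (fun z _ => by rw [Subgroup.normalizer_eq_top (H := N)]; exact Subgroup.mem_top _)
      (fun z _ => by rw [Subgroup.normalizer_eq_top (H := N)]; exact Subgroup.mem_top _) hconjle (by
        rw [ha, Nat.card_congr (Subgroup.equivMapOfInjective H _
          (MulAut.conj g).injective).symm.toEquiv, hHcard]
        exact hrel.pow_right a) (by rw [ha, hHcard]; exact hrel.pow_right a)
    have hgn : n * g ∈ X := by
      rw [Subgroup.mem_normalizer_iff_map_conj_eq]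
      refine Subgroup.eq_of_le_of_card_ge ?_
        (Subgroup.card_map_of_injective (MulAut.conj (n * g)).injective).ge
      rintro _ ⟨z, hz, rfl⟩
      have := hconj _ ⟨z, hz, rfl⟩
      simpa [mul_assoc] using this
    have : g = n⁻¹ * (n * g) := by group
    rw [this]
    exact Subgroup.mul_mem_sup (inv_mem hn) hgn
  have hNX : N ⊓ X ≤ Subgroup.centralizer (H : Set G) := by
    rintro n ⟨hn, hnX⟩
    rw [Subgroup.mem_centralizer_iff]
    intro t ht
    have h : n * t * n⁻¹ * t⁻¹ ∈ N ⊓ H :=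
      ⟨by rw [mul_assoc, mul_assoc, ← mul_assoc t]
          exact mul_mem hn (hNn.conj_mem _ (inv_mem hn) t),
        (H.mul_mem ((Subgroup.mem_normalizer_iff.mp hnX t).mp ht) (H.inv_mem ht) : _)⟩
    rw [hdisj, Subgroup.mem_bot, mul_inv_eq_one, mul_inv_eq_iff_eq_mul] at h
    exact h.symm
  have hcase : N ⊓ Subgroup.centralizer (H : Set G) = ⊥ ∨
      N ⊓ Subgroup.centralizer (H : Set G) = N := by
    refine hmin _ ⟨fun z hz g => ?_⟩ inf_le_left
    obtain ⟨n, hn, t, ht, rfl⟩ := Subgroup.mem_sup_of_normal_left.mp (hG g)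
    have h1 : t * z * t⁻¹ ∈ N ⊓ Subgroup.centralizer (H : Set G) := by
      refine ⟨hNn.conj_mem z hz.1 t, Subgroup.mem_centralizer_iff.mpr fun u hu => ?_⟩
      have hu' : t⁻¹ * u * t ∈ H := (Subgroup.mem_normalizer_iff.mp ht _).mpr (by group; exact hu)
      have h2 := Subgroup.mem_centralizer_iff.mp hz.2 _ hu'
      calc u * (t * z * t⁻¹) = t * ((t⁻¹ * u * t) * z) * t⁻¹ := by group
        _ = t * (z * (t⁻¹ * u * t)) * t⁻¹ := by rw [h2]
        _ = t * z * t⁻¹ * u := by group
    have e : n * t * z * (n * t)⁻¹ = t * z * t⁻¹ := by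
      have h3 : n * (t * z * t⁻¹) = t * z * t⁻¹ * n :=
        congrArg Subtype.val (hNc.is_comm.comm ⟨n, hn⟩ ⟨_, hNn.conj_mem z hz.1 t⟩)
      calc n * t * z * (n * t)⁻¹ = n * (t * z * t⁻¹) * n⁻¹ := by group
        _ = t * z * t⁻¹ * n * n⁻¹ := by rw [h3]
        _ = _ := by group
    rwa [e]
  rcases hcase with hcase | hcase
  swap
  · -- `H` is normal, hence trivial
    have hnorm : N ≤ X := fun n hn => by
      rw [Subgroup.mem_normalizer_iff]
      intro z
      have hc := Subgroup.mem_centralizer_iff.mp ((hcase.ge.trans inf_le_right) hn)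
      constructor
      · intro hz; rwa [← hc z hz, mul_inv_cancel_right]
      · intro hz
        have h5 : n * z = n * (n * z * n⁻¹) := by rw [← hc _ hz]; group
        rwa [mul_left_cancel h5]
    have hHn : H.Normal := ⟨fun z hz g =>
      (Subgroup.mem_normalizer_iff.mp ((sup_le hnorm le_rfl) (hG g)) z).mp hz⟩
    have hHb : H = ⊥ := le_bot_iff.mp (hO ▸ Thompson.le_pPrimeCore hHn (hHcard ▸ hrel))
    have hLN : L = N := le_antisymm (hLsup.trans (by rw [hHb, sup_bot_eq])) hNL
    rw [hO, Subgroup.index_bot]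
    intro h
    rw [← Subgroup.index_mul_card N, hLN.symm] at h
    rcases hq.out.dvd_mul.mp h with h | h
    exacts [hqL h, hqN (hLN ▸ h)]
  -- now `X` is a complement
  have hNX1 : N ⊓ X = ⊥ := le_bot_iff.mp (hcase ▸ le_inf inf_le_left hNX)
  have hcompl : Subgroup.IsComplement' N X :=
    Subgroup.isComplement'_of_disjoint_and_mul_eq_univ (disjoint_iff.mpr hNX1) (by
      rw [← Subgroup.normal_mul]
      exact Set.eq_univ_of_forall hG)
  let π : G →* X :=
    (hcompl.symm.QuotientMulEquiv).toMonoidHom.comp (QuotientGroup.mk' N)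
  have hπs : Function.Surjective π :=
    (hcompl.symm.QuotientMulEquiv).surjective.comp (QuotientGroup.mk'_surjective N)
  have hπker : ∀ g, π g = 1 ↔ g ∈ N := fun g => by
    show (hcompl.symm.QuotientMulEquiv) (g : G ⧸ N) = 1 ↔ _
    rw [MulEquiv.map_eq_one_iff, QuotientGroup.eq_one_iff]
  have hπX : ∀ t : X, π t = t := fun t => (hcompl.symm.QuotientMulEquiv).apply_symm_apply t
  have hτ : ∀ g, g * (π g : G)⁻¹ ∈ N := fun g => by
    rw [← hπker, map_mul, map_inv, hπX, mul_inv_cancel]
  have hpsX : IsPSolvable p X := Thompson.isPSolvable_subgroup X hps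
  have hqsX : IsPSolvable q X := Thompson.isPSolvable_subgroup X hqs
  have hcomm : Commuting p q X := ih X (by
    rw [← hcompl.card_mul_card]
    exact lt_mul_of_one_lt_left Nat.card_pos (Subgroup.one_lt_card_iff_ne_bot _ |>.mpr hN1))
    hpsX hqsX (h1.of_surjective π hπs) (h2.of_surjective π hπs)
  obtain ⟨P, Q, hPQ⟩ := hcomm
  have hdeg : ∀ χ : Cfsg.IrrCharacter G, ¬ p ∣ charDegree (χ : G → ℂ) →
      ¬ q ∣ charDegree (χ : G → ℂ) := fun χ => h1 χ (hO ▸ bot_le)
  have hYN := centralizer_le_normalizer _ X rfl hpq hpsX hqsX (fun θ hθ => by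
    let χ : Cfsg.IrrCharacter G :=
      ⟨fun g => (θ : X → ℂ) (π g), CharCore.isIrrCharacter_comp_surjective θ.2 π hπs⟩
    have hd : charDegree (χ : G → ℂ) = charDegree (θ : X → ℂ) :=
      charDegree_eq (show (θ : X → ℂ) (π 1) = _ by rw [map_one]; exact apply_one_eq θ)
    rw [← hd] at hθ ⊢
    exact hdeg χ hθ) P Q hPQ
  -- the dual of `N`
  letI : CommGroup N := { (inferInstance : Group N) with mul_comm := hNc.is_comm.comm }
  obtain ⟨eD⟩ := CommGroup.monoidHom_mulEquiv_of_hasEnoughRootsOfUnity N ℂ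
  haveI : Finite (N →* ℂˣ) := Finite.of_equiv _ eD.symm.toEquiv
  have hDp : IsPGroup p (N →* ℂˣ) := hNp.of_equiv eD.symm
  let act : X →* MulAut (N →* ℂˣ) := dualAut.comp ((MulAut.conjNormal).comp X.subtype)
  have hact : ∀ (t : X) (l : N →* ℂˣ) (n : N),
      act t l n = l ((MulAut.conjNormal (t : G) : MulAut N)⁻¹ n) := fun _ _ _ => rfl
  have hfix : ∀ b ∈ (Q : Subgroup X), act b = 1 := by
    intro b hb
    obtain ⟨k, hk⟩ := Q.2 ⟨b, hb⟩
    refine eq_one_of_fixed_fixed hDp P.2 (act.comp (P : Subgroup X).subtype) (act b)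
      (m := q ^ k) (by
        rw [← map_pow, show b ^ q ^ k = 1 by simpa using congrArg Subtype.val hk, map_one])
      (fun h => hpq ((Nat.prime_dvd_prime_iff_eq hp.out hq.out).mp (hp.out.dvd_of_dvd_pow h)))
      (fun c l => by
        show (act b * act (c : X)) l = (act (c : X) * act b) l
        rw [← map_mul, ← map_mul, hPQ c c.2 b hb]) fun l hl => ?_
    let T := inertia N (fun n => (l n : ℂ))
    have hNT : N ≤ T := fun g hg n => congrArg (fun z : N => (l z : ℂ)) (Subtype.ext (by
      have h3 : g * (n : G) = n * g := congrArg Subtype.val (hNc.is_comm.comm ⟨g, hg⟩ n)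
      show g * (n : G) * g⁻¹ = n
      rw [h3, mul_inv_cancel_right]))
    have hPT : ∀ t ∈ (P : Subgroup X), (t : G) ∈ T := fun t ht n => by
      have h3 : act (t⁻¹ : X) l = l := hl ⟨t⁻¹, inv_mem ht⟩
      have h4 := congrArg Units.val (DFunLike.congr_fun h3 n)
      rw [hact, Subgroup.coe_inv, map_inv, inv_inv] at h4
      exact (congrArg (fun z : N => (l z : ℂ))
        (Subtype.ext (MulAut.conjNormal_apply (t : G) n).symm)).trans h4
    set U := T.subgroupOf X with hU
    have hTU : T = U.comap π := by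
      ext g
      have : g = g * (π g : G)⁻¹ * (π g : G) := by group
      constructor
      · intro hg
        show (π g : G) ∈ T
        have h3 : (π g : G) = (g * (π g : G)⁻¹)⁻¹ * g := by group
        rw [h3]
        exact mul_mem (inv_mem (hNT (hτ g))) hg
      · intro hg
        rw [this]
        exact mul_mem (hNT (hτ g)) hg
    have hidx : T.index = U.index := by rw [hTU, Subgroup.index_comap_of_surjective _ hπs]
    -- the extension of `l` to `T`
    have hmul : ∀ x y : T, l ⟨(x * y : T) * (π (x * y : T) : G)⁻¹, hτ _⟩ =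
        l ⟨(x : G) * (π (x : G) : G)⁻¹, hτ _⟩ * l ⟨(y : G) * (π (y : G) : G)⁻¹, hτ _⟩ := by
      intro x y
      have hπxT : (π (x : G) : G) ∈ T := by
        have h3 : (π (x : G) : G) = ((x : G) * (π (x : G) : G)⁻¹)⁻¹ * x := by group
        rw [h3]; exact mul_mem (inv_mem (hNT (hτ _))) x.2
      have h5 := Units.ext (hπxT ⟨(y : G) * (π (y : G) : G)⁻¹, hτ _⟩)
      rw [← h5, ← map_mul]
      refine congrArg l (Subtype.ext ?_)
      simp only [Subgroup.coe_mul, map_mul]
      group
    let η : T →* ℂˣ :=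
      { toFun := fun x => l ⟨(x : G) * (π (x : G) : G)⁻¹, hτ _⟩
        map_one' := by
          rw [show (⟨((1 : T) : G) * (π ((1 : T) : G) : G)⁻¹, hτ _⟩ : N) = 1 from
            Subtype.ext (by simp), map_one]
        map_mul' := hmul }
    haveI := Fintype.ofFinite G
    haveI := Fintype.ofFinite N
    haveI := Fintype.ofFinite T
    let ϑ : Cfsg.IrrCharacter N := ⟨fun n => (l n : ℂ), CharCore.isIrrCharacter_hom l⟩
    have hres : (fun n : N => ((⟨fun x => (η x : ℂ), CharCore.isIrrCharacter_hom η⟩ :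
        Cfsg.IrrCharacter T) : T → ℂ) ⟨(n : G), hNT n.2⟩) = (ϑ : N → ℂ) := funext fun n => by
      refine congrArg (fun z : N => (l z : ℂ)) (Subtype.ext ?_)
      show (n : G) * (π (n : G) : G)⁻¹ = n
      rw [(hπker n).mpr n.2]; simp
    have hirr := BC87.isIrrCharacter_indFun_inertia (T := T) ϑ.2 (fun g => Iff.rfl) hNT
      ⟨fun x => (η x : ℂ), CharCore.isIrrCharacter_hom η⟩
      (by rw [hres, CharCore.classInner_irr_self ϑ]; exact one_ne_zero)
    have hd : charDegree ((⟨_, hirr⟩ : Cfsg.IrrCharacter G) : G → ℂ) = T.index :=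
      charDegree_eq (show Cfsg.indFun T (fun x => (η x : ℂ)) 1 = _ by
        rw [CharInd.indFun_apply_one, map_one, Units.val_one, mul_one])
    have hPU : (P : Subgroup X) ≤ U := fun t ht => hPT t ht
    have hpT : ¬ p ∣ charDegree ((⟨_, hirr⟩ : Cfsg.IrrCharacter G) : G → ℂ) := by
      rw [hd, hidx]
      exact fun h => P.not_dvd_index (h.trans (Subgroup.index_dvd_of_le hPU))
    have hqU : ¬ q ∣ U.index := by
      have := hdeg _ hpT
      rwa [hd, hidx] at this
    obtain ⟨Q₁, hQ₁U, hQ₁C⟩ := exists_commuting_sylow_le hpq hpsX hqsX ⟨P, Q, hPQ⟩ hPU hqU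
    obtain ⟨y, ⟨-, hy⟩, hyc⟩ := exists_conj_of_centralizing (K := ⊤) Q₁ Q hQ₁C
      (fun z hz => Subgroup.mem_centralizer_iff.mpr fun x hx => hPQ x hx z hz) le_top le_top
    have hbU : b ∈ U := hQ₁U ((hyc b).mpr ((Subgroup.mem_normalizer_iff.mp (hYN hy) b).mp hb))
    refine MonoidHom.ext fun n => Units.ext ?_
    have h3 := (inv_mem (show (b : G) ∈ T from hbU) : (b : G)⁻¹ ∈ T) n
    rw [hact, ← map_inv]
    exact (congrArg (fun z : N => (l z : ℂ))
      (Subtype.ext (MulAut.conjNormal_apply (b : G)⁻¹ n))).trans h3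
  -- so `Q` centralises `N` and lies in a normal `p'`-subgroup
  have hQC : ∀ b ∈ (Q : Subgroup X), (b : G) ∈ Subgroup.centralizer (N : Set G) := by
    intro b hb
    rw [Subgroup.mem_centralizer_iff]
    intro n hn
    have h3 : ∀ l : N →* ℂˣ, l ((MulAut.conjNormal (b : G) : MulAut N)⁻¹ ⟨n, hn⟩) = l ⟨n, hn⟩ :=
      fun l => by rw [← hact, hfix b hb]; rfl
    have h4 : (MulAut.conjNormal (b : G) : MulAut N)⁻¹ ⟨n, hn⟩ = ⟨n, hn⟩ := by
      by_contra hne
      obtain ⟨l, hl⟩ := CommGroup.exists_apply_ne_one_of_hasEnoughRootsOfUnity N ℂ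
        (fun h => hne (div_eq_one.mp h))
      exact hl (by rw [map_div, h3, div_self'])
    rw [← map_inv] at h4
    have h5 := congrArg Subtype.val h4
    rw [MulAut.conjNormal_apply, inv_inv] at h5
    calc n * b = (b : G) * ((b : G)⁻¹ * n * b) := by group
      _ = b * n := by rw [h5]
  have hQL : ∀ b ∈ (Q : Subgroup X), (b : G) ∈ H := by
    intro b hb
    obtain ⟨R, hR⟩ := (Q.2.map X.subtype).exists_le_sylow
    have hbL := sylow_le_of_not_dvd_index (N := L) R hqL (hR ⟨b, hb, rfl⟩)
    obtain ⟨n, hn, t, ht, hnt⟩ := Subgroup.mem_sup_of_normal_left.mp (hLsup hbL)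
    have hn1 : n ∈ N ⊓ X := ⟨hn, by
      have h6 : n = (b : G) * t⁻¹ := by rw [← show n * t = (b : G) from hnt, mul_inv_cancel_right]
      rw [h6]; exact X.mul_mem b.2 (X.inv_mem (Subgroup.le_normalizer (SetLike.mem_coe.mp ht)))⟩
    rw [hNX1, Subgroup.mem_bot] at hn1
    rw [← show n * t = (b : G) from hnt, hn1, one_mul]
    exact ht
  have hZ : (H ⊓ Subgroup.centralizer (N : Set G)).Normal := ⟨fun z hz g => by
    obtain ⟨n, hn, t, ht, rfl⟩ := Subgroup.mem_sup_of_normal_left.mp (hG g)
    have h7 : t * z * t⁻¹ ∈ H ⊓ Subgroup.centralizer (N : Set G) :=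
      ⟨(Subgroup.mem_normalizer_iff.mp ht z).mp hz.1,
        (inferInstance : (Subgroup.centralizer (N : Set G)).Normal).conj_mem z hz.2 t⟩
    have e : n * t * z * (n * t)⁻¹ = t * z * t⁻¹ := by
      calc n * t * z * (n * t)⁻¹ = n * (t * z * t⁻¹) * n⁻¹ := by group
        _ = t * z * t⁻¹ * n * n⁻¹ := by rw [Subgroup.mem_centralizer_iff.mp h7.2 n hn]
        _ = _ := by group
    rwa [e]⟩
  have hZb : H ⊓ Subgroup.centralizer (N : Set G) = ⊥ := le_bot_iff.mp (hO ▸
    Thompson.le_pPrimeCore hZ ((hHcard ▸ hrel).coprime_dvd_left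
      (Subgroup.card_dvd_of_le inf_le_left)))
  have hQb : (Q : Subgroup X) = ⊥ := (Subgroup.eq_bot_iff_forall _).mpr fun b hb =>
    Subtype.ext (Subgroup.mem_bot.mp (hZb ▸ ⟨hQL b hb, hQC b hb⟩))
  rw [hO, Subgroup.index_bot, ← hcompl.card_mul_card]
  intro h
  rcases hq.out.dvd_mul.mp h with h | h
  · exact hqN h
  · have := Q.ne_bot_of_dvd_card h
    exact this hQb

/-- Both degree conditions imply that Sylow subgroups commute. -/
theorem commuting_of_hdeg (hpq : p ≠ q) : ∀ (n : ℕ) (G : Type u) [Group G] [Finite G],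
    Nat.card G = n → IsPSolvable p G → IsPSolvable q G → HDeg p q G → HDeg q p G →
      Commuting p q G := by
  intro n
  induction n using Nat.strong_induction_on with
  | _ n ih =>
  intro G _ _ hn hps hqs h1 h2
  exact commuting_of_not_dvd_index
    (not_dvd_index_of_hdeg hpq hps hqs h1 h2 fun X _ _ hlt => ih _ (hn ▸ hlt) X rfl)
    (not_dvd_index_of_hdeg hpq.symm hqs hps h2 h1 fun X _ _ hlt hq' hp' a b =>
      (ih _ (hn ▸ hlt) X rfl hp' hq' b a).symm)

end Cfsg.Agent.BC87.CommSylow
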