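import Cfsg.Agent.Lib.CharCore.Glauberman
import Mathlib.GroupTheory.Index

/-!
# An automorphism fixing the invariant characters fixes the fixed points

`A` is a `p`-group acting on `R` of order prime to `p`, `σ` an automorphism of prime power order,
prime to `|R|`, commuting with `A` and fixing each `A`-invariant irreducible character of `R`.
Then `σ` fixes every fixed point of `A`.
-/

set_option autoImplicit false

open scoped ComplexConjugate

namespace Cfsg.Agent.BC87.CoprimeFix

universe u v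

theorem eq_top_of_forall_isConj {C : Type*} [Group C] [Finite C] (D : Subgroup C)
    (h : ∀ c : C, ∃ d ∈ D, IsConj d c) : D = ⊤ := by
  let f : (C ⧸ D) × {d : D // d ≠ 1} → {c : C // c ≠ 1} := fun x =>
    ⟨x.1.out * (x.2.1 : C) * x.1.out⁻¹, fun hc =>
      x.2.2 (Subtype.ext (conj_eq_one_iff.mp hc))⟩
  have hf : Function.Surjective f := by
    rintro ⟨c, hc⟩
    obtain ⟨d, hd, hdc⟩ := h c
    obtain ⟨g, rfl⟩ := isConj_iff.mp hdc
    obtain ⟨⟨e, he⟩, hout⟩ := QuotientGroup.mk_out_eq_mul D g
    have hd' : e⁻¹ * d * e ∈ D := mul_mem (mul_mem (inv_mem he) hd) he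
    refine ⟨⟨g, ⟨⟨_, hd'⟩, fun h1 => hc ?_⟩⟩, Subtype.ext ?_⟩
    · have h2 : e⁻¹ * d * (e⁻¹)⁻¹ = 1 := by rw [inv_inv]; exact congrArg Subtype.val h1
      rw [conj_eq_one_iff.mp h2, mul_one, mul_inv_cancel]
    · show (QuotientGroup.mk g : C ⧸ D).out * (e⁻¹ * d * e) *
          (QuotientGroup.mk g : C ⧸ D).out⁻¹ = g * d * g⁻¹
      rw [hout]
      group
  have h1 := Nat.card_le_card_of_surjective f hf
  classical
  have := Fintype.ofFinite C
  rw [Nat.card_prod, Nat.card_eq_fintype_card (α := {c : C // c ≠ 1}),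
    Nat.card_eq_fintype_card (α := {d : D // d ≠ 1}), Fintype.card_subtype_compl,
    Fintype.card_subtype_compl, Fintype.card_subtype_eq, Fintype.card_subtype_eq,
    ← Subgroup.index_eq_card, ← Nat.card_eq_fintype_card, ← Nat.card_eq_fintype_card,
    ← Subgroup.index_mul_card D, Nat.mul_sub, mul_one] at h1
  refine Subgroup.index_eq_one.mp ?_
  have h2 : D.index ≤ D.index * Nat.card D := Nat.le_mul_of_pos_right _ Nat.card_pos
  have h3 : D.index ≠ 0 := Subgroup.index_ne_zero_of_finite
  omega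

variable {p : ℕ} [Fact p.Prime] {A : Type v} [Group A] {R : Type u} [Group R] [Fintype R]

open CharCore in
/-- The image of a fixed point is conjugate to it. -/
theorem isConj_apply_of_fixed (hA : IsPGroup p A) (φ : A →* MulAut R) (hpR : ¬ p ∣ Nat.card R)
    (σ : MulAut R) (hσ : ∀ (a : A) (r : R), σ (φ a r) = φ a (σ r))
    (hfix : ∀ χ : Cfsg.IrrCharacter R, IsInvFun φ (χ : R → ℂ) →
      ∀ r, (χ : R → ℂ) (σ r) = (χ : R → ℂ) r)
    {c : R} (hc : ∀ a, φ a c = c) : IsConj c (σ c) := by
  classical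
  let _ : MulAction A (Cfsg.IrrCharacter R) := irrAction φ
  have hfix' : ∀ χ : Cfsg.IrrCharacter R, (∀ b : A, b • χ = χ) → IsInvFun φ (χ : R → ℂ) :=
    fun χ h b g => by
      have h1 := congrFun (congrArg Subtype.val (h b⁻¹)) g
      change (χ : R → ℂ) ((φ b⁻¹)⁻¹ g) = _ at h1
      rwa [map_inv, inv_inv] at h1
  have hpt : ∀ (b : A) (χ : Cfsg.IrrCharacter R) (d : R), (∀ a, φ a d = d) →
      ((b • χ : Cfsg.IrrCharacter R) : R → ℂ) d = (χ : R → ℂ) d := fun b χ d hd => by
    show (χ : R → ℂ) ((φ b)⁻¹ d) = _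
    rw [← map_inv, hd]
  have hσc : ∀ a, φ a (σ c) = σ c := fun a => by rw [← hσ, hc]
  have hint : ∀ (χ : Cfsg.IrrCharacter R) (g h : R),
      IsIntegral ℤ ((χ : R → ℂ) g * conj ((χ : R → ℂ) h)) := fun χ g h => by
    rw [← irr_apply_inv]
    exact (IsCharacter.isIntegral (irr_isCharacter χ) g).mul
      (IsCharacter.isIntegral (irr_isCharacter χ) _)
  have h1 := modP_sum_sub_sum_fixed hA
    (fun χ : Cfsg.IrrCharacter R => (χ : R → ℂ) (σ c) * conj ((χ : R → ℂ) c))
    (fun χ => hint χ _ _) (fun a χ => by rw [hpt a χ _ hσc, hpt a χ _ hc])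
  have h2 := modP_sum_sub_sum_fixed hA
    (fun χ : Cfsg.IrrCharacter R => (χ : R → ℂ) c * conj ((χ : R → ℂ) c))
    (fun χ => hint χ _ _) (fun a χ => by rw [hpt a χ _ hc])
  rw [sum_apply_mul_conj] at h1 h2
  rw [if_pos (IsConj.refl c)] at h2
  by_contra hne
  rw [if_neg (fun h => hne h.symm), Finset.sum_congr rfl (g := fun χ : Cfsg.IrrCharacter R =>
    (χ : R → ℂ) c * conj ((χ : R → ℂ) c)) fun χ hχ => by
      rw [hfix χ (hfix' χ (Finset.mem_filter.mp hχ).2)]] at h1
  have h3 := h2.sub h1
  rw [zero_sub, sub_neg_eq_add, sub_add_cancel] at h3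
  exact hpR ((modP_natCast_iff.mp h3).trans (Subgroup.card_subgroup_dvd_card _))

/-- A coprime automorphism fixing all invariant characters fixes all fixed points. -/
theorem apply_eq_self (hA : IsPGroup p A) (φ : A →* MulAut R) (hpR : ¬ p ∣ Nat.card R)
    {q k : ℕ} [Fact q.Prime] (hqR : ¬ q ∣ Nat.card R)
    (σ : MulAut R) (hk : σ ^ q ^ k = 1) (hσ : ∀ (a : A) (r : R), σ (φ a r) = φ a (σ r))
    (hfix : ∀ χ : Cfsg.IrrCharacter R, CharCore.IsInvFun φ (χ : R → ℂ) →
      ∀ r, (χ : R → ℂ) (σ r) = (χ : R → ℂ) r)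
    {c : R} (hc : ∀ a, φ a c = c) : σ c = c := by
  classical
  let C : Subgroup R :=
    { carrier := {r | ∀ a, φ a r = r}
      one_mem' := fun a => map_one _
      mul_mem' := fun {x y} hx hy a => by rw [map_mul, hx, hy]
      inv_mem' := fun {x} hx a => by rw [map_inv, hx] }
  have hC : ∀ g : R, g ∈ C.subtype.range ↔ ∀ a, φ a g = g := fun g => by
    rw [Subgroup.range_subtype]; rfl
  have hmem : ∀ d : C, σ d ∈ C := fun d a => by rw [← hσ, d.2 a]
  have hinv : ∀ d : C, σ.symm d ∈ C := fun d a => σ.injective (by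
    rw [hσ, MulEquiv.apply_symm_apply, d.2 a])
  let τ : MulAut C :=
    { toFun := fun d => ⟨σ d, hmem d⟩
      invFun := fun d => ⟨σ.symm d, hinv d⟩
      left_inv := fun d => Subtype.ext (σ.symm_apply_apply _)
      right_inv := fun d => Subtype.ext (σ.apply_symm_apply _)
      map_mul' := fun d e => Subtype.ext (map_mul σ _ _) }
  have hτ : τ ^ q ^ k = 1 := by
    have key : ∀ (n : ℕ) (d : C), (((τ ^ n) d : C) : R) = (σ ^ n) d := by
      intro n
      induction n with
      | zero => intro d; rfl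
      | succ n ih => intro d; rw [pow_succ, pow_succ, MulAut.mul_apply, MulAut.mul_apply, ih]; rfl
    exact MulEquiv.ext fun d => Subtype.ext (by rw [key, hk]; rfl)
  have hB : IsPGroup q (Subgroup.zpowers τ) := by
    obtain ⟨j, -, hj⟩ := (Nat.dvd_prime_pow Fact.out).mp (orderOf_dvd_of_pow_eq_one hτ)
    exact IsPGroup.of_card ((Nat.card_zpowers τ).trans hj)
  let D : Subgroup C :=
    { carrier := {d | τ d = d}
      one_mem' := map_one _
      mul_mem' := fun {x y} hx hy => by
        show τ (x * y) = x * y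
        rw [map_mul, show τ x = x from hx, show τ y = y from hy]
      inv_mem' := fun {x} hx => by show τ x⁻¹ = x⁻¹; rw [map_inv, show τ x = x from hx] }
  have hD : D = ⊤ := eq_top_of_forall_isConj D fun d => by
    have hd : IsConj d (τ d) := CharCore.isConj_of_isConj_map C.subtype_injective hC hA hpR
      (isConj_apply_of_fixed hA φ hpR σ hσ hfix d.2)
    obtain ⟨e, he, hefix⟩ := CharCore.exists_fixed_in_invariant_set
      (φ := (Subgroup.zpowers τ).subtype) hB (fun e => IsConj d e) (fun a e he => by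
        have key : ∀ n : ℕ, IsConj d ((τ ^ n) d) := by
          intro n
          induction n with
          | zero => exact IsConj.refl d
          | succ n ih =>
            rw [pow_succ', MulAut.mul_apply]
            exact hd.trans (τ.toMonoidHom.map_isConj ih)
        obtain ⟨n, hn⟩ := (isOfFinOrder_iff_pow_eq_one.mpr
          ⟨q ^ k, pow_pos (Fact.out : q.Prime).pos k, hτ⟩).mem_zpowers_iff_mem_range_orderOf.mp a.2
            |> Finset.mem_image.mp
        rw [Subgroup.subtype_apply, ← hn.2]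
        exact (key n).trans ((τ ^ n).toMonoidHom.map_isConj he)) (by
      intro hd'
      have h : Nat.card {e : C // IsConj d e} ∣ Nat.card C := by
        have h1 : Nat.card {e : C // IsConj d e} = (MulAction.orbit (ConjAct C) d).ncard := by
          rw [ConjAct.orbit_eq_carrier_conjClasses, ← Nat.card_coe_set_eq]
          refine Nat.card_congr (Equiv.subtypeEquivRight fun y => ?_)
          rw [ConjClasses.mem_carrier_iff_mk_eq, ConjClasses.mk_eq_mk_iff_isConj]
          exact ⟨IsConj.symm, IsConj.symm⟩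
        rw [h1, ← MulAction.index_stabilizer]
        exact (Subgroup.index_dvd_card _).trans
          (dvd_of_eq (Nat.card_congr ConjAct.toConjAct.toEquiv).symm)
      exact hqR ((hd'.trans h).trans (Subgroup.card_subgroup_dvd_card _)))
    exact ⟨e, hefix ⟨τ, Subgroup.mem_zpowers τ⟩, he.symm⟩
  have : (⟨c, hc⟩ : C) ∈ D := hD ▸ Subgroup.mem_top _
  exact congrArg Subtype.val this

end Cfsg.Agent.BC87.CoprimeFix
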