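import Cfsg.Agent.BC87.IdemIdeal
import Cfsg.Agent.BC84.Covering
import Cfsg.Agent.BC85.Pairs.Idem
import Mathlib.Algebra.MonoidAlgebra.Basic
import Mathlib.RingTheory.Nakayama
import Mathlib.LinearAlgebra.Trace

/-!
# A block covering a block of a normal subgroup lies over all of its characters
-/

set_option autoImplicit false
set_option linter.unusedSectionVars false

namespace Cfsg.Agent.BC87.CoveringBlock

open BlocksCore MonoidAlgebra

universe u

attribute [local instance] Ideal.Quotient.field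

/-- The residue field of the local ring. -/
abbrev Res (M : Ideal AlgInt) [M.IsPrime] := localRing M ⧸ localIdeal M

section Red

variable {M : Ideal AlgInt} [M.IsPrime]

open Classical in
variable (M) in
/-- Reduction into the residue field. -/
noncomputable def red (z : ℂ) : Res M :=
  if h : MemLocalRing M z then Ideal.Quotient.mk _ ⟨z, h⟩ else 0

theorem red_coe (z : localRing M) : red M (z : ℂ) = Ideal.Quotient.mk _ z := by
  simp only [red]
  exact dif_pos z.2

theorem red_sub {x y : ℂ} (hx : MemLocalRing M x) (hy : MemLocalRing M y) :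
    red M (x - y) = red M x - red M y := by
  rw [show x - y = (((⟨x, hx⟩ : localRing M) - ⟨y, hy⟩ : localRing M) : ℂ) from rfl, red_coe,
    map_sub, ← red_coe, ← red_coe]

theorem red_mul {x y : ℂ} (hx : MemLocalRing M x) (hy : MemLocalRing M y) :
    red M (x * y) = red M x * red M y := by
  rw [show x * y = (((⟨x, hx⟩ : localRing M) * ⟨y, hy⟩ : localRing M) : ℂ) from rfl, red_coe,
    map_mul, ← red_coe, ← red_coe]

theorem red_sum {ι : Type*} {s : Finset ι} {f : ι → ℂ} (h : ∀ i, MemLocalRing M (f i)) :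
    red M (∑ i ∈ s, f i) = ∑ i ∈ s, red M (f i) := by
  have e : ∑ i ∈ s, f i = ((∑ i ∈ s, (⟨f i, h i⟩ : localRing M) : localRing M) : ℂ) := by
    push_cast; rfl
  rw [e, red_coe, map_sum]
  exact Finset.sum_congr rfl fun i _ => (red_coe (M := M) ⟨f i, h i⟩).symm

theorem red_eq_zero {x : ℂ} (hx : MemLocalRing M x) (h : red M x = 0) : MemLocalIdeal M x := by
  rw [show x = ((⟨x, hx⟩ : localRing M) : ℂ) from rfl, red_coe,
    Ideal.Quotient.eq_zero_iff_mem] at h
  exact h

variable (M) in
/-- A section of the reduction. -/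
noncomputable def sec (x : Res M) : ℂ :=
  ((Function.surjInv Ideal.Quotient.mk_surjective x : localRing M) : ℂ)

theorem sec_mem (x : Res M) : MemLocalRing M (sec M x) :=
  (Function.surjInv Ideal.Quotient.mk_surjective x : localRing M).2

theorem red_sec (x : Res M) : red M (sec M x) = x := by
  rw [sec, red_coe]
  exact Function.surjInv_eq Ideal.Quotient.mk_surjective x

end Red

section Oper

variable {H : Type*} [Group H] [Fintype H] {n : ℕ}

/-- The action of a function on a group in a representation. -/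
noncomputable def act (ρ : Representation ℂ H (Fin n → ℂ)) (f : H → ℂ) :
    Module.End ℂ (Fin n → ℂ) := ∑ h, f h • ρ h

theorem act_conv (ρ : Representation ℂ H (Fin n → ℂ)) (a b : H → ℂ) :
    act ρ (conv a b) = act ρ a * act ρ b := by
  simp only [act, Finset.sum_mul_sum, conv_apply, Finset.sum_smul, smul_mul_smul_comm]
  rw [Finset.sum_comm]
  refine Finset.sum_congr rfl fun y _ => Fintype.sum_equiv (Equiv.mulLeft y⁻¹) _ _ fun x => ?_
  rw [Equiv.coe_mulLeft, ← map_mul, mul_inv_cancel_left]

theorem eq_zero_of_idem_of_trace {E : Module.End ℂ (Fin n → ℂ)} (hE : E * E = E)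
    (ht : LinearMap.trace ℂ _ E = 0) : E = 0 := by
  have hproj : LinearMap.IsProj (LinearMap.range E) E :=
    LinearMap.isProj_range_iff_isIdempotentElem E |>.mpr hE
  rw [hproj.trace, Nat.cast_eq_zero, Submodule.finrank_eq_zero, LinearMap.range_eq_bot] at ht
  exact ht

end Oper

variable {G : Type u} [Group G] [Fintype G] {p : ℕ} {M : Ideal AlgInt} [M.IsPrime]
  {N : Subgroup G} [N.Normal] [Fintype N]

theorem cls {c : G → ℂ} (hc : IsClassFunction G c) (a b : G) : c (a * b) = c (b * a) := by
  have := hc (b * a) a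
  rw [show a * (b * a) * a⁻¹ = a * b by group] at this
  exact this

/-- An element of the group algebra given by its coefficients. -/
noncomputable def el (f : N → Res M) : MonoidAlgebra (Res M) N := ∑ n, single n (f n)

theorem coeff_el (f : N → Res M) (n : N) : (el f).coeff n = f n := by
  classical
  rw [el, coeff_sum, Finsupp.finsetSum_apply]
  simp [Finsupp.single_apply]

theorem el_coeff (x : MonoidAlgebra (Res M) N) : el (fun n => x.coeff n) = x :=
  MonoidAlgebra.ext (Finsupp.ext fun n => coeff_el _ n)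

theorem coeff_mul' (x y : MonoidAlgebra (Res M) N) (n : N) :
    (x * y).coeff n = ∑ u : N, x.coeff u * y.coeff (u⁻¹ * n) := by
  conv_lhs => rw [← el_coeff x, el, Finset.sum_mul, coeff_sum, Finsupp.finsetSum_apply]
  simp only [coeff_single_mul_apply]

/-- Coefficient functions to the group algebra, linearly. -/
noncomputable def elHom : (N → Res M) →ₗ[Res M] MonoidAlgebra (Res M) N where
  toFun f := el f
  map_add' f f' := MonoidAlgebra.ext (Finsupp.ext fun n => by simp [coeff_el])
  map_smul' r f := MonoidAlgebra.ext (Finsupp.ext fun n => by simp [coeff_el])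

/-- Conjugation on the group algebra of the normal subgroup. -/
noncomputable def sig (g : G) : MonoidAlgebra (Res M) N ≃ₐ[Res M] MonoidAlgebra (Res M) N :=
  MonoidAlgebra.domCongr (Res M) (Res M) (MulAut.conjNormal g : MulAut N)

theorem coeff_sig (g : G) (x : MonoidAlgebra (Res M) N) (n : N) :
    (sig g x).coeff n = x.coeff ((MulAut.conjNormal g : MulAut N).symm n) :=
  by simp [sig]

theorem sig_mem_jacobson (g : G) {x : MonoidAlgebra (Res M) N}
    (hx : x ∈ Ring.jacobson (MonoidAlgebra (Res M) N)) :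
    sig g x ∈ Ring.jacobson (MonoidAlgebra (Res M) N) := by
  let f : MonoidAlgebra (Res M) N →+* MonoidAlgebra (Res M) N := (sig g).toRingEquiv.toRingHom
  haveI : RingHomSurjective f := ⟨(sig g).surjective⟩
  exact Ring.le_comap_jacobson f hx

theorem sig_symm_mem_jacobson (g : G) {x : MonoidAlgebra (Res M) N}
    (hx : x ∈ Ring.jacobson (MonoidAlgebra (Res M) N)) :
    (sig g).symm x ∈ Ring.jacobson (MonoidAlgebra (Res M) N) := by
  let f : MonoidAlgebra (Res M) N →+* MonoidAlgebra (Res M) N := (sig g).symm.toRingEquiv.toRingHom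
  haveI : RingHomSurjective f := ⟨(sig g).symm.surjective⟩
  exact Ring.le_comap_jacobson f hx

variable (M N) in
/-- The coefficients of a function on the coset of `t`. -/
noncomputable def slice (c : G → ℂ) (t : G) : MonoidAlgebra (Res M) N :=
  el fun n : N => red M (c ((n : G) * t))

theorem coeff_slice (c : G → ℂ) (t : G) (n : N) :
    (slice M N c t).coeff n = red M (c ((n : G) * t)) := coeff_el _ n

theorem slice_twist {c : G → ℂ} (hc : IsClassFunction G c) (t : G)
    (x : MonoidAlgebra (Res M) N) : x * slice M N c t = slice M N c t * sig t x := by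
  refine MonoidAlgebra.ext (Finsupp.ext fun n => ?_)
  rw [coeff_mul', coeff_mul']
  refine Fintype.sum_equiv
    (((MulAut.conjNormal t : MulAut N).toEquiv.trans (Equiv.inv N)).trans (Equiv.mulLeft n)) _ _
    fun u => ?_
  simp only [Equiv.trans_apply, Equiv.inv_apply, Equiv.coe_mulLeft, MulEquiv.coe_toEquiv,
    coeff_slice, coeff_sig]
  show _ = red M (c (((n * ((MulAut.conjNormal t : MulAut N) u)⁻¹ : N) : G) * t)) *
    x.coeff ((MulAut.conjNormal t : MulAut N).symm
      ((n * ((MulAut.conjNormal t : MulAut N) u)⁻¹)⁻¹ * n))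
  rw [mul_inv_rev, inv_inv, inv_mul_cancel_right, MulEquiv.symm_apply_apply, mul_comm]
  congr 2
  push_cast [MulAut.conjNormal_apply]
  rw [show (n : G) * (t * (u : G) * t⁻¹)⁻¹ * t = (n : G) * t * (u : G)⁻¹ by group,
    cls hc ((n : G) * t)]
  congr 1
  group

theorem slice_conj {c : G → ℂ} (hc : IsClassFunction G c) (g t : G) :
    sig g (slice M N c t) = slice M N c (g * t * g⁻¹) := by
  refine MonoidAlgebra.ext (Finsupp.ext fun n => ?_)
  rw [coeff_sig, coeff_slice, coeff_slice]
  congr 1
  rw [MulAut.conjNormal_symm_apply, show g⁻¹ * (n : G) * g * t = g⁻¹ * ((n : G) * g * t) by group,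
    cls hc g⁻¹]
  congr 1
  group

variable (M N) in
/-- The ideal generated by the slices. -/
noncomputable def sliceIdeal {c : G → ℂ} (hc : IsClassFunction G c) :
    Ideal (MonoidAlgebra (Res M) N) where
  carrier := {z | ∃ f : G → MonoidAlgebra (Res M) N, z = ∑ t, slice M N c t * f t}
  zero_mem' := ⟨0, by simp⟩
  add_mem' := by
    rintro _ _ ⟨f, rfl⟩ ⟨f', rfl⟩
    exact ⟨f + f', by simp [mul_add, Finset.sum_add_distrib]⟩
  smul_mem' := by
    rintro r _ ⟨f, rfl⟩
    exact ⟨fun t => sig t r * f t, by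
      rw [smul_eq_mul, Finset.mul_sum]
      exact Finset.sum_congr rfl fun t _ => by rw [← mul_assoc, slice_twist hc, mul_assoc]⟩

theorem slice_mul_mem {c : G → ℂ} (hc : IsClassFunction G c) (t : G)
    (y : MonoidAlgebra (Res M) N) : slice M N c t * y ∈ sliceIdeal M N hc := by
  classical
  exact ⟨Pi.single t y, by
    rw [Finset.sum_eq_single t (fun b _ hb => by simp [Pi.single_eq_of_ne hb])
      (fun h => absurd (Finset.mem_univ t) h), Pi.single_eq_same]⟩

theorem slice_mem {c : G → ℂ} (hc : IsClassFunction G c) (t : G) :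
    slice M N c t ∈ sliceIdeal M N hc := by
  simpa using slice_mul_mem hc t (1 : MonoidAlgebra (Res M) N)

theorem slice_split [Fintype (G ⧸ N)] {c : G → ℂ} (hc : IsIntClassFun M c) (hcc : conv c c = c) (t : G) :
    slice M N c t =
      ∑ q : G ⧸ N, slice M N c q.out * slice M N c (t * q.out⁻¹) := by
  classical
  refine MonoidAlgebra.ext (Finsupp.ext fun n => ?_)
  rw [coeff_sum, Finsupp.finsetSum_apply, coeff_slice]
  simp only [coeff_mul', coeff_slice]
  have hbij : Function.Bijective fun x : (G ⧸ N) × N => (x.2 : G) * x.1.out := by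
    refine ⟨fun x y h => ?_, fun g => ?_⟩
    · have hq : x.1 = y.1 := by
        have h1 := congrArg (fun z : G => (z : G ⧸ N)) h
        simpa [(QuotientGroup.eq_one_iff (x.2 : G)).mpr x.2.2,
          (QuotientGroup.eq_one_iff (y.2 : G)).mpr y.2.2] using h1
      refine Prod.ext hq (Subtype.ext (mul_right_cancel (b := x.1.out) ?_))
      simpa [hq] using h
    · refine ⟨((g : G ⧸ N), ⟨g * (g : G ⧸ N).out⁻¹, ?_⟩), by simp⟩
      rw [← QuotientGroup.eq_one_iff]
      simp
  have hm : ∀ y, MemLocalRing M (c y * c (y⁻¹ * ((n : G) * t))) := fun y =>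
    (localRing M).mul_mem (hc.2 _) (hc.2 _)
  conv_lhs => rw [← hcc, conv_apply, red_sum hm]
  rw [← Finset.sum_product', Finset.univ_product_univ]
  refine (Fintype.sum_equiv (Equiv.ofBijective _ hbij) _ _ fun x => ?_).symm
  rw [Equiv.ofBijective_apply, red_mul (hc.2 _) (hc.2 _)]
  congr 2
  rw [show ((x.2 : G) * x.1.out)⁻¹ * ((n : G) * t) = x.1.out⁻¹ * ((x.2 : G)⁻¹ * n * t) by group,
    cls hc.1 x.1.out⁻¹]
  push_cast
  congr 1
  group

/-- The idempotent of the normal subgroup carried by a block idempotent. -/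
theorem exists_idem {c : G → ℂ} (hc : IsIntClassFun M c) (hcc : conv c c = c) :
    ∃ e ∈ sliceIdeal M N hc.1, (∀ t, slice M N c t * e = slice M N c t) ∧ ∀ g, sig g e = e := by
  classical
  haveI : Module.Finite (Res M) (MonoidAlgebra (Res M) N) :=
    Module.Finite.of_surjective (elHom (M := M) (N := N)) fun x => ⟨_, el_coeff x⟩
  haveI := Fintype.ofFinite (G ⧸ N)
  haveI : IsArtinianRing (MonoidAlgebra (Res M) N) := IsArtinianRing.of_finite (Res M) _
  set I := sliceIdeal M N hc.1 with hI
  set J := Ring.jacobson (MonoidAlgebra (Res M) N) with hJ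
  have hr : ∀ x ∈ I, ∀ r, x * r ∈ I := by
    rintro _ ⟨f, rfl⟩ r
    exact ⟨fun t => f t * r, by simp only [Finset.sum_mul, mul_assoc]⟩
  have hII : ∀ x ∈ I, x ∈ AddSubgroup.closure {z | ∃ a ∈ I, ∃ b ∈ I, z = a * b} := by
    rintro _ ⟨f, rfl⟩
    refine AddSubgroup.sum_mem _ fun t _ => ?_
    rw [slice_split hc hcc t, Finset.sum_mul]
    exact AddSubgroup.sum_mem _ fun q _ => AddSubgroup.subset_closure
      ⟨_, slice_mem hc.1 q.out, _, slice_mul_mem hc.1 (t * q.out⁻¹) (f t), mul_assoc _ _ _⟩
  have hIJ : ∀ x ∈ I, ∀ j ∈ J, x * j ∈ AddSubgroup.closure {z | ∃ a ∈ J, ∃ b ∈ I, z = a * b} := by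
    rintro _ ⟨f, rfl⟩ j hj
    rw [Finset.sum_mul]
    refine AddSubgroup.sum_mem _ fun t _ => AddSubgroup.subset_closure
      ⟨(sig t).symm (f t * j), sig_symm_mem_jacobson t (Ideal.mul_mem_left _ _ hj),
        _, slice_mem hc.1 t, ?_⟩
    rw [slice_twist hc.1, AlgEquiv.apply_symm_apply, mul_assoc]
  have hJI : ∀ x ∈ I, ∀ j ∈ J, j * x ∈ AddSubgroup.closure {z | ∃ a ∈ I, ∃ b ∈ J, z = a * b} := by
    rintro _ ⟨f, rfl⟩ j hj
    rw [Finset.mul_sum]
    refine AddSubgroup.sum_mem _ fun t _ => AddSubgroup.subset_closure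
      ⟨_, slice_mem hc.1 t, sig t j * f t,
        Ideal.mul_mem_right _ _ (sig_mem_jacobson t hj), ?_⟩
    rw [← mul_assoc, slice_twist hc.1, mul_assoc]
  obtain ⟨e, he, her, hel⟩ := exists_ideal_identity I hr hII hIJ hJI
  refine ⟨e, he, fun t => her _ (slice_mem hc.1 t), fun g => ?_⟩
  have hin : ∀ x ∈ I, sig g x ∈ I := by
    rintro _ ⟨f, rfl⟩
    rw [map_sum]
    refine Submodule.sum_mem _ fun t _ => ?_
    rw [map_mul, slice_conj hc.1]
    exact slice_mul_mem hc.1 _ _
  have hright : ∀ t, slice M N c t * sig g e = slice M N c t := by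
    intro t
    have h := congrArg (sig g) (her _ (slice_mem (N := N) hc.1 (g⁻¹ * t * g)))
    rwa [map_mul, slice_conj hc.1, show g * (g⁻¹ * t * g) * g⁻¹ = t by group] at h
  obtain ⟨f, hf⟩ := he
  calc sig g e = e * sig g e := (hel _ (hin e ⟨f, hf⟩)).symm
    _ = ∑ t, slice M N c t * f t * sig g e := by rw [← Finset.sum_mul, ← hf]
    _ = ∑ t, (sig t).symm (f t) * (slice M N c t * sig g e) := Finset.sum_congr rfl fun t _ => by
        rw [← mul_assoc, slice_twist hc.1, AlgEquiv.apply_symm_apply]
    _ = ∑ t, slice M N c t * f t := Finset.sum_congr rfl fun t _ => by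
        rw [hright t, slice_twist hc.1, AlgEquiv.apply_symm_apply]
    _ = e := hf.symm

theorem act_eq_zero {B : Set (IrrCharacter G)} {θ : IrrCharacter N}
    (hT : ∀ χ ∈ B, classInner (fun n : N => (χ : G → ℂ) n) (θ : N → ℂ) = 0)
    {m : ℕ} (ρ : Representation ℂ N (Fin m → ℂ)) [ρ.IsIrreducible]
    (hρ : ρ.character = (θ : N → ℂ)) (t : G) :
    act ρ (fun u : N => blockCoeff B ((u : G) * t)) = 0 := by
  classical
  haveI := finite_irr (G := G)
  haveI := Fintype.ofFinite (IrrCharacter G)
  haveI := finite_irr (G := N)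
  haveI := Fintype.ofFinite (IrrCharacter N)
  set ε : N → ℂ := blockCoeff ({θ} : Set (IrrCharacter N)) with hε
  have hε1 : act ρ ε = 1 := by
    rw [act, sum_smul_eq_omega_smul ρ (isClassFunction_blockCoeff _), hρ, omega_blockCoeff,
      Set.indicator_of_mem (Set.mem_singleton θ), Pi.one_apply, one_smul]
  have hεf : ∀ u, ε u = (Nat.card N : ℂ)⁻¹ * ((θ : N → ℂ) 1 * (θ : N → ℂ) u⁻¹) := by
    intro u
    rw [hε, blockCoeff_eq_sum, Finset.sum_eq_single θ]
    · simp
    · intro φ _ hφ; simp [hφ]
    · exact fun h => absurd (Finset.mem_univ θ) h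
  have hkill : ∀ χ ∈ B, ∀ x y : G, ∑ u : N, ε u * (χ : G → ℂ) (x * u * y) = 0 := by
    intro χ hχ x y
    have h0 := hT χ hχ
    obtain ⟨k, σ, -, hσ⟩ := χ.2
    let σN : Representation ℂ N (Fin k → ℂ) := σ.comp N.subtype
    have hE : act σN ε = 0 := by
      refine eq_zero_of_idem_of_trace (by rw [← act_conv, hε, conv_blockCoeff_self]) ?_
      rw [act, map_sum]
      simp only [map_smul, smul_eq_mul]
      rw [classInner] at h0
      calc ∑ u : N, ε u * LinearMap.trace ℂ _ (σN u)
          = (θ : N → ℂ) 1 * ((Nat.card N : ℂ)⁻¹ *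
              ∑ u : N, (χ : G → ℂ) u * (starRingEnd ℂ) ((θ : N → ℂ) u)) := by
            simp only [Finset.mul_sum]
            refine Finset.sum_congr rfl fun u _ => ?_
            rw [hεf, conj_irr, ← hσ]
            show _ * LinearMap.trace ℂ _ (σ (u : G)) = _ * (_ * (LinearMap.trace ℂ _ (σ (u : G)) * _))
            ring
        _ = 0 := by rw [h0, mul_zero]
    have h := congrArg (fun T => LinearMap.trace ℂ _ (σ x * T * σ y)) hE
    simp only [act, mul_zero, zero_mul, map_zero, Finset.mul_sum, Finset.sum_mul, mul_smul_comm,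
      smul_mul_assoc, map_sum, map_smul, smul_eq_mul] at h
    rw [← hσ]
    refine Eq.trans (Finset.sum_congr rfl fun u _ => ?_) h
    show _ = _ * LinearMap.trace ℂ _ (σ x * σ (u : G) * σ y)
    rw [← map_mul, ← map_mul]
    rfl
  have hconv : conv (fun u : N => blockCoeff B ((u : G) * t)) ε = 0 := by
    funext n
    rw [conv_apply, Pi.zero_apply]
    simp only [blockCoeff_eq_sum, mul_assoc, Finset.sum_mul, ← Finset.mul_sum]
    rw [Finset.sum_comm]
    refine mul_eq_zero_of_right _ (Finset.sum_eq_zero fun χ _ => ?_)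
    by_cases hχ : χ ∈ B
    · rw [← Finset.mul_sum, ← Finset.mul_sum]
      refine mul_eq_zero_of_right _ (mul_eq_zero_of_right _ ?_)
      refine Eq.trans ?_ (hkill χ hχ t⁻¹ (n : G)⁻¹)
      refine Fintype.sum_equiv ((Equiv.inv N).trans (Equiv.mulRight n)) _ _ fun u => ?_
      simp only [Equiv.trans_apply, Equiv.inv_apply, Equiv.coe_mulRight]
      rw [mul_comm]
      congr 2
      push_cast
      group
    · simp [hχ]
  have := act_conv ρ (fun u : N => blockCoeff B ((u : G) * t)) ε
  rw [hconv, hε1, mul_one] at this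
  rw [← this]
  simp [act]

/-- A block covering a block of a normal subgroup lies over each of its characters. -/
theorem exists_over_of_covers (hM : IsPModular p M) {B : Set (IrrCharacter G)}
    (hB : IsPBlock M B) {b : Set (IrrCharacter N)} (hb : IsPBlock M b)
    (hcov : ∃ χ ∈ B, ∃ θ ∈ b, classInner (fun n : N => (χ : G → ℂ) n) (θ : N → ℂ) ≠ 0)
    {θ : IrrCharacter N} (hθ : θ ∈ b) :
    ∃ χ ∈ B, classInner (fun n : N => (χ : G → ℂ) n) (θ : N → ℂ) ≠ 0 := by
  classical
  by_contra hT
  push Not at hT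
  set c : G → ℂ := blockCoeff B with hcdef
  have hc : IsIntClassFun M c := isIntClassFun_blockCoeff hM hB
  obtain ⟨e, ⟨f, hef⟩, her, hinv⟩ := exists_idem (N := N) hc (conv_blockCoeff_self B)
  set a : N → ℂ := fun n => sec M (e.coeff n) with ha
  have haG : ∀ (g : G) (n : N), a ((MulAut.conjNormal g : MulAut N) n) = a n := by
    intro g n
    have h := congrArg (fun x : MonoidAlgebra (Res M) N =>
      x.coeff ((MulAut.conjNormal g : MulAut N) n)) (hinv g)
    simp only [coeff_sig, MulEquiv.symm_apply_apply] at h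
    simp only [ha, ← h]
  have haI : IsIntClassFun M a := ⟨fun n h => by
    rw [← haG (h : G) n]; exact congrArg a (Subtype.ext (by simp)), fun n => sec_mem _⟩
  set A : G → ℂ := extendByZero N a with hA
  have hAcl : IsClassFunction G A := by
    intro g h
    by_cases hg : g ∈ N
    · rw [hA, CharInd.extendByZero_mem _ hg,
        CharInd.extendByZero_mem _ ((inferInstance : N.Normal).conj_mem g hg h), ← haG h ⟨g, hg⟩]
      exact congrArg a (Subtype.ext (MulAut.conjNormal_apply h ⟨g, hg⟩).symm)
    · have hg' : h * g * h⁻¹ ∉ N := fun hh => hg (by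
        simpa [mul_assoc] using (inferInstance : N.Normal).conj_mem _ hh h⁻¹)
      rw [hA, CharInd.extendByZero_notMem _ hg, CharInd.extendByZero_notMem _ hg']
  have hsupp : ∀ g ∉ N, A g = 0 := fun g hg => CharInd.extendByZero_notMem _ hg
  have hAI : IsIntClassFun M A := ⟨hAcl, fun g => by
    by_cases hg : g ∈ N
    · rw [hA, CharInd.extendByZero_mem _ hg]; exact sec_mem _
    · rw [hsupp g hg]; exact (localRing M).zero_mem⟩
  have hcA : ∀ g, MemLocalIdeal M (conv c A g - c g) := by
    intro g
    have hm : ∀ u : N, MemLocalRing M (c ((u : G) * g) * a u⁻¹) := fun u =>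
      (localRing M).mul_mem (hc.2 _) (sec_mem _)
    have e1 : conv c A g = ∑ u : N, c ((u : G) * g) * a u⁻¹ := by
      rw [conv_apply]
      refine (Fintype.sum_of_injective (fun u : N => g * (u : G))
        (fun u v h => Subtype.ext (mul_left_cancel h)) _ _ (fun y hy => ?_) fun u => ?_).symm
      · rw [hsupp _ fun hy' => hy ⟨⟨g⁻¹ * y, ?_⟩, mul_inv_cancel_left g y⟩, mul_zero]
        simpa using N.inv_mem hy'
      · rw [cls hc.1, hA, show (g * (u : G))⁻¹ * g = ((u⁻¹ : N) : G) by push_cast; group,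
          CharInd.extendByZero_coe]
    refine red_eq_zero ((localRing M).sub_mem (isIntClassFun_conv hc hAI |>.2 g) (hc.2 g)) ?_
    rw [red_sub (isIntClassFun_conv hc hAI |>.2 g) (hc.2 g), sub_eq_zero, e1, red_sum hm]
    have h := congrArg (fun x : MonoidAlgebra (Res M) N => x.coeff 1) (her g)
    simp only [coeff_mul', coeff_slice, mul_one, OneMemClass.coe_one, one_mul] at h
    rw [← h]
    exact Finset.sum_congr rfl fun u _ => by rw [red_mul (hc.2 _) (sec_mem _), red_sec]
  obtain ⟨χ, hχ, θ₁, hθ₁, hov⟩ := hcov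
  have h1 : MemLocalIdeal M (omega (θ₁ : N → ℂ) a - 1) := by
    have h := BC85.omega_congr χ (isIntClassFun_conv hc hAI).1 hc.1 hcA
    rw [omega_conv χ hc.1 hAcl, omega_blockCoeff, Set.indicator_of_mem hχ, Pi.one_apply, one_mul,
      BC84.omega_eq_omega_constituent χ θ₁ hov hAcl hsupp] at h
    rwa [show (fun n : N => A n) = a from funext fun n => CharInd.extendByZero_coe N _ n] at h
  have h2 : MemLocalIdeal M (omega (θ : N → ℂ) a - 1) := by
    simpa using memLocalIdeal_add (omega_sub_memLocalIdeal (sameBlock_of_mem hb hθ hθ₁) haI) h1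
  -- the idempotent annihilates the representation, contradicting Nakayama
  obtain ⟨m, ρ, hρ, hρθ⟩ := θ.2
  set F : G → N → ℂ := fun t n => sec M ((f t).coeff n) with hF
  set μ : N → ℂ :=
    fun n => a n - ∑ t, conv (fun u : N => c ((u : G) * t)) (F t) n with hμ
  have hμI : ∀ n, MemLocalIdeal M (μ n) := by
    intro n
    have hm : ∀ (t : G) (u : N), MemLocalRing M (c ((u : G) * t) * F t (u⁻¹ * n)) := fun t u =>
      (localRing M).mul_mem (hc.2 _) (sec_mem _)
    have hm' : ∀ t : G, MemLocalRing M (conv (fun u : N => c ((u : G) * t)) (F t) n) := fun t => by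
      rw [conv_apply]; exact memLocalRing_sum fun u _ => hm t u
    have hm'' := memLocalRing_sum (M := M) (s := Finset.univ) fun t _ => hm' t
    refine red_eq_zero ((localRing M).sub_mem (haI.2 n) hm'') ?_
    rw [hμ, red_sub (haI.2 n) hm'', sub_eq_zero, ha, red_sec, red_sum hm', hef, coeff_sum,
      Finsupp.finsetSum_apply]
    refine Finset.sum_congr rfl fun t _ => ?_
    rw [coeff_mul', conv_apply, red_sum (hm t)]
    exact Finset.sum_congr rfl fun u _ => by
      rw [red_mul (hc.2 _) (sec_mem _), coeff_slice, red_sec]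
  have hact : act ρ μ = omega (θ : N → ℂ) a • (1 : Module.End ℂ (Fin m → ℂ)) := by
    rw [← hρθ, ← sum_smul_eq_omega_smul ρ haI.1]
    show ∑ n : N, (a n - ∑ t, conv (fun u : N => c ((u : G) * t)) (F t) n) • ρ n = _
    rw [Finset.sum_congr rfl fun (x : N) _ =>
      sub_smul (a x) (∑ t, conv (fun u : N => c ((u : G) * t)) (F t) x) (ρ x),
      Finset.sum_sub_distrib]
    simp only [Finset.sum_smul]
    rw [sub_eq_self, Finset.sum_comm]
    refine Finset.sum_eq_zero fun t _ => ?_
    show act ρ (conv (fun u : N => c ((u : G) * t)) (F t)) = 0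
    rw [act_conv, act_eq_zero hT ρ hρθ t, zero_mul]
  have hne : Nontrivial (Fin m → ℂ) := by
    haveI : Nonempty (Fin m) := ⟨⟨0, degree_pos_of_rep ρ⟩⟩
    infer_instance
  obtain ⟨v, hv⟩ := exists_ne (0 : Fin m → ℂ)
  have hω : ¬ MemLocalIdeal M (omega (θ : N → ℂ) a) := fun h =>
    BC85.not_memLocalIdeal_of_sub_one h2 h
  obtain ⟨hω0, hωinv⟩ := memLocalRing_inv (omega_memLocalRing θ haI) hω
  let L : Submodule (localRing M) (Fin m → ℂ) :=
    Submodule.span (localRing M) (Set.range fun n : N => ρ n v)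
  have hL : L ≤ localIdeal M • L := by
    refine Submodule.span_le.mpr ?_
    rintro _ ⟨g, rfl⟩
    have e1 : ρ g v = (omega (θ : N → ℂ) a)⁻¹ • ∑ n : N, μ n • ρ (n * g) v := by
      have h := congrArg (fun T : Module.End ℂ (Fin m → ℂ) => T (ρ g v)) hact
      simp only [act, LinearMap.sum_apply, LinearMap.smul_apply, Module.End.one_apply] at h
      simp only [map_mul, Module.End.mul_apply]
      rw [h, smul_smul, inv_mul_cancel₀ hω0, one_smul]
    show ρ g v ∈ localIdeal M • L
    rw [e1, Finset.smul_sum]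
    refine Submodule.sum_mem _ fun n _ => ?_
    rw [smul_smul, mul_comm]
    exact Submodule.smul_mem_smul
      (show (⟨μ n * (omega (θ : N → ℂ) a)⁻¹, (localRing M).mul_mem
        (memLocalRing_of_memLocalIdeal (hμI n)) hωinv⟩ : localRing M) ∈ localIdeal M from
        memLocalIdeal_mul_right (hμI n) hωinv)
      (Submodule.subset_span ⟨n * g, rfl⟩)
  have hjac : localIdeal M ≤ Ideal.jacobson (⊥ : Ideal (localRing M)) := by
    intro x hx
    rw [Ideal.mem_jacobson_bot]
    intro y
    have hz : ¬ MemLocalIdeal M (((x * y + 1 : localRing M)) : ℂ) := by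
      intro h
      refine not_memLocalIdeal_one (M := M) ?_
      simpa using memLocalIdeal_sub h (memLocalIdeal_mul_right hx y.2)
    obtain ⟨hz0, hzi⟩ := memLocalRing_inv (x * y + 1 : localRing M).2 hz
    exact IsUnit.of_mul_eq_one ⟨_, hzi⟩ (Subtype.ext (mul_inv_cancel₀ hz0))
  have hbot := Submodule.eq_bot_of_le_smul_of_le_jacobson_bot (localIdeal M) L
    (Submodule.fg_span (Set.finite_range _)) hL hjac
  refine hv ((Submodule.mem_bot (localRing M)).mp (hbot ▸ Submodule.subset_span ⟨1, ?_⟩))
  simp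

end Cfsg.Agent.BC87.CoveringBlock
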