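import Cfsg.Agent.BC87.Basic
import Cfsg.Agent.Lib.CharClifford.Galois
import Mathlib.GroupTheory.Sylow
import Mathlib.GroupTheory.PGroup
import Mathlib.Tactic.FieldSimp

/-!
# Irreducible characters that are nonzero on exactly two conjugacy classes
-/

set_option autoImplicit false

open scoped ComplexConjugate
open Subgroup

namespace Cfsg.Agent.BC87

universe u

variable {G : Type u} [Group G] [Finite G]

/-- `χ` is nonzero exactly at `1` and at the conjugates of `x`. -/
structure Gag (χ : Cfsg.IrrCharacter G) (x : G) : Prop where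
  ne_one : x ≠ 1
  order : 2 < Nat.card G
  supp : ∀ g, (χ : G → ℂ) g ≠ 0 ↔ g = 1 ∨ IsConj x g

theorem exists_gag (hG : 2 < Nat.card G) (χ : Cfsg.IrrCharacter G)
    (hχ : Nat.card {C : ConjClasses G // ∃ g ∈ C.carrier, (χ : G → ℂ) g ≠ 0} = 2) :
    ∃ x, Gag χ x := by
  let one' : {C : ConjClasses G // ∃ g ∈ C.carrier, (χ : G → ℂ) g ≠ 0} :=
    ⟨ConjClasses.mk 1, 1, ConjClasses.mem_carrier_mk, CharCore.irr_apply_one_ne_zero χ⟩
  obtain ⟨C, hC, huniq⟩ := (Nat.card_eq_two_iff' one').mp hχ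
  obtain ⟨x, hx, hx0⟩ := C.2
  have hxC : ConjClasses.mk x = C.1 := ConjClasses.mem_carrier_iff_mk_eq.mp hx
  refine ⟨x, fun h1 => hC (Subtype.ext (by rw [← hxC, h1])), hG,
    fun g => ⟨fun hg => ?_, ?_⟩⟩
  · by_cases h1 : (⟨ConjClasses.mk g, g, ConjClasses.mem_carrier_mk, hg⟩ :
        {C : ConjClasses G // ∃ g ∈ C.carrier, (χ : G → ℂ) g ≠ 0}) = one'
    · left
      exact isConj_one_left.mp (ConjClasses.mk_eq_mk_iff_isConj.mp (congrArg Subtype.val h1))
    · right
      exact ConjClasses.mk_eq_mk_iff_isConj.mp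
        (hxC.trans (congrArg Subtype.val (huniq _ h1)).symm)
  · rintro (rfl | h)
    · exact CharCore.irr_apply_one_ne_zero χ
    · rwa [← (CharCore.isConj_iff_forall_irr x g).mp h χ]

/-- The size of the class of `x`. -/
noncomputable def classSize (x : G) : ℕ := Nat.card {g : G // IsConj x g}

theorem classSize_pos (x : G) : 0 < classSize x := by
  have : Nonempty {g : G // IsConj x g} := ⟨⟨x, IsConj.refl x⟩⟩
  exact Nat.card_pos

/-- The intersection of the kernels of the other irreducible characters. -/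
noncomputable def gagN (χ : Cfsg.IrrCharacter G) : Subgroup G :=
  ⨅ ψ : {ψ : Cfsg.IrrCharacter G // ψ ≠ χ}, kerChar ψ.1

theorem mem_gagN' {χ : Cfsg.IrrCharacter G} {g : G} :
    g ∈ gagN χ ↔ ∀ ψ, ψ ≠ χ → g ∈ kerChar ψ := by
  simp [gagN, Subgroup.mem_iInf]

instance gagN_normal (χ : Cfsg.IrrCharacter G) : (gagN χ).Normal :=
  Subgroup.normal_iInf_normal fun ψ => kerChar_normal ψ.1

namespace Gag

variable {χ : Cfsg.IrrCharacter G} {x : G}

theorem apply_ne_zero (h : Gag χ x) : (χ : G → ℂ) x ≠ 0 :=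
  (h.supp x).mpr (Or.inr (IsConj.refl x))

theorem sum_eq (h : Gag χ x) [Fintype G] (f : G → ℂ)
    (hf : ∀ g, g ≠ 1 → ¬ IsConj x g → f g = 0) (hc : ∀ g, IsConj x g → f g = f x) :
    ∑ g, f g = f 1 + classSize x * f x := by
  classical
  rw [← Finset.add_sum_erase _ _ (Finset.mem_univ (1 : G))]
  congr 1
  calc ∑ g ∈ Finset.univ.erase 1, f g = ∑ g ∈ Finset.univ.filter (IsConj x), f g := by
        refine (Finset.sum_subset (fun g hg => ?_) fun g hg hg' => ?_).symm
        · refine Finset.mem_erase.mpr ⟨fun h1 => h.ne_one ?_, Finset.mem_univ _⟩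
          exact isConj_one_left.mp (h1 ▸ (Finset.mem_filter.mp hg).2)
        · exact hf g (Finset.ne_of_mem_erase hg) fun hc' => hg' (Finset.mem_filter.mpr ⟨Finset.mem_univ _, hc'⟩)
    _ = _ := by
        rw [Finset.sum_congr rfl fun g hg => hc g (Finset.mem_filter.mp hg).2, Finset.sum_const,
          nsmul_eq_mul]
        congr 2
        rw [classSize, Nat.card_eq_fintype_card, Fintype.card_subtype]

theorem ne_triv (h : Gag χ x) : χ ≠ triv G := by
  rintro rfl
  have hall : ∀ g : G, g ≠ 1 → IsConj x g := fun g hg =>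
    ((h.supp g).mp (by simp)).resolve_left hg
  have hc : classSize x + 1 = Nat.card G := by
    classical
    have := Fintype.ofFinite G
    have := h.sum_eq (fun _ => (1 : ℂ)) (fun g hg hc => absurd (hall g hg) hc) fun _ _ => rfl
    simp only [Finset.sum_const, Finset.card_univ, nsmul_eq_mul, mul_one] at this
    rw [Nat.card_eq_fintype_card]
    have : Fintype.card G = 1 + classSize x := by exact_mod_cast this
    omega
  have hdvd : classSize x ∣ Nat.card G := ⟨_, (card_isConj_mul_card_centralizer x).symm⟩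
  have : classSize x ∣ 1 := (Nat.dvd_add_right dvd_rfl).mp (hc.symm ▸ hdvd)
  have := h.order
  simp only [Nat.dvd_one] at *
  omega

theorem orth_one (h : Gag χ x) :
    (χ : G → ℂ) 1 + classSize x * (χ : G → ℂ) x = 0 := by
  have := Fintype.ofFinite G
  have h0 := CharCore.classInner_irr_of_ne h.ne_triv
  rw [CharCore.classInner_def, mul_eq_zero] at h0
  have h1 := h0.resolve_left (inv_ne_zero (Nat.cast_ne_zero.mpr Nat.card_pos.ne'))
  simp only [triv_apply, map_one, mul_one] at h1
  rw [← h.sum_eq (χ : G → ℂ) (fun g hg hc => ?_)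
    (fun g hg => ((CharCore.isConj_iff_forall_irr x g).mp hg χ).symm)]
  · exact h1
  · by_contra h2
    exact ((h.supp g).mp h2).elim hg hc

theorem apply_other (h : Gag χ x) {ψ : Cfsg.IrrCharacter G} (hψ : ψ ≠ χ) :
    (ψ : G → ℂ) x = (ψ : G → ℂ) 1 := by
  have := Fintype.ofFinite G
  have h0 := CharCore.classInner_irr_of_ne hψ
  rw [CharCore.classInner_def, mul_eq_zero] at h0
  have h1 := h0.resolve_left (inv_ne_zero (Nat.cast_ne_zero.mpr Nat.card_pos.ne'))
  rw [h.sum_eq (fun g => (ψ : G → ℂ) g * conj ((χ : G → ℂ) g))] at h1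
  · have h2 := congrArg conj h.orth_one
    simp only [map_add, map_mul, map_zero, Complex.conj_natCast] at h2
    have hX : conj ((χ : G → ℂ) x) ≠ 0 := by simpa using h.apply_ne_zero
    have hc : (classSize x : ℂ) ≠ 0 := Nat.cast_ne_zero.mpr (classSize_pos x).ne'
    apply mul_left_cancel₀ (mul_ne_zero hc hX)
    linear_combination h1 - (ψ : G → ℂ) 1 * h2
  · intro g hg hc
    have : (χ : G → ℂ) g = 0 := by
      by_contra h2
      exact ((h.supp g).mp h2).elim hg hc
    simp [this]
  · intro g hg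
    simp only [← (CharCore.isConj_iff_forall_irr x g).mp hg _]

theorem card_eq (h : Gag χ x) :
    ((χ : G → ℂ) 1) ^ 2 * (classSize x + 1) = classSize x * (Nat.card G : ℂ) := by
  have := Fintype.ofFinite G
  have h0 := CharCore.classInner_irr_self χ
  rw [CharCore.classInner_def, inv_mul_eq_one₀ (Nat.cast_ne_zero.mpr Nat.card_pos.ne'),
    h.sum_eq (fun g => (χ : G → ℂ) g * conj ((χ : G → ℂ) g))] at h0
  · rw [h0]
    have h2 := congrArg conj h.orth_one
    simp only [map_add, map_mul, map_zero, Complex.conj_natCast] at h2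
    have hd : conj ((χ : G → ℂ) 1) = (χ : G → ℂ) 1 := by
      rw [apply_one_eq]; exact Complex.conj_natCast _
    rw [hd] at h2 ⊢
    have h3 := h.orth_one
    linear_combination ((χ : G → ℂ) 1) * h3 - (classSize x : ℂ) * (χ : G → ℂ) x * h2
  · intro g hg hc
    have : (χ : G → ℂ) g = 0 := by
      by_contra h2
      exact ((h.supp g).mp h2).elim hg hc
    simp [this]
  · intro g hg
    simp only [← (CharCore.isConj_iff_forall_irr x g).mp hg _]

theorem degree_sq_lt (h : Gag χ x) :
    Cfsg.charDegree (χ : G → ℂ) ^ 2 < Nat.card G := by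
  have h1 : Cfsg.charDegree (χ : G → ℂ) ^ 2 * (classSize x + 1) =
      classSize x * Nat.card G := by
    have := h.card_eq
    rw [apply_one_eq] at this
    exact_mod_cast this
  have h2 := classSize_pos x
  have h3 : 0 < Nat.card G := Nat.card_pos
  nlinarith

theorem mem_gagN (h : Gag χ x) {g : G} : g ∈ gagN χ ↔ (χ : G → ℂ) g ≠ 0 := by
  classical
  constructor
  · intro hg h0
    have := Fintype.ofFinite G
    have hg1 : g ≠ 1 := by rintro rfl; exact CharCore.irr_apply_one_ne_zero χ h0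
    have h1 := CharCore.sum_apply_mul_conj g 1
    rw [if_neg (fun hc => hg1 (isConj_one_left.mp hc))] at h1
    have h2 := CharCore.sum_degree_sq (G := G)
    rw [← Finset.add_sum_erase _ _ (Finset.mem_univ χ)] at h1 h2
    have h3 : ∀ ψ ∈ Finset.univ.erase χ,
        (ψ : G → ℂ) g * conj ((ψ : G → ℂ) 1) = ((ψ : G → ℂ) 1) ^ 2 := fun ψ hψ => by
      rw [mem_kerChar.mp (mem_gagN'.mp hg ψ (Finset.ne_of_mem_erase hψ)), apply_one_eq,
        Complex.conj_natCast, sq]
    rw [Finset.sum_congr rfl h3, h0, zero_mul, zero_add] at h1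
    rw [h1, add_zero, apply_one_eq] at h2
    have : Cfsg.charDegree (χ : G → ℂ) ^ 2 = Nat.card G := by exact_mod_cast h2
    exact h.degree_sq_lt.ne this
  · intro hg
    rw [mem_gagN']
    intro ψ hψ
    rcases (h.supp g).mp hg with rfl | hc
    · exact one_mem _
    · rw [mem_kerChar, ← (CharCore.isConj_iff_forall_irr x g).mp hc ψ, h.apply_other hψ]

theorem mem_gagN_iff (h : Gag χ x) {g : G} : g ∈ gagN χ ↔ g = 1 ∨ IsConj x g :=
  h.mem_gagN.trans (h.supp g)

theorem self_mem (h : Gag χ x) : x ∈ gagN χ := h.mem_gagN_iff.mpr (Or.inr (IsConj.refl x))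

theorem gagN_ne_bot (h : Gag χ x) : gagN χ ≠ ⊥ := fun hb =>
  h.ne_one (by simpa [hb] using h.self_mem)

theorem eq_gagN (h : Gag χ x) {N : Subgroup G} (hN : ∀ g, g ∈ N ↔ (χ : G → ℂ) g ≠ 0) :
    N = gagN χ := Subgroup.ext fun g => (hN g).trans h.mem_gagN.symm

theorem conj_of_mem (h : Gag χ x) {a b : G} (ha : a ∈ gagN χ) (ha1 : a ≠ 1) (hb : b ∈ gagN χ)
    (hb1 : b ≠ 1) : IsConj a b :=
  (((h.mem_gagN_iff.mp ha).resolve_left ha1).symm).trans ((h.mem_gagN_iff.mp hb).resolve_left hb1)

theorem of_mem (h : Gag χ x) {a : G} (ha : a ∈ gagN χ) (ha1 : a ≠ 1) : Gag χ a :=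
  ⟨ha1, h.order, fun g => (h.supp g).trans
    (or_congr Iff.rfl ⟨((h.mem_gagN_iff.mp ha).resolve_left ha1).symm.trans,
      ((h.mem_gagN_iff.mp ha).resolve_left ha1).trans⟩)⟩

theorem kerChar_eq_bot (h : Gag χ x) : kerChar χ = ⊥ := by
  rw [eq_bot_iff]
  intro g hg
  rw [Subgroup.mem_bot]
  by_contra hg1
  rw [mem_kerChar] at hg
  have hc := ((h.supp g).mp (hg ▸ CharCore.irr_apply_one_ne_zero χ)).resolve_left hg1
  have h1 := h.orth_one
  rw [(CharCore.isConj_iff_forall_irr x g).mp hc χ, hg, apply_one_eq] at h1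
  have h2 : Cfsg.charDegree (χ : G → ℂ) + classSize x * Cfsg.charDegree (χ : G → ℂ) = 0 := by
    exact_mod_cast h1
  have := charDegree_pos χ
  omega

theorem eq_of_faithful (h : Gag χ x) {ψ : Cfsg.IrrCharacter G}
    (hψ : ∀ g : G, (ψ : G → ℂ) g = (ψ : G → ℂ) 1 → g = 1) : ψ = χ := by
  by_contra hne
  exact h.ne_one (hψ x (h.apply_other hne))

theorem le_of_normal (h : Gag χ x) {K : Subgroup G} (hK : K.Normal) (hK1 : K ≠ ⊥) :
    gagN χ ≤ K := fun g hg =>
  mem_of_forall_kerChar K fun ψ hψ => mem_gagN'.mp hg ψ fun he =>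
    hK1 (le_bot_iff.mp (h.kerChar_eq_bot ▸ he ▸ hψ))

theorem exists_prime (h : Gag χ x) :
    ∃ p : ℕ, p.Prime ∧ orderOf x = p ∧ IsPGroup p (gagN χ) ∧ ∀ a ∈ gagN χ, a ^ p = 1 := by
  have hx1 : orderOf x ≠ 1 := fun h1 => h.ne_one (orderOf_eq_one_iff.mp h1)
  obtain ⟨p, hp, hdvd⟩ := Nat.exists_prime_and_dvd hx1
  have hpos := orderOf_pos x
  have hy : orderOf (x ^ (orderOf x / p)) = p :=
    orderOf_pow_orderOf_div hpos.ne' hdvd
  have hy1 : x ^ (orderOf x / p) ≠ 1 := fun h1 => hp.ne_one (by rw [← hy, h1, orderOf_one])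
  have hord : ∀ {a b : G}, IsConj a b → orderOf a = orderOf b := fun {a b} hab => by
    obtain ⟨c, rfl⟩ := isConj_iff.mp hab
    exact (MulEquiv.orderOf_eq (MulAut.conj c) a).symm
  have hx : orderOf x = p := by
    rw [hord (h.conj_of_mem h.self_mem h.ne_one (pow_mem h.self_mem _) hy1), hy]
  have hexp : ∀ a ∈ gagN χ, a ^ p = 1 := fun a ha => by
    by_cases ha1 : a = 1
    · simp [ha1]
    · rw [← hx, hord (h.conj_of_mem h.self_mem h.ne_one ha ha1), pow_orderOf_eq_one]
  exact ⟨p, hp, hx, fun a => ⟨1, Subtype.ext (by simpa using hexp a a.2)⟩, hexp⟩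

theorem commute (h : Gag χ x) {a b : G} (ha : a ∈ gagN χ) (hb : b ∈ gagN χ) : Commute a b := by
  obtain ⟨p, hp, -, hpg, -⟩ := h.exists_prime
  have := Fact.mk hp
  have : Nontrivial (gagN χ) := (Subgroup.nontrivial_iff_ne_bot _).mpr h.gagN_ne_bot
  have hne : (Subgroup.center (gagN χ)).map (gagN χ).subtype ≠ ⊥ := by
    rw [Ne, Subgroup.map_eq_bot_iff_of_injective _ (Subgroup.subtype_injective _)]
    intro hb0
    have := hpg.center_nontrivial
    exact not_nontrivial (⊥ : Subgroup (gagN χ)) (hb0 ▸ this)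
  obtain ⟨z, hz, rfl⟩ := h.le_of_normal ConjAct.normal_of_characteristic_of_normal hne ha
  exact congrArg Subtype.val (Subgroup.mem_center_iff.mp hz ⟨b, hb⟩).symm

theorem card_gagN (h : Gag χ x) : Nat.card (gagN χ) = classSize x + 1 := by
  classical
  have := Fintype.ofFinite G
  have h1 := h.sum_eq (fun g => if g ∈ gagN χ then (1 : ℂ) else 0)
    (fun g hg hc => if_neg fun hm => (h.mem_gagN_iff.mp hm).elim hg hc)
    (fun g hg => by rw [if_pos (h.mem_gagN_iff.mpr (Or.inr hg)), if_pos h.self_mem])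
  rw [Finset.sum_boole, if_pos (one_mem _), if_pos h.self_mem, mul_one] at h1
  rw [Nat.card_eq_fintype_card, Fintype.card_subtype]
  have h2 : (Finset.univ.filter (· ∈ gagN χ)).card = 1 + classSize x := by exact_mod_cast h1
  omega

theorem not_dvd_classSize (h : Gag χ x) {p : ℕ} [Fact p.Prime] (hp : IsPGroup p (gagN χ)) :
    ¬ p ∣ classSize x := by
  intro hd
  obtain ⟨r, hr⟩ := hp.exists_card_eq
  rw [h.card_gagN] at hr
  have hr0 : r ≠ 0 := by
    rintro rfl
    have := classSize_pos x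
    simp at hr
    omega
  have : p ∣ 1 := (Nat.dvd_add_right hd).mp (hr ▸ dvd_pow_self p hr0)
  exact (Fact.out : p.Prime).ne_one (Nat.dvd_one.mp this)

theorem exists_e (h : Gag χ x) : ∃ e : ℕ, 0 < e ∧
    Cfsg.charDegree (χ : G → ℂ) = classSize x * e ∧
    Nat.card (Subgroup.centralizer ({x} : Set G)) = Nat.card (gagN χ) * e ^ 2 ∧
    Nat.card G = classSize x * (Nat.card (gagN χ) * e ^ 2) := by
  set d := Cfsg.charDegree (χ : G → ℂ) with hd
  have hc := classSize_pos x
  have hint : IsIntegral ℤ (((d : ℚ) / classSize x : ℚ) : ℂ) := by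
    have h1 := (CharCore.IsCharacter.isIntegral (CharCore.irr_isCharacter χ) x).neg
    have h2 := h.orth_one
    rw [apply_one_eq, ← hd] at h2
    convert h1 using 1
    push_cast
    rw [div_eq_iff (by exact_mod_cast hc.ne')]
    linear_combination h2
  obtain ⟨k, hk⟩ := CharClifford.exists_int_of_isIntegral_rat hint
  have hcd : classSize x ∣ d := by
    rw [← Int.natCast_dvd_natCast]
    refine ⟨k, ?_⟩
    rw [div_eq_iff (by exact_mod_cast hc.ne')] at hk
    have : ((d : ℤ) : ℚ) = ((classSize x * k : ℤ) : ℚ) := by push_cast; linear_combination hk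
    exact_mod_cast this
  obtain ⟨e, he⟩ := hcd
  have he0 : 0 < e := by
    rcases Nat.eq_zero_or_pos e with rfl | h0
    · have := charDegree_pos χ
      rw [← hd, he] at this
      simp at this
    · exact h0
  have h1 : d ^ 2 * (classSize x + 1) = classSize x * Nat.card G := by
    have := h.card_eq
    rw [apply_one_eq, ← hd] at this
    exact_mod_cast this
  have h2 : classSize x * Nat.card (Subgroup.centralizer ({x} : Set G)) = Nat.card G :=
    card_isConj_mul_card_centralizer x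
  have h3 : Nat.card (Subgroup.centralizer ({x} : Set G)) = Nat.card (gagN χ) * e ^ 2 := by
    apply Nat.eq_of_mul_eq_mul_left (Nat.mul_pos hc hc)
    calc classSize x * classSize x * Nat.card (Subgroup.centralizer ({x} : Set G))
        = classSize x * Nat.card G := by rw [← h2]; ring
      _ = _ := by rw [← h1, he, h.card_gagN]; ring
  exact ⟨e, he0, he, h3, by rw [← h3, h2]⟩

/-- Outside `N`, whole cosets of `N` lie in one conjugacy class. -/
theorem isConj_mul (h : Gag χ x) {y n : G} (hy : y ∉ gagN χ) (hn : n ∈ gagN χ) :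
    IsConj y (y * n) := by
  rw [CharCore.isConj_iff_forall_irr]
  intro ψ
  rcases eq_or_ne ψ χ with rfl | hψ
  · have h1 : ∀ g, g ∉ gagN ψ → (ψ : G → ℂ) g = 0 := fun g hg => by
      by_contra h0; exact hg (h.mem_gagN.mpr h0)
    rw [h1 y hy, h1 _ fun hm => hy (by simpa using mul_mem hm (inv_mem hn))]
  · rw [apply_mul_of_mem_kerChar (mem_gagN'.mp hn ψ hψ)]

theorem isPGroup_centralizer (h : Gag χ x) {p : ℕ} [Fact p.Prime] (hp : IsPGroup p (gagN χ)) :
    IsPGroup p (Subgroup.centralizer ({x} : Set G)) := by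
  have hxp : orderOf x = p := by
    obtain ⟨q, hq, hxq, -⟩ := h.exists_prime
    obtain ⟨k, hk⟩ := hp ⟨x, h.self_mem⟩
    have hk' : x ^ p ^ k = 1 := by simpa using congrArg Subtype.val hk
    have : q ∣ p := hq.dvd_of_dvd_pow (hxq ▸ orderOf_dvd_of_pow_eq_one hk')
    rw [hxq, (Nat.prime_dvd_prime_iff_eq hq Fact.out).mp this]
  have hall : ∀ r : ℕ, r.Prime → r ∣ Nat.card (Subgroup.centralizer ({x} : Set G)) → r = p := by
    intro r hr hdvd
    have := Fact.mk hr
    obtain ⟨⟨y, hy⟩, hyo⟩ := exists_prime_orderOf_dvd_card' r hdvd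
    rw [Subgroup.orderOf_mk] at hyo
    by_contra hne
    have hyN : y ∉ gagN χ := fun hm => by
      obtain ⟨k, hk⟩ := hp ⟨y, hm⟩
      have hk' : y ^ p ^ k = 1 := by simpa using congrArg Subtype.val hk
      exact hne ((Nat.prime_dvd_prime_iff_eq hr Fact.out).mp
        (hr.dvd_of_dvd_pow (hyo ▸ orderOf_dvd_of_pow_eq_one hk')))
    obtain ⟨c, hc⟩ := isConj_iff.mp (h.isConj_mul hyN h.self_mem)
    have h1 : orderOf (y * x) = orderOf y := by
      rw [← hc]; exact MulEquiv.orderOf_eq (MulAut.conj c) y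
    have hcomm : Commute y x := ((Subgroup.mem_centralizer_iff.mp hy) x rfl).symm
    rw [hcomm.orderOf_mul_eq_mul_orderOf_of_coprime, hyo, hxp] at h1
    · have h2 : p = 1 := Nat.eq_of_mul_eq_mul_left hr.pos (by rw [h1, mul_one])
      exact (Fact.out : p.Prime).ne_one h2
    · rw [hyo, hxp]; exact (Nat.coprime_primes hr Fact.out).mpr hne
  refine IsPGroup.of_card (n := (Nat.card (Subgroup.centralizer ({x} : Set G))).primeFactorsList.length) ?_
  refine Nat.eq_prime_pow_of_unique_prime_dvd Nat.card_pos.ne' fun {q} hq hqd => hall q hq hqd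

theorem not_dvd_index_centralizer (h : Gag χ x) {p : ℕ} [Fact p.Prime]
    (hp : IsPGroup p (gagN χ)) : ¬ p ∣ (Subgroup.centralizer ({x} : Set G)).index := by
  have h1 : (Subgroup.centralizer ({x} : Set G)).index = classSize x := by
    apply Nat.eq_of_mul_eq_mul_right (Nat.card_pos (α := Subgroup.centralizer ({x} : Set G)))
    rw [Subgroup.index_mul_card]
    exact (card_isConj_mul_card_centralizer x).symm
  rw [h1]
  exact h.not_dvd_classSize hp

/-- The centralizer of `x` as a Sylow subgroup. -/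
noncomputable def centralizerSylow (h : Gag χ x) {p : ℕ} [Fact p.Prime]
    (hp : IsPGroup p (gagN χ)) : Sylow p G :=
  (h.isPGroup_centralizer hp).toSylow (h.not_dvd_index_centralizer hp)

theorem coe_centralizerSylow (h : Gag χ x) {p : ℕ} [Fact p.Prime] (hp : IsPGroup p (gagN χ)) :
    (h.centralizerSylow hp : Subgroup G) = Subgroup.centralizer ({x} : Set G) := rfl

end Gag

end Cfsg.Agent.BC87
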