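import Cfsg.Agent.BC87.GlaubermanWindow

/-!
# The chain `P ⊓ P^g ⊓ ⋯` and its generating sequence
-/

set_option autoImplicit false

namespace Cfsg.Agent.BC87.Glauberman

variable {G : Type*} [Group G]

/-- Conjugation `x ↦ (g ^ d)⁻¹ * x * g ^ d`. -/
def sh (g : G) (d : ℤ) : G ≃* G := MulAut.conj (g ^ d)⁻¹

lemma sh_apply (g : G) (d : ℤ) (x : G) : sh g d x = (g ^ d)⁻¹ * x * g ^ d := by
  rw [sh, MulAut.conj_apply, inv_inv]

lemma sh_add (g : G) (d e : ℤ) (x : G) : sh g d (sh g e x) = sh g (e + d) x := by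
  simp only [sh_apply, zpow_add]; group

/-- The conjugates of `x`. -/
def seq (g x : G) (c : ℤ) (i : ℤ) : G := sh g (i - c) x

lemma sh_seq (g x : G) (c d i : ℤ) : sh g d (seq g x c i) = seq g x c (i + d) := by
  rw [seq, seq, sh_add]; congr 2; ring

lemma map_win (g x : G) (c d i j : ℤ) :
    (win (seq g x c) i j).map (sh g d).toMonoidHom = win (seq g x c) (i + d) (j + d) := by
  unfold win
  rw [MonoidHom.map_closure, ← Set.image_comp]
  congr 1
  ext y; constructor
  · rintro ⟨k, ⟨h1, h2⟩, rfl⟩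
    exact ⟨k + d, ⟨by omega, by omega⟩, (sh_seq g x c d k).symm⟩
  · rintro ⟨k, ⟨h1, h2⟩, rfl⟩
    exact ⟨k - d, ⟨by omega, by omega⟩, by simp [sh_seq]⟩

lemma win_union (a : ℤ → G) (i j i' j' : ℤ) (h1 : i ≤ i') (h2 : j ≤ j') (h3 : i' ≤ j + 1) :
    win a i j ⊔ win a i' j' = win a i j' := by
  unfold win
  rw [← Subgroup.closure_union, ← Set.image_union]
  congr 2
  ext k; simp only [Set.mem_union, Set.mem_Icc]; omega

/-- The descending chain `P ⊓ P^g ⊓ ⋯ ⊓ P^(g^k)`. -/
def chain (g : G) (P : Subgroup G) : ℕ → Subgroup G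
  | 0 => P
  | k + 1 => chain g P k ⊓ (chain g P k).map (sh g 1).toMonoidHom

lemma card_map_sh (g : G) (d : ℤ) (H : Subgroup G) :
    Nat.card (H.map (sh g d).toMonoidHom) = Nat.card H :=
  Subgroup.card_map_of_injective (sh g d).injective

lemma card_eq_relIndex_mul {H K : Subgroup G} (h : H ≤ K) :
    Nat.card K = H.relIndex K * Nat.card H := by
  rw [← Subgroup.relIndex_bot_left, ← Subgroup.relIndex_bot_left, mul_comm]
  exact (Subgroup.relIndex_mul_relIndex ⊥ H K bot_le h).symm

lemma exists_zpow_mul {S : Set G} {N : Subgroup G} {a : G} (ha : a ∈ S)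
    (hS : ∀ s ∈ S, s = a ∨ s ∈ N) (hN : ∀ z ∈ Subgroup.closure S, ∀ y ∈ N, z * y * z⁻¹ ∈ N)
    {y : G} (hy : y ∈ Subgroup.closure S) : ∃ u ∈ N, ∃ e : ℤ, y = a ^ e * u := by
  induction hy using Subgroup.closure_induction with
  | mem s hs =>
    rcases hS s hs with h | h
    · exact ⟨1, N.one_mem, 1, by simp [h]⟩
    · exact ⟨s, h, 0, by simp⟩
  | one => exact ⟨1, N.one_mem, 0, by simp⟩
  | mul y z _ _ hy hz =>
    obtain ⟨u, hu, e, rfl⟩ := hy
    obtain ⟨v, hv, f, rfl⟩ := hz
    have h1 := hN _ ((Subgroup.closure S).zpow_mem (Subgroup.subset_closure ha) (-f)) u hu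
    exact ⟨(a ^ (-f) * u * (a ^ (-f))⁻¹) * v, N.mul_mem h1 hv, e + f, by
      simp only [zpow_add]; group⟩
  | inv y _ hy =>
    obtain ⟨u, hu, e, rfl⟩ := hy
    have h1 := hN _ ((Subgroup.closure S).zpow_mem (Subgroup.subset_closure ha) e) _ (N.inv_mem hu)
    exact ⟨a ^ e * u⁻¹ * (a ^ e)⁻¹, h1, -e, by group⟩

variable [Finite G]

lemma chain_normal (g : G) (P : Subgroup G) (p : ℕ)
    (hN : ∀ z ∈ P.map (sh g 1).toMonoidHom, ∀ y ∈ chain g P 1, z * y * z⁻¹ ∈ chain g P 1)
    (hidx : (chain g P 1).relIndex (P.map (sh g 1).toMonoidHom) = p) (k : ℕ) :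
    (∀ z ∈ (chain g P k).map (sh g 1).toMonoidHom, ∀ y ∈ chain g P (k + 1),
        z * y * z⁻¹ ∈ chain g P (k + 1)) ∧
      (chain g P (k + 1)).relIndex ((chain g P k).map (sh g 1).toMonoidHom) ∣ p := by
  induction k with
  | zero => exact ⟨hN, hidx ▸ dvd_rfl⟩
  | succ k ih =>
    set L := (chain g P k).map (sh g 1).toMonoidHom with hL
    set M := chain g P (k + 1) with hM
    set K := M.map (sh g 1).toMonoidHom with hK
    have hKL : K ≤ L := Subgroup.map_mono inf_le_left
    refine ⟨fun z hz y hy => ⟨ih.1 z (hKL hz) y hy.1, K.mul_mem (K.mul_mem hz hy.2) (K.inv_mem hz)⟩, ?_⟩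
    change (M ⊓ K).relIndex K ∣ p
    rw [Subgroup.inf_relIndex_right]
    refine dvd_trans ?_ ih.2
    have hn : (M.subgroupOf L).Normal :=
      ⟨fun y hy z => ih.1 z z.2 y hy⟩
    rw [← Subgroup.relIndex_subgroupOf hKL]
    exact Subgroup.relIndex_dvd_index_of_normal _ _

/-- The consequences of Glauberman's hypotheses: a generating sequence for `P`. -/
theorem exists_seq (g : G) (P : Subgroup G) (p : ℕ) (hp : p.Prime)
    (hN : ∀ z ∈ P.map (sh g 1).toMonoidHom, ∀ y ∈ chain g P 1, z * y * z⁻¹ ∈ chain g P 1)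
    (hidx : (chain g P 1).relIndex (P.map (sh g 1).toMonoidHom) = p)
    (h1 : ∀ Q : Subgroup G, Q ≤ P → (∀ z ∈ P, ∀ y ∈ Q, z * y * z⁻¹ ∈ Q) →
      Q.map (sh g 1).toMonoidHom = Q → Q = ⊥) :
    ∃ (t : ℕ) (x : G) (c : ℤ), 1 ≤ t ∧ Nat.card P = p ^ t ∧ P = win (seq g x c) 0 ((t : ℤ) - 1) ∧
      (∀ i, orderOf (seq g x c i) = p) ∧
      (∀ i j : ℤ, i ≤ j + 1 → j - i < t → Nat.card (win (seq g x c) i j) = p ^ (j + 1 - i).toNat) ∧
      ∀ i j : ℤ, i ≤ j → j - i < t → ∀ z ∈ win (seq g x c) i j,
        ∀ y ∈ win (seq g x c) i (j - 1), z * y * z⁻¹ ∈ win (seq g x c) i (j - 1) := by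
  classical
  set σ := (sh g 1).toMonoidHom with hσ
  have hσi : Function.Injective σ := (sh g 1).injective
  have hch := chain_normal g P p hN hidx
  have hex : ∃ k, chain g P (k + 1) = chain g P k := by
    by_contra hne
    push Not at hne
    have H : ∀ k, Nat.card (chain g P k) + k ≤ Nat.card P := by
      intro k
      induction k with
      | zero => exact le_rfl
      | succ k ih =>
        have hlt : Nat.card (chain g P (k + 1)) < Nat.card (chain g P k) := by
          by_contra hge
          exact hne k (Subgroup.eq_of_le_of_card_ge inf_le_left (not_lt.mp hge))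
        omega
    have := H (Nat.card P + 1); omega
  obtain ⟨t, ht, htmin⟩ : ∃ t, chain g P (t + 1) = chain g P t ∧
      ∀ k < t, chain g P (k + 1) ≠ chain g P k :=
    ⟨Nat.find hex, Nat.find_spec hex, fun k hk => Nat.find_min hex hk⟩
  have hrel : ∀ k < t, (chain g P (k + 1)).relIndex ((chain g P k).map σ) = p := by
    intro k hk
    refine ((Nat.dvd_prime hp).mp (hch k).2).resolve_left fun h => htmin k hk ?_
    refine Subgroup.eq_of_le_of_card_ge inf_le_left ?_
    rw [← card_map_sh g 1 (chain g P k)]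
    exact Subgroup.card_le_of_le (Subgroup.relIndex_eq_one.mp h)
  have hE : (chain g P t).map σ = chain g P t := by
    refine (Subgroup.eq_of_le_of_card_ge ?_ ?_).symm
    · conv_lhs => rw [← ht]
      exact inf_le_right
    · rw [card_map_sh]
  have ht1 : 1 ≤ t := by
    by_contra h
    have h0 : t = 0 := by omega
    subst h0
    rw [show chain g P 1 = P from ht, show P.map σ = P from hE, Subgroup.relIndex_self] at hidx
    exact hp.ne_one hidx.symm
  have hjoin : ∀ k, k + 1 < t →
      (chain g P k).map σ = chain g P (k + 1) ⊔ (chain g P (k + 1)).map σ := by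
    intro k hk
    have hle : chain g P (k + 1) ⊔ (chain g P (k + 1)).map σ ≤ (chain g P k).map σ :=
      sup_le inf_le_right (Subgroup.map_mono inf_le_left)
    have hmul := Subgroup.relIndex_mul_relIndex (chain g P (k + 1))
      (chain g P (k + 1) ⊔ (chain g P (k + 1)).map σ) _ le_sup_left hle
    rw [hrel k (by omega)] at hmul
    rcases (Nat.dvd_prime hp).mp ⟨_, hmul.symm⟩ with h | h
    · exfalso
      have h2 : (chain g P (k + 1)).map σ ≤ chain g P (k + 1) :=
        le_trans le_sup_right (Subgroup.relIndex_eq_one.mp h)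
      have h3 := Subgroup.eq_of_le_of_card_ge h2 (by rw [card_map_sh])
      refine htmin (k + 1) hk ?_
      change _ ⊓ (chain g P (k + 1)).map σ = _
      rw [h3, inf_idem]
    · rw [h] at hmul
      exact le_antisymm (Subgroup.relIndex_eq_one.mp
        (Nat.eq_of_mul_eq_mul_left hp.pos (hmul.trans (mul_one p).symm))) hle
  have hEbot : chain g P t = ⊥ := by
    have hNσ : ∀ H : Subgroup G, H.map σ ≤ Subgroup.normalizer (chain g P t : Set G) →
        H ≤ Subgroup.normalizer (chain g P t : Set G) := by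
      intro H hH
      refine (Subgroup.map_le_map_iff_of_injective hσi).mp ?_
      have h3 := Subgroup.map_equiv_normalizer_eq (chain g P t) (sh g 1)
      rw [← hσ] at h3
      rw [h3, hE]; exact hH
    have hP : ∀ j, j + 1 ≤ t → chain g P (t - 1 - j) ≤ Subgroup.normalizer (chain g P t : Set G) := by
      intro j
      induction j with
      | zero =>
        intro _
        refine hNσ _ ?_
        intro z hz
        have hn := (hch (t - 1)).1
        rw [show t - 1 + 1 = t by omega] at hn
        rw [Subgroup.mem_normalizer_iff]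
        intro y
        refine ⟨fun hy => hn z hz y hy, fun hy => ?_⟩
        simpa [mul_assoc] using hn z⁻¹ (inv_mem hz) _ hy
      | succ j ih =>
        intro hj
        refine hNσ _ ?_
        rw [hjoin _ (by omega), show t - 1 - (j + 1) + 1 = t - 1 - j by omega]
        refine sup_le (ih (by omega)) ?_
        have h3 := Subgroup.map_equiv_normalizer_eq (chain g P t) (sh g 1)
        rw [← hσ, hE] at h3
        exact h3 ▸ Subgroup.map_mono (ih (by omega))
    have hP0 := hP (t - 1) (by omega)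
    rw [show t - 1 - (t - 1) = 0 by omega] at hP0
    have hle : ∀ k, chain g P k ≤ P := by
      intro k
      induction k with
      | zero => exact le_rfl
      | succ k ih => exact le_trans inf_le_left ih
    exact h1 _ (hle t) (fun z hz y hy => (Subgroup.mem_normalizer_iff.mp (hP0 hz) y).mp hy) hE
  have hcard : ∀ j, j ≤ t → Nat.card (chain g P (t - j)) = p ^ j := by
    intro j
    induction j with
    | zero => intro _; simp [hEbot]
    | succ j ih =>
      intro hj
      have h2 := card_eq_relIndex_mul (show chain g P (t - (j + 1) + 1) ≤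
        (chain g P (t - (j + 1))).map σ from inf_le_right)
      rw [card_map_sh, hrel _ (by omega), show t - (j + 1) + 1 = t - j by omega, ih (by omega)] at h2
      rw [h2, pow_succ']
  obtain ⟨x, hx⟩ : ∃ x, Subgroup.zpowers x = chain g P (t - 1) := by
    have hc1 := hcard 1 ht1
    rw [pow_one] at hc1
    have : Fact p.Prime := ⟨hp⟩
    obtain ⟨⟨x, hxm⟩, hxz⟩ := (isCyclic_of_prime_card hc1).exists_generator
    refine ⟨x, le_antisymm (Subgroup.zpowers_le.mpr hxm) fun y hy => ?_⟩
    obtain ⟨e, he⟩ := hxz ⟨y, hy⟩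
    exact ⟨e, congrArg Subtype.val he⟩
  have hxord : orderOf x = p := by
    rw [← Nat.card_zpowers, hx, hcard 1 ht1, pow_one]
  set c : ℤ := (t : ℤ) - 1 with hc
  set a := seq g x c with ha
  have hD : ∀ j, j ≤ t → chain g P (t - j) = win a ((t : ℤ) - j) ((t : ℤ) - 1) := by
    intro j
    induction j with
    | zero => intro _; rw [win_empty (by omega)]; simpa using hEbot
    | succ j ih =>
      intro hj
      rcases Nat.eq_zero_or_pos j with h | h
      · subst h
        rw [show t - (0 + 1) = t - 1 from rfl, ← hx, Subgroup.zpowers_eq_closure, win]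
        congr 1
        simp [ha, seq, hc, sh_apply]
      · refine Subgroup.map_injective hσi ?_
        rw [hjoin _ (by omega), show t - (j + 1) + 1 = t - j by omega, ih (by omega), hσ, ha,
          map_win, map_win, win_union _ _ _ _ _ (by omega) (by omega) (by omega)]
        congr 1 <;> push_cast <;> ring
  have hsh : ∀ i j : ℤ, i ≤ j + 1 → j - i < t → ∃ (s : ℕ) (d : ℤ), s ≤ t ∧ (s : ℤ) = j + 1 - i ∧
      d = i - ((t : ℤ) - s) ∧
      win a i j = (chain g P (t - s)).map (sh g d).toMonoidHom := by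
    intro i j h2 h3
    refine ⟨(j + 1 - i).toNat, _, by omega, by omega, rfl, ?_⟩
    rw [hD _ (by omega), ha, map_win]
    congr 1 <;> omega
  refine ⟨t, x, c, ht1, ?_, ?_, ?_, ?_, ?_⟩
  · have := hcard t le_rfl; rwa [Nat.sub_self] at this
  · have := hD t le_rfl; rwa [Nat.sub_self, sub_self] at this
  · intro i
    rw [seq, MulEquiv.orderOf_eq, hxord]
  · intro i j h2 h3
    obtain ⟨s, d, hs, hs', -, hw⟩ := hsh i j h2 h3
    rw [← ha, hw, card_map_sh, hcard s hs]
    congr 1; omega
  · intro i j h2 h3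
    set s := (j + 1 - i).toNat with hs
    set k := t - s with hk
    have hkt : k < t := by omega
    have hs1 : chain g P (k + 1) = win a ((k : ℤ) + 1) ((t : ℤ) - 1) := by
      rw [show k + 1 = t - (t - (k + 1)) by omega, hD _ (by omega)]; congr 1; omega
    have hs2 : (chain g P k).map σ = win a ((k : ℤ) + 1) (t : ℤ) := by
      rw [show k = t - (t - k) by omega, hD _ (by omega), hσ, ha, map_win]
      congr 1 <;> omega
    have hn := (hch k).1
    rw [hs1, hs2] at hn
    intro z hz y hy
    have e1 : win a i j = (win a ((k : ℤ) + 1) (t : ℤ)).map (sh g (i - (k + 1))).toMonoidHom := by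
      rw [ha, map_win]; congr 1 <;> omega
    have e2 : win a i (j - 1) =
        (win a ((k : ℤ) + 1) ((t : ℤ) - 1)).map (sh g (i - (k + 1))).toMonoidHom := by
      rw [ha, map_win]; congr 1 <;> omega
    rw [← ha, e1] at hz
    rw [← ha, e2] at hy ⊢
    obtain ⟨z', hz', rfl⟩ := hz
    obtain ⟨y', hy', rfl⟩ := hy
    exact ⟨_, hn z' hz' y' hy', by simp⟩

end Cfsg.Agent.BC87.Glauberman
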