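import Mathlib

/-!
# Windows of a shift sequence

`a : ℤ → G` is a bi-infinite sequence in which every window of length at most `t` generates a group
in which the two windows of length one less are normal.  If `m < t` is the first distance at which
two members fail to commute then `2 * t ≤ 3 * m` (Glauberman).
-/

set_option autoImplicit false

namespace Cfsg.Agent.BC87.Glauberman

open scoped commutatorElement

variable {G : Type*} [Group G]

/-- The subgroup generated by the members with index between `i` and `j`. -/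
def win (a : ℤ → G) (i j : ℤ) : Subgroup G := Subgroup.closure (a '' Set.Icc i j)

lemma mem_win {a : ℤ → G} {i j k : ℤ} (h1 : i ≤ k) (h2 : k ≤ j) : a k ∈ win a i j :=
  Subgroup.subset_closure ⟨k, ⟨h1, h2⟩, rfl⟩

lemma win_le {a : ℤ → G} {i j i' j' : ℤ} (h1 : i' ≤ i) (h2 : j ≤ j') :
    win a i j ≤ win a i' j' :=
  Subgroup.closure_mono (Set.image_mono (Set.Icc_subset_Icc h1 h2))

lemma win_empty {a : ℤ → G} {i j : ℤ} (h : j < i) : win a i j = ⊥ := by
  simp [win, Set.Icc_eq_empty (not_le.mpr h)]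

lemma win_neg (a : ℤ → G) (i j : ℤ) : win (fun k => a (-k)) i j = win a (-j) (-i) := by
  unfold win; congr 1
  ext x; constructor
  · rintro ⟨k, ⟨h1, h2⟩, rfl⟩; exact ⟨-k, ⟨by omega, by omega⟩, rfl⟩
  · rintro ⟨k, ⟨h1, h2⟩, rfl⟩; exact ⟨-k, ⟨by omega, by omega⟩, by simp⟩

lemma commute_win {a : ℤ → G} {i j i' j' : ℤ}
    (h : ∀ k l, i ≤ k → k ≤ j → i' ≤ l → l ≤ j' → Commute (a k) (a l))
    {x y : G} (hx : x ∈ win a i j) (hy : y ∈ win a i' j') : Commute x y := by
  induction hx using Subgroup.closure_induction with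
  | mem u hu =>
    obtain ⟨k, ⟨hk1, hk2⟩, rfl⟩ := hu
    induction hy using Subgroup.closure_induction with
    | mem v hv =>
      obtain ⟨l, ⟨hl1, hl2⟩, rfl⟩ := hv
      exact h k l hk1 hk2 hl1 hl2
    | one => exact Commute.one_right _
    | mul u v _ _ hu hv => exact hu.mul_right hv
    | inv u _ hu => exact hu.inv_right
  | one => exact Commute.one_left _
  | mul u v _ _ hu hv => exact hu.mul_left hv
  | inv u _ hu => exact hu.inv_left

/-- Half of Glauberman's inequality. -/
lemma mem_upper_window (a : ℤ → G) (p : ℕ) (hp : p.Prime) (t m : ℕ)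
    (hcomm : ∀ i j : ℤ, (i - j).natAbs < m → Commute (a i) (a j))
    (hno : ∀ i : ℤ, ¬ Commute (a i) (a (i + m)))
    (hord : ∀ i, orderOf (a i) = p)
    (hN : ∀ i j : ℤ, i < j → j - i < t → ⁅a i, a j⁆ ∈ win a (i + 1) (j - 1))
    (hdec : ∀ i j : ℤ, i ≤ j → j - i < t → ∀ y ∈ win a i j,
      ∃ u ∈ win a (i + 1) j, ∃ e : ℤ, y = a i ^ e * u)
    (hm : m < t) : ⁅a 0, a m⁆ ∈ win a ((t : ℤ) - m) ((m : ℤ) - 1) := by
  have hm0 : 0 < m := by
    rcases Nat.eq_zero_or_pos m with h | h
    · exact absurd (Commute.refl (a 0)) (by simpa [h] using hno 0)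
    · exact h
  suffices H : ∀ k : ℕ, 1 + (k : ℤ) ≤ (t : ℤ) - m →
      ⁅a 0, a m⁆ ∈ win a (1 + k) ((m : ℤ) - 1) by
    obtain ⟨k, hk⟩ : ∃ k : ℕ, (t : ℤ) - m = 1 + k := ⟨t - m - 1, by omega⟩
    rw [hk]; exact H k (le_of_eq hk.symm)
  intro k
  induction k with
  | zero => intro _; simpa using hN 0 m (by omega) (by omega)
  | succ k ih =>
    intro hk
    push_cast at hk ⊢
    set r : ℤ := 1 + k with hr
    have hwr := ih (by omega)
    by_cases hrm : (m : ℤ) - 1 < r
    · have h1 : ⁅a 0, a m⁆ = 1 := by simpa [win_empty hrm] using hwr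
      rw [h1]; exact Subgroup.one_mem _
    · rw [not_lt] at hrm
      obtain ⟨u, hu, e, hw⟩ := hdec r ((m : ℤ) - 1) hrm (by omega) _ hwr
      set c := ⁅a (r + m), a 0⁆ with hc
      have hcI : c ∈ win a 1 (r + m - 1) := by
        rw [hc, ← commutatorElement_inv]
        exact Subgroup.inv_mem _ (by simpa using hN 0 (r + m) (by omega) (by omega))
      have hcam : Commute c (a m) :=
        commute_win (fun k l _ _ _ _ => hcomm k l (by omega)) hcI (mem_win (le_refl _) (le_refl _))
      have hcw : Commute c ⁅a 0, a m⁆ :=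
        commute_win (fun k l _ _ _ _ => hcomm k l (by omega)) hcI hwr
      have hxm : Commute (a (r + m)) (a m) := hcomm _ _ (by omega)
      have hxw : Commute (a (r + m)) ⁅a 0, a m⁆ := by
        have e0 : a (r + m) * a 0 * (a (r + m))⁻¹ = c * a 0 := by
          rw [hc, commutatorElement_def]; group
        have e1 : a (r + m) * a m * (a (r + m))⁻¹ = a m := by
          rw [hxm.eq, mul_inv_cancel_right]
        have e2 : a (r + m) * ⁅a 0, a m⁆ * (a (r + m))⁻¹ = ⁅c * a 0, a m⁆ := by
          rw [← e0, commutatorElement_def, commutatorElement_def]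
          conv_rhs => rw [← e1]
          group
        have e3 : ⁅c * a 0, a m⁆ = c * ⁅a 0, a m⁆ * c⁻¹ * ⁅c, a m⁆ := by
          simp only [commutatorElement_def]; group
        have e4 : ⁅c, a m⁆ = 1 := commutatorElement_eq_one_iff_commute.mpr hcam
        rw [e3, e4, mul_one, hcw.eq, mul_inv_cancel_right] at e2
        exact eq_mul_inv_iff_mul_eq.mp e2.symm |>.symm
      have hxu : Commute (a (r + m)) u :=
        commute_win (fun k l _ _ _ _ => hcomm k l (by omega))
          (mem_win (le_refl _) (le_refl _)) hu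
      have hxe : Commute (a (r + m)) (a r ^ e) := by
        have h2 : a r ^ e = ⁅a 0, a m⁆ * u⁻¹ := by rw [hw]; group
        rw [h2]; exact hxw.mul_right hxu.inv_right
      have he : a r ^ e = 1 := by
        by_contra hne
        have hfin : orderOf (a r ^ e) = p := by
          have hd : orderOf (a r ^ e) ∣ p := by
            rw [orderOf_dvd_iff_pow_eq_one, ← zpow_natCast, ← zpow_mul, mul_comm,
              zpow_mul, zpow_natCast, ← hord r, pow_orderOf_eq_one, one_zpow]
          exact ((Nat.dvd_prime hp).mp hd).resolve_left (fun h => hne (orderOf_eq_one_iff.mp h))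
        have hle : Subgroup.zpowers (a r) ≤ Subgroup.zpowers (a r ^ e) := by
          have hf : Finite (Subgroup.zpowers (a r)) :=
            Nat.finite_of_card_ne_zero (by rw [Nat.card_zpowers, hord r]; exact hp.ne_zero)
          have h6 : Subgroup.zpowers (a r ^ e) ≤ Subgroup.zpowers (a r) :=
            Subgroup.zpowers_le.mpr (Subgroup.zpow_mem _ (Subgroup.mem_zpowers _) e)
          rw [Subgroup.eq_of_le_of_card_ge h6
            (by rw [Nat.card_zpowers, Nat.card_zpowers, hord r, hfin])]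
        obtain ⟨f, hf⟩ := hle (Subgroup.mem_zpowers (a r))
        have h3 : Commute (a (r + m)) ((a r ^ e) ^ f) := hxe.zpow_right f
        simp only at hf
        rw [hf] at h3
        exact hno r h3.symm
      rw [hw, he, one_mul]
      simpa [hr, add_assoc] using hu

lemma inter_win (a : ℤ → G) (t : ℕ)
    (hint : ∀ i j : ℤ, i < j → j - i < t → win a i (j - 1) ⊓ win a (i + 1) j ≤ win a (i + 1) (j - 1)) :
    ∀ (L : ℕ) (i j r q : ℤ), j - i ≤ L → j - i < t → i ≤ r → q ≤ j →
      win a i q ⊓ win a r j ≤ win a r q := by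
  intro L
  induction L with
  | zero =>
    intro i j r q hL _ hir hqj
    rcases lt_or_ge i r with h | h
    · rw [win_empty (show j < r by omega)]; simp
    · rw [le_antisymm h hir]; exact inf_le_left
  | succ L ih =>
    intro i j r q hL hlt hir hqj
    rcases eq_or_lt_of_le hir with h | hir
    · rw [← h]; exact inf_le_left
    rcases eq_or_lt_of_le hqj with h | hqj
    · rw [h]; exact inf_le_right
    rcases le_or_gt j i with hji | hij
    · rw [win_empty (show j < r by omega)]; simp
    rintro x ⟨hx1, hx2⟩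
    have hmid : x ∈ win a (i + 1) (j - 1) :=
      hint i j hij hlt ⟨win_le le_rfl (by omega) hx1, win_le (by omega) le_rfl hx2⟩
    have hA : x ∈ win a (i + 1) q :=
      ih i (j - 1) (i + 1) q (by omega) (by omega) (by omega) (by omega) ⟨hx1, hmid⟩
    have hB : x ∈ win a r (j - 1) :=
      ih (i + 1) j r (j - 1) (by omega) (by omega) (by omega) (by omega) ⟨hmid, hx2⟩
    exact ih (i + 1) (j - 1) r q (by omega) (by omega) (by omega) (by omega) ⟨hA, hB⟩

/-- Glauberman's inequality `2 t ≤ 3 m`. -/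
theorem two_mul_le_three_mul (a : ℤ → G) (p : ℕ) (hp : p.Prime) (t m : ℕ)
    (hcomm : ∀ i j : ℤ, (i - j).natAbs < m → Commute (a i) (a j))
    (hno : ∀ i : ℤ, ¬ Commute (a i) (a (i + m)))
    (hord : ∀ i, orderOf (a i) = p)
    (hN : ∀ i j : ℤ, i < j → j - i < t → ⁅a i, a j⁆ ∈ win a (i + 1) (j - 1))
    (hdec : ∀ i j : ℤ, i ≤ j → j - i < t → ∀ y ∈ win a i j,
      ∃ u ∈ win a (i + 1) j, ∃ e : ℤ, y = a i ^ e * u)
    (hdec' : ∀ i j : ℤ, i ≤ j → j - i < t → ∀ y ∈ win a i j,
      ∃ u ∈ win a i (j - 1), ∃ e : ℤ, y = a j ^ e * u)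
    (hint : ∀ i j : ℤ, i < j → j - i < t → win a i (j - 1) ⊓ win a (i + 1) j ≤ win a (i + 1) (j - 1))
    (φ : G →* G) (hφ : ∀ i, φ (a i) = a (i + m))
    (hm : m < t) : 2 * t ≤ 3 * m := by
  by_contra hcon
  rw [not_le] at hcon
  have hU := mem_upper_window a p hp t m hcomm hno hord hN hdec hm
  have hU' := mem_upper_window (fun k => a (-k)) p hp t m
    (fun i j h => hcomm _ _ (by omega))
    (fun i h => hno (-(i + m)) (by
      have h2 : -(i + (m : ℤ)) + m = -i := by ring
      rw [h2]; exact h.symm))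
    (fun i => hord _)
    (fun i j hij hjt => by
      rw [win_neg, ← commutatorElement_inv]
      refine Subgroup.inv_mem _ ?_
      have h3 := hN (-j) (-i) (by omega) (by omega)
      rwa [show -(j - 1) = -j + 1 by ring, show -(i + 1) = -i - 1 by ring])
    (fun i j hij hjt y hy => by
      rw [win_neg] at hy ⊢
      obtain ⟨u, hu, e, he⟩ := hdec' (-j) (-i) (by omega) (by omega) y hy
      exact ⟨u, by rwa [show -(i + 1) = -i - 1 by ring], e, he⟩)
    hm
  rw [win_neg] at hU'
  simp only [neg_zero] at hU'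
  have hmap : (win a (-((m : ℤ) - 1)) (-((t : ℤ) - m))).map φ ≤
      win a 1 (2 * (m : ℤ) - t) := by
    rw [win, MonoidHom.map_closure, Subgroup.closure_le]
    rintro x ⟨y, ⟨k, ⟨h1, h2⟩, rfl⟩, rfl⟩
    rw [hφ]; exact mem_win (by omega) (by omega)
  have hV : ⁅a 0, a m⁆ ∈ win a 1 (2 * (m : ℤ) - t) := by
    have h4 := hmap ⟨_, hU', rfl⟩
    rw [map_commutatorElement, hφ, hφ, zero_add, neg_add_cancel] at h4
    rw [← commutatorElement_inv]; exact Subgroup.inv_mem _ h4
  have h5 := inter_win a t hint (m + t) 1 ((m : ℤ) - 1) ((t : ℤ) - m) (2 * (m : ℤ) - t)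
    (by omega) (by omega) (by omega) (by omega) ⟨hV, hU⟩
  rw [win_empty (by omega), Subgroup.mem_bot, commutatorElement_eq_one_iff_commute] at h5
  exact hno 0 (by simpa using h5)

end Cfsg.Agent.BC87.Glauberman
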