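import Mathlib.RingTheory.Artinian.Module
import Mathlib.RingTheory.Jacobson.Semiprimary
import Mathlib.RingTheory.SimpleModule.Basic
import Mathlib.Algebra.Ring.GeomSum

/-!
# Idempotent ideals commuting with the radical

In a semiprimary ring a two-sided ideal `I = I²` with `IJ = JI`, where `J` is the Jacobson
radical, has an identity element.
-/

set_option autoImplicit false

namespace Cfsg.Agent.BC87

variable {R : Type*} [Ring R] [IsSemiprimaryRing R]

/-- The identity of an idempotent two-sided ideal commuting with the radical. -/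
theorem exists_ideal_identity (I : Ideal R) (hr : ∀ x ∈ I, ∀ r : R, x * r ∈ I)
    (hII : ∀ x ∈ I, x ∈ AddSubgroup.closure {z : R | ∃ a ∈ I, ∃ b ∈ I, z = a * b})
    (hIJ : ∀ x ∈ I, ∀ j ∈ Ring.jacobson R,
      x * j ∈ AddSubgroup.closure {z : R | ∃ a ∈ Ring.jacobson R, ∃ b ∈ I, z = a * b})
    (hJI : ∀ x ∈ I, ∀ j ∈ Ring.jacobson R,
      j * x ∈ AddSubgroup.closure {z : R | ∃ a ∈ I, ∃ b ∈ Ring.jacobson R, z = a * b}) :
    ∃ e ∈ I, (∀ x ∈ I, x * e = x) ∧ ∀ x ∈ I, e * x = x := by
  classical
  set J := Ring.jacobson R with hJ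
  let π := Ideal.Quotient.mk J
  have hπ : Function.Surjective π := Ideal.Quotient.mk_surjective
  obtain ⟨e', he', hspan⟩ := IsSemisimpleRing.ideal_eq_span_idempotent (I.map π)
  have hmap : ∀ y, y ∈ I.map π ↔ ∃ x ∈ I, π x = y := fun y =>
    Ideal.mem_map_iff_of_surjective π hπ
  obtain ⟨e, heI, hee⟩ := (hmap e').mp (hspan ▸ Ideal.mem_span_singleton_self e')
  have hright : ∀ x ∈ I, π x * e' = π x := by
    intro x hx
    have h : π x ∈ Ideal.span ({e'} : Set (R ⧸ J)) := hspan ▸ (hmap _).mpr ⟨x, hx, rfl⟩
    obtain ⟨r, hr'⟩ := Ideal.mem_span_singleton'.mp h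
    rw [← hr', mul_assoc, he'.eq]
  have hleft : ∀ x ∈ I, e' * π x = π x := by
    intro x hx
    set u := (1 - e') * π x with hu
    obtain ⟨f, hf, hfs⟩ :=
      IsSemisimpleRing.ideal_eq_span_idempotent (Ideal.span ({u} : Set (R ⧸ J)))
    obtain ⟨r, hr1⟩ := Ideal.mem_span_singleton'.mp (hfs ▸ Ideal.mem_span_singleton_self f :
      f ∈ Ideal.span ({u} : Set (R ⧸ J)))
    obtain ⟨s, rfl⟩ := hπ r
    have hx2 : π (x * s) * (1 - e') = 0 := by
      rw [mul_sub, mul_one, hright _ (hr x hx s), sub_self]
    have hf0 : f = 0 := by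
      calc f = f * f := hf.eq.symm
        _ = π s * (1 - e') * (π (x * s) * (1 - e')) * π x := by
          rw [← hr1, hu, map_mul]; simp only [mul_assoc]
        _ = 0 := by rw [hx2, mul_zero, zero_mul]
    obtain ⟨t, ht⟩ := Ideal.mem_span_singleton'.mp (hfs ▸ Ideal.mem_span_singleton_self u :
      u ∈ Ideal.span ({f} : Set (R ⧸ J)))
    rw [hf0, mul_zero, hu, sub_mul, one_mul] at ht
    exact (sub_eq_zero.mp ht.symm).symm
  have hker : ∀ y, π y = 0 → y ∈ J := fun y hy => Ideal.Quotient.eq_zero_iff_mem.mp hy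
  have hR : ∀ n : ℕ, ∀ x ∈ I, x * (1 - e) ^ (n + 1) ∈ J ^ (n + 1) := by
    intro n
    induction n with
    | zero =>
      intro x hx
      rw [zero_add, pow_one, Submodule.pow_one]
      exact hker _ (by rw [map_mul, map_sub, map_one, hee, mul_sub, mul_one, hright x hx, sub_self])
    | succ n ih =>
      intro x hx
      have h := hII x hx
      clear hx
      induction h using AddSubgroup.closure_induction with
      | mem z hz =>
        obtain ⟨a, ha, b, hb, rfl⟩ := hz
        have hj : b * (1 - e) ∈ J := hker _ (by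
          rw [map_mul, map_sub, map_one, hee, mul_sub, mul_one, hright b hb, sub_self])
        rw [pow_succ', ← mul_assoc, mul_assoc a b]
        have h := hIJ a ha _ hj
        generalize a * (b * (1 - e)) = w at h ⊢
        induction h using AddSubgroup.closure_induction with
        | mem z hz =>
          obtain ⟨c, hc, d, hd, rfl⟩ := hz
          rw [mul_assoc, Submodule.pow_succ' J n.succ_ne_zero]
          exact Ideal.mul_mem_mul hc (ih d hd)
        | zero => simp
        | add y z _ _ hy hz => rw [add_mul]; exact Ideal.add_mem _ hy hz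
        | neg y _ hy => rw [neg_mul]; exact neg_mem hy
      | zero => simp
      | add y z _ _ hy hz => rw [add_mul]; exact Ideal.add_mem _ hy hz
      | neg y _ hy => rw [neg_mul]; exact neg_mem hy
  have hL : ∀ n : ℕ, ∀ x ∈ I, (1 - e) ^ (n + 1) * x ∈ J ^ (n + 1) := by
    intro n
    induction n with
    | zero =>
      intro x hx
      rw [zero_add, pow_one, Submodule.pow_one]
      exact hker _ (by rw [map_mul, map_sub, map_one, hee, sub_mul, one_mul, hleft x hx, sub_self])
    | succ n ih =>
      intro x hx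
      have h := hII x hx
      clear hx
      induction h using AddSubgroup.closure_induction with
      | mem z hz =>
        obtain ⟨a, ha, b, hb, rfl⟩ := hz
        have hj : (1 - e) * a ∈ J := hker _ (by
          rw [map_mul, map_sub, map_one, hee, sub_mul, one_mul, hleft a ha, sub_self])
        rw [pow_succ, mul_assoc, ← mul_assoc (1 - e) a]
        have h := hJI b hb _ hj
        generalize (1 - e) * a * b = w at h ⊢
        induction h using AddSubgroup.closure_induction with
        | mem z hz =>
          obtain ⟨c, hc, d, hd, rfl⟩ := hz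
          rw [← mul_assoc, Submodule.pow_succ]
          exact Ideal.mul_mem_mul (ih c hc) hd
        | zero => simp
        | add y z _ _ hy hz => rw [mul_add]; exact Ideal.add_mem _ hy hz
        | neg y _ hy => rw [mul_neg]; exact neg_mem hy
      | zero => simp
      | add y z _ _ hy hz => rw [mul_add]; exact Ideal.add_mem _ hy hz
      | neg y _ hy => rw [mul_neg]; exact neg_mem hy
  obtain ⟨N, hN⟩ : IsNilpotent J := IsSemiprimaryRing.isNilpotent
  refine ⟨1 - (1 - e) ^ (N + 1), ?_, fun x hx => ?_, fun x hx => ?_⟩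
  · rw [← geom_sum_mul_neg (1 - e) (N + 1), sub_sub_cancel]
    exact I.mul_mem_left _ heI
  · have h := hR N x hx
    rw [Submodule.pow_succ, hN, zero_mul, Ideal.zero_eq_bot, Ideal.mem_bot] at h
    rw [mul_sub, mul_one, h, sub_zero]
  · have h := hL N x hx
    rw [Submodule.pow_succ, hN, zero_mul, Ideal.zero_eq_bot, Ideal.mem_bot] at h
    rw [sub_mul, one_mul, h, sub_zero]

end Cfsg.Agent.BC87
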