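import Cfsg.Agent.BC87.Basic
import Cfsg.Agent.Blocks88.Basic
import Cfsg.Agent.Lib.PGroup.Basic
import Cfsg.Agent.Lib.CharCore.Linear

/-!
# `p`-groups in which the characters of equal degree are Galois conjugate
-/

set_option autoImplicit false

open scoped ComplexConjugate commutatorElement

namespace Cfsg.Agent.BC87

universe u

/-- Non-linear irreducible characters of equal degree are Galois conjugate. -/
def EqualDegreeGalois (P : Type u) [Group P] : Prop :=
  ∀ χ ψ : Cfsg.IrrCharacter P, Cfsg.charDegree (χ : P → ℂ) ≠ 1 →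
    Cfsg.charDegree (χ : P → ℂ) = Cfsg.charDegree (ψ : P → ℂ) →
    ∃ k : ℕ, Nat.Coprime k (Nat.card P) ∧ ∀ g : P, (ψ : P → ℂ) g = (χ : P → ℂ) (g ^ k)

variable {P : Type u} [Group P] [Finite P]

theorem kerChar_eq_of_galois (hyp : EqualDegreeGalois P) {χ ψ : Cfsg.IrrCharacter P}
    (h1 : Cfsg.charDegree (χ : P → ℂ) ≠ 1)
    (h : Cfsg.charDegree (χ : P → ℂ) = Cfsg.charDegree (ψ : P → ℂ)) : kerChar χ = kerChar ψ := by
  obtain ⟨k, hk, hg⟩ := hyp χ ψ h1 h
  have he : (ψ : P → ℂ) 1 = (χ : P → ℂ) 1 := by rw [hg, one_pow]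
  ext g
  simp only [mem_kerChar, hg g, he]
  refine ⟨fun hm => mem_kerChar.mp ((kerChar χ).pow_mem hm k), fun hm => ?_⟩
  have hcop : (orderOf g).Coprime k :=
    (hk.coprime_dvd_right (orderOf_dvd_natCard g)).symm
  obtain ⟨m, hm'⟩ := exists_pow_eq_self_of_coprime hcop.symm
  rw [← hm']
  exact mem_kerChar.mp ((kerChar χ).pow_mem (show g ^ k ∈ kerChar χ from hm) m)

theorem charDegree_inflEquiv (K : Subgroup P) [K.Normal] (θ : Cfsg.IrrCharacter (P ⧸ K)) :
    Cfsg.charDegree ((inflEquiv K θ).1 : P → ℂ) = Cfsg.charDegree (θ : P ⧸ K → ℂ) := by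
  unfold Cfsg.charDegree
  rw [inflEquiv_apply]
  rfl

theorem equalDegreeGalois_quotient (hyp : EqualDegreeGalois P) (K : Subgroup P) [K.Normal] :
    EqualDegreeGalois (P ⧸ K) := by
  intro χ ψ h1 h
  obtain ⟨k, hk, hg⟩ := hyp (inflEquiv K χ).1 (inflEquiv K ψ).1
    (by rwa [charDegree_inflEquiv]) (by rwa [charDegree_inflEquiv, charDegree_inflEquiv])
  refine ⟨k, hk.coprime_dvd_right (Subgroup.card_quotient_dvd_card K), fun x => ?_⟩
  obtain ⟨g, rfl⟩ := QuotientGroup.mk_surjective x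
  have := hg g
  rwa [inflEquiv_apply, inflEquiv_apply, QuotientGroup.mk_pow] at this

theorem charDegree_ne_one_of_notMem {χ : Cfsg.IrrCharacter P} {c : P} (hc : c ∈ commutator P)
    (h : c ∉ kerChar χ) : Cfsg.charDegree (χ : P → ℂ) ≠ 1 := by
  intro h1
  obtain ⟨b, hb⟩ := CharCore.IsCharacter.exists_hom_of_degree_one (CharCore.irr_isCharacter χ)
    (by rw [apply_one_eq, h1, Nat.cast_one])
  refine h (mem_kerChar.mpr ?_)
  rw [hb]
  show (b c : ℂ) = (b 1 : ℂ)
  rw [MonoidHom.mem_ker.mp (Abelianization.commutator_subset_ker b hc), map_one]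

theorem not_commutator_le_kerChar {χ : Cfsg.IrrCharacter P}
    (h : Cfsg.charDegree (χ : P → ℂ) ≠ 1) : ¬ commutator P ≤ kerChar χ := by
  intro hle
  obtain ⟨θ, hθ⟩ := (inflEquiv (commutator P)).surjective ⟨χ, hle⟩
  apply h
  rw [show χ = (inflEquiv (commutator P) θ).1 from (congrArg Subtype.val hθ).symm,
    charDegree_inflEquiv, charDegree_eq (n := 1)]
  rw [Nat.cast_one]
  exact apply_one_eq_one_of_comm (fun a b => mul_comm (G := Abelianization P) a b) θ

theorem exists_nonlinear (hna : commutator P ≠ ⊥) :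
    ∃ χ : Cfsg.IrrCharacter P, Cfsg.charDegree (χ : P → ℂ) ≠ 1 := by
  by_contra! h
  apply hna
  rw [eq_bot_iff]
  intro c hc
  refine mem_of_forall_kerChar ⊥ fun χ _ => ?_
  by_contra hn
  exact charDegree_ne_one_of_notMem hc hn (h χ)

/-- Every non-identity element is outside the kernel of some non-linear irreducible character. -/
theorem exists_nonlinear_notMem (hna : commutator P ≠ ⊥) {z : P} (hz : z ≠ 1) :
    ∃ χ : Cfsg.IrrCharacter P, Cfsg.charDegree (χ : P → ℂ) ≠ 1 ∧ z ∉ kerChar χ := by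
  obtain ⟨χ₁, h₁⟩ := exists_nonlinear hna
  by_cases hz₁ : z ∈ kerChar χ₁
  swap; · exact ⟨χ₁, h₁, hz₁⟩
  obtain ⟨χ, hχ⟩ : ∃ χ : Cfsg.IrrCharacter P, z ∉ kerChar χ := by
    by_contra! h
    exact hz (Subgroup.mem_bot.mp (mem_of_forall_kerChar ⊥ fun χ _ => h χ))
  by_cases hd : Cfsg.charDegree (χ : P → ℂ) = 1
  swap; · exact ⟨χ, hd, hχ⟩
  obtain ⟨b, hb⟩ := CharCore.IsCharacter.exists_hom_of_degree_one (CharCore.irr_isCharacter χ)
    (by rw [apply_one_eq, hd, Nat.cast_one])
  let ψ : Cfsg.IrrCharacter P := ⟨_, CharCore.isIrrCharacter_hom_mul b χ₁.2⟩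
  have hψ1 : (ψ : P → ℂ) 1 = (χ₁ : P → ℂ) 1 := by
    show (b 1 : ℂ) * _ = _
    rw [map_one, Units.val_one, one_mul]
  refine ⟨ψ, by rwa [show Cfsg.charDegree (ψ : P → ℂ) = Cfsg.charDegree (χ₁ : P → ℂ) by
    unfold Cfsg.charDegree; rw [hψ1]], fun hm => hχ ?_⟩
  rw [mem_kerChar, hψ1] at hm
  change (b z : ℂ) * (χ₁ : P → ℂ) z = _ at hm
  rw [mem_kerChar.mp hz₁] at hm
  rw [mem_kerChar, hb]
  show (b z : ℂ) = (b 1 : ℂ)
  rw [map_one, Units.val_one]
  exact (mul_eq_right₀ (CharCore.irr_apply_one_ne_zero χ₁)).mp hm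

/-- Translation by a central element. -/
theorem apply_central_mul (χ : Cfsg.IrrCharacter P) {c : P} (hc : c ∈ Subgroup.center P) (g : P) :
    (χ : P → ℂ) (c * g) * (χ : P → ℂ) 1 = (χ : P → ℂ) c * (χ : P → ℂ) g := by
  obtain ⟨n, ρ, hρ, h⟩ := χ.2
  obtain ⟨a, ha⟩ := CharClifford.exists_scalar_of_mem_center ρ hc
  rw [← h, Representation.char_one,
    show ρ.character c = a * (Module.finrank ℂ (Fin n → ℂ) : ℂ) from
      CharClifford.scalar_eq_of_trace ha]
  simp only [Representation.character, map_mul, ha, smul_mul_assoc, one_mul, map_smul, smul_eq_mul]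
  ring

section DerivedPrime

variable {p : ℕ} [hp : Fact p.Prime] (hP : IsPGroup p P) (hD : Nat.card (commutator P) = p)

include hD in
theorem kerChar_inf_commutator {χ : Cfsg.IrrCharacter P}
    (h : Cfsg.charDegree (χ : P → ℂ) ≠ 1) {c : P} (hc : c ∈ commutator P)
    (hk : c ∈ kerChar χ) : c = 1 := by
  by_contra h1
  refine not_commutator_le_kerChar h fun d hd => ?_
  have he : Subgroup.zpowers c = commutator P := by
    refine Subgroup.eq_of_le_of_card_ge (Subgroup.zpowers_le.mpr hc) ?_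
    have hdiv : Nat.card (Subgroup.zpowers c) ∣ p :=
      hD ▸ Subgroup.card_dvd_of_le (Subgroup.zpowers_le.mpr hc)
    rcases (Nat.dvd_prime hp.out).mp hdiv with h2 | h2
    · exact absurd (orderOf_eq_one_iff.mp (by rwa [Nat.card_zpowers] at h2)) h1
    · rw [h2, hD]
  exact Subgroup.zpowers_le.mpr hk (he ▸ hd)

include hP hD in
theorem apply_eq_zero_of_notMem_center {χ : Cfsg.IrrCharacter P}
    (h : Cfsg.charDegree (χ : P → ℂ) ≠ 1) {g : P} (hg : g ∉ Subgroup.center P) :
    (χ : P → ℂ) g = 0 := by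
  obtain ⟨t, ht⟩ : ∃ t : P, t * g ≠ g * t := by
    by_contra! h'
    exact hg (Subgroup.mem_center_iff.mpr h')
  have hc : ⁅t, g⁆ ∈ commutator P := Subgroup.commutator_mem_commutator trivial trivial
  have hz := PGroup.le_center_of_card_eq_prime hP hD hc
  have h1 := apply_central_mul χ hz g
  have e : ⁅t, g⁆ * g = t * g * t⁻¹ := by simp [commutatorElement_def]
  rw [e, CharCore.irr_isClassFunction χ g t] at h1
  by_contra hne
  rw [mul_comm] at h1
  exact ht (commutatorElement_eq_one_iff_mul_comm.mp (kerChar_inf_commutator hD h hc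
    (mem_kerChar.mpr (mul_right_cancel₀ hne h1).symm)))

include hP hD in
theorem degree_sq_mul_card_center {χ : Cfsg.IrrCharacter P}
    (h : Cfsg.charDegree (χ : P → ℂ) ≠ 1) :
    Cfsg.charDegree (χ : P → ℂ) ^ 2 * Nat.card (Subgroup.center P) = Nat.card P := by
  classical
  have := Fintype.ofFinite P
  have h1 := (CharCore.isIrrCharacter_iff.mp χ.2).2
  rw [CharCore.classInner_def, inv_mul_eq_one₀ (Nat.cast_ne_zero.mpr Nat.card_pos.ne')] at h1
  have h2 : ∀ g : P, (χ : P → ℂ) g * conj ((χ : P → ℂ) g) =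
      if g ∈ Subgroup.center P then ((Cfsg.charDegree (χ : P → ℂ) : ℂ)) ^ 2 else 0 := by
    intro g
    split_ifs with hg
    · have h3 := apply_central_mul χ hg g⁻¹
      rw [mul_inv_cancel, CharCore.irr_apply_inv] at h3
      rw [← h3, apply_one_eq, sq]
    · rw [apply_eq_zero_of_notMem_center hP hD h hg, zero_mul]
  rw [Finset.sum_congr rfl fun g _ => h2 g, ← Finset.sum_filter, Finset.sum_const, nsmul_eq_mul,
    ← Fintype.card_subtype, Fintype.card_eq_nat_card] at h1
  have h4 : ((Cfsg.charDegree (χ : P → ℂ) ^ 2 * Nat.card (Subgroup.center P) : ℕ) : ℂ) =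
      (Nat.card P : ℂ) := by
    rw [h1]; push_cast; ring
  exact_mod_cast h4

omit [Finite P] in
theorem isCyclic_of_pow_prime_le {Z : Type*} [CommGroup Z] [Finite Z] (hZ : IsPGroup p Z)
    (z₀ : Z) (h : ∀ z : Z, z ^ p = 1 → z ∈ Subgroup.zpowers z₀) (h₀ : z₀ ^ p = 1) :
    IsCyclic Z := by
  classical
  have := Fintype.ofFinite Z
  have hb : ∀ k : ℕ, (Finset.univ.filter fun a : Z => a ^ (p ^ k) = 1).card ≤ p ^ k := by
    intro k
    induction k with
    | zero =>
      rw [pow_zero]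
      refine Finset.card_le_one.mpr fun a ha b hb => ?_
      simp only [pow_one, Finset.mem_filter] at ha hb
      rw [ha.2, hb.2]
    | succ k ih =>
      have hle := Finset.card_le_mul_card_image_of_maps_to (f := fun a : Z => a ^ p)
        (s := Finset.univ.filter fun a : Z => a ^ (p ^ (k + 1)) = 1)
        (t := Finset.univ.filter fun a : Z => a ^ (p ^ k) = 1) (fun a ha => by
          simp only [Finset.mem_filter, Finset.mem_univ, true_and] at ha ⊢
          rw [← pow_mul, ← pow_succ']; exact ha) p (fun b _ => ?_)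
      · calc _ ≤ _ := hle
          _ ≤ p * p ^ k := Nat.mul_le_mul_left _ ih
          _ = p ^ (k + 1) := (pow_succ' p k).symm
      rcases (((Finset.univ.filter fun a : Z => a ^ (p ^ (k + 1)) = 1).filter
        fun a => a ^ p = b)).eq_empty_or_nonempty with he | ⟨a₀, ha₀⟩
      · simp [he]
      have hz : Nat.card (Subgroup.zpowers z₀) ≤ p := by
        rw [Nat.card_zpowers]; exact orderOf_le_of_pow_eq_one hp.out.pos h₀
      rw [Nat.card_eq_fintype_card, Fintype.card_subtype] at hz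
      refine le_trans (Finset.card_le_card_of_injOn (fun a => a₀⁻¹ * a) (fun a ha => ?_)
        fun a _ c _ e => mul_left_cancel e) hz
      simp only [Finset.mem_coe, Finset.mem_filter, Finset.mem_univ, true_and] at ha ha₀ ⊢
      exact h _ (by rw [mul_pow, inv_pow, ha.2, ha₀.2, inv_mul_cancel])
  refine isCyclic_of_card_pow_eq_one_le fun n hn => ?_
  obtain ⟨N, hN⟩ := IsPGroup.iff_card.mp hZ
  obtain ⟨k, -, hk⟩ := (Nat.dvd_prime_pow hp.out).mp (Nat.gcd_dvd_right n (p ^ N))
  refine le_trans (le_trans (Finset.card_le_card fun a ha => ?_) (hb k))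
    (hk ▸ Nat.gcd_le_left (p ^ N) hn)
  simp only [Finset.mem_filter, Finset.mem_univ, true_and] at ha ⊢
  rw [← hk]
  exact pow_gcd_eq_one.mpr ⟨ha, by rw [← hN]; exact pow_card_eq_one'⟩

include hP hD in
theorem isCyclic_center (hyp : EqualDegreeGalois P) : IsCyclic (Subgroup.center P) := by
  have hDne : commutator P ≠ ⊥ := fun h => by
    rw [h, Subgroup.card_bot] at hD; exact hp.out.one_lt.ne hD
  obtain ⟨d, hd, hd1, hdp⟩ := PGroup.exists_mem_pow_eq_one hP hDne
  have hdz := PGroup.le_center_of_card_eq_prime hP hD hd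
  letI : CommGroup (Subgroup.center P) :=
    { mul_comm := fun a b => Subtype.ext (Subgroup.mem_center_iff.mp b.2 a) }
  refine isCyclic_of_pow_prime_le (hP.to_subgroup _) ⟨d, hdz⟩ (fun z hz => ?_)
    (Subtype.ext (by simpa using hdp))
  have hzd : (z : P) ∈ commutator P := by
    by_contra hzD
    have hzp : (z : P) ^ p = 1 := by simpa using congrArg Subtype.val hz
    have hz1 : (z : P) ≠ 1 := fun h => hzD (h ▸ one_mem _)
    have hA : (Subgroup.zpowers (z : P)).Normal := ⟨fun a ha g => by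
      rw [Subgroup.mem_center_iff.mp (Subgroup.zpowers_le.mpr z.2 ha) g, mul_inv_cancel_right]
      exact ha⟩
    have hmap : d ∉ Subgroup.zpowers (z : P) := by
      intro hdA
      refine hzD ?_
      have he : Subgroup.zpowers d = Subgroup.zpowers (z : P) := by
        refine Subgroup.eq_of_le_of_card_ge (Subgroup.zpowers_le.mpr hdA) ?_
        rw [Nat.card_zpowers, Nat.card_zpowers, orderOf_eq_prime hdp hd1,
          orderOf_eq_prime hzp hz1]
      exact Subgroup.zpowers_le.mpr hd (he ▸ Subgroup.mem_zpowers _)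
    obtain ⟨θ, hθ⟩ := exists_nonlinear (P := P ⧸ Subgroup.zpowers (z : P)) fun hb => by
      have h1 : commutator P ≤ (commutator (P ⧸ Subgroup.zpowers (z : P))).comap
          (QuotientGroup.mk' (Subgroup.zpowers (z : P))) := by
        rw [commutator_def, Subgroup.commutator_le]
        intro a _ b _
        rw [Subgroup.mem_comap, map_commutatorElement]
        exact Subgroup.commutator_mem_commutator trivial trivial
      have := h1 hd
      rw [hb, Subgroup.mem_comap, Subgroup.mem_bot, QuotientGroup.mk'_apply,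
        QuotientGroup.eq_one_iff] at this
      exact hmap this
    obtain ⟨χ₂, h₂, hz₂⟩ := exists_nonlinear_notMem hDne hz1
    rw [← charDegree_inflEquiv] at hθ
    have hdeg : Cfsg.charDegree ((inflEquiv _ θ).1 : P → ℂ) =
        Cfsg.charDegree (χ₂ : P → ℂ) := by
      have e1 := degree_sq_mul_card_center hP hD hθ
      rw [← degree_sq_mul_card_center hP hD h₂] at e1
      exact Nat.pow_left_injective two_ne_zero
        (Nat.eq_of_mul_eq_mul_right Nat.card_pos e1)
    apply hz₂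
    rw [← kerChar_eq_of_galois hyp hθ hdeg]
    exact (inflEquiv _ θ).2 (Subgroup.mem_zpowers _)
  have he : Subgroup.zpowers d = commutator P := by
    refine Subgroup.eq_of_le_of_card_ge (Subgroup.zpowers_le.mpr hd) ?_
    rw [Nat.card_zpowers, orderOf_eq_prime hdp hd1, hD]
  obtain ⟨i, hi⟩ := Subgroup.mem_zpowers_iff.mp (he ▸ hzd : (z : P) ∈ Subgroup.zpowers d)
  exact Subgroup.mem_zpowers_iff.mpr ⟨i, Subtype.ext (by simpa using hi)⟩

include hP hD in
/-- With cyclic centre and derived subgroup of order `p` the non-linear characters are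
Galois conjugate. -/
theorem galois_of_cyclic_center (hZ : IsCyclic (Subgroup.center P)) : EqualDegreeGalois P := by
  classical
  intro χ ψ hχ hdeg
  have hψ : Cfsg.charDegree (ψ : P → ℂ) ≠ 1 := hdeg ▸ hχ
  have hfaith : ∀ φ : Cfsg.IrrCharacter P, Cfsg.charDegree (φ : P → ℂ) ≠ 1 →
      ∀ z ∈ Subgroup.center P, z ∈ kerChar φ → z = 1 := by
    intro φ hφ z hz hk
    by_contra h1
    have hne : Subgroup.zpowers z ≠ ⊥ := by rwa [ne_eq, Subgroup.zpowers_eq_bot]
    obtain ⟨x, hx, hx1, hxp⟩ := PGroup.exists_mem_pow_eq_one hP hne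
    have hxD : x ∈ commutator P := by
      have hDne : commutator P ≠ ⊥ := fun h => by
        rw [h, Subgroup.card_bot] at hD; exact hp.out.one_lt.ne hD
      obtain ⟨d, hd, hd1, hdp⟩ := PGroup.exists_mem_pow_eq_one hP hDne
      have hdz := PGroup.le_center_of_card_eq_prime hP hD hd
      have hxz : x ∈ Subgroup.center P := Subgroup.zpowers_le.mpr hz hx
      haveI := Fintype.ofFinite (Subgroup.center P)
      have hle := IsCyclic.card_pow_eq_one_le (α := Subgroup.center P) hp.out.pos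
      have hsub : (Subgroup.zpowers (⟨d, hdz⟩ : Subgroup.center P) : Set (Subgroup.center P)).toFinset ⊆
          Finset.univ.filter fun a => a ^ p = 1 := fun a ha => by
        rw [Set.mem_toFinset, SetLike.mem_coe] at ha
        obtain ⟨i, rfl⟩ := Subgroup.mem_zpowers_iff.mp ha
        refine Finset.mem_filter.mpr ⟨Finset.mem_univ _, Subtype.ext ?_⟩
        simp only [SubmonoidClass.coe_pow, SubgroupClass.coe_zpow, OneMemClass.coe_one]
        rw [← zpow_natCast, ← zpow_mul, mul_comm, zpow_mul, zpow_natCast, hdp, one_zpow]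
      have heq := Finset.eq_of_subset_of_card_le hsub (le_trans hle (le_of_eq (by
        rw [Set.toFinset_card, ← Nat.card_eq_fintype_card]
        exact ((Nat.card_zpowers _).trans ((Subgroup.orderOf_mk _ _).trans
          (orderOf_eq_prime hdp hd1))).symm)))
      obtain ⟨i, hi⟩ := Subgroup.mem_zpowers_iff.mp (Set.mem_toFinset.mp
        (heq ▸ Finset.mem_filter.mpr ⟨Finset.mem_univ _, Subtype.ext (by simpa using hxp)⟩ :
          (⟨x, hxz⟩ : Subgroup.center P) ∈
            (Subgroup.zpowers (⟨d, hdz⟩ : Subgroup.center P) : Set (Subgroup.center P)).toFinset))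
      have hi' : d ^ i = x := by simpa using congrArg Subtype.val hi
      exact hi' ▸ (commutator P).zpow_mem hd i
    exact hx1 (kerChar_inf_commutator hD hφ hxD (Subgroup.zpowers_le.mpr hk hx))
  obtain ⟨z₀, hz₀⟩ := hZ.exists_generator
  have hlam : ∀ φ : Cfsg.IrrCharacter P, Cfsg.charDegree (φ : P → ℂ) ≠ 1 →
      IsPrimitiveRoot ((φ : P → ℂ) (z₀ : P) / (φ : P → ℂ) 1) (orderOf z₀) ∧
      ∀ i : ℕ, (φ : P → ℂ) ((z₀ : P) ^ i) =
        ((φ : P → ℂ) (z₀ : P) / (φ : P → ℂ) 1) ^ i * (φ : P → ℂ) 1 := by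
    intro φ hφ
    have hne := CharCore.irr_apply_one_ne_zero φ
    have hpow : ∀ i : ℕ, (φ : P → ℂ) ((z₀ : P) ^ i) =
        ((φ : P → ℂ) (z₀ : P) / (φ : P → ℂ) 1) ^ i * (φ : P → ℂ) 1 := by
      intro i
      induction i with
      | zero => simp
      | succ i ih =>
        have h := apply_central_mul φ z₀.2 ((z₀ : P) ^ i)
        rw [← pow_succ', ih] at h
        apply mul_right_cancel₀ hne
        rw [h, pow_succ']
        field_simp
    refine ⟨⟨?_, fun l hl => ?_⟩, hpow⟩
    · have h := hpow (orderOf z₀)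
      rw [← SubmonoidClass.coe_pow, pow_orderOf_eq_one, OneMemClass.coe_one] at h
      exact mul_right_cancel₀ hne (h.symm.trans (one_mul _).symm)
    · have h := hpow l
      rw [hl, one_mul] at h
      exact orderOf_dvd_of_pow_eq_one (Subtype.ext (by
        simpa using hfaith φ hφ _ (Subgroup.pow_mem _ z₀.2 l) (mem_kerChar.mpr h)))
  obtain ⟨hprim, hpow⟩ := hlam χ hχ
  obtain ⟨hprim', hpow'⟩ := hlam ψ hψ
  haveI : NeZero (orderOf z₀) := ⟨(orderOf_pos z₀).ne'⟩
  obtain ⟨k, -, hk, hkeq⟩ := hprim.isPrimitiveRoot_iff.mp hprim'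
  obtain ⟨N, hN⟩ := IsPGroup.iff_card.mp hP
  have hne1 : orderOf z₀ ≠ 1 := by
    intro h
    have hDne : commutator P ≠ ⊥ := fun h => by
      rw [h, Subgroup.card_bot] at hD; exact hp.out.one_lt.ne hD
    obtain ⟨d, hd, hd1, -⟩ := PGroup.exists_mem_pow_eq_one hP hDne
    have := hz₀ ⟨d, PGroup.le_center_of_card_eq_prime hP hD hd⟩
    rw [orderOf_eq_one_iff.mp h, Subgroup.zpowers_one_eq_bot, Subgroup.mem_bot] at this
    exact hd1 (congrArg Subtype.val this)
  have hkp : ¬ p ∣ k := by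
    intro hpk
    obtain ⟨j, -, hj⟩ := (Nat.dvd_prime_pow hp.out).mp
      (hN ▸ (Subgroup.orderOf_coe z₀ ▸ orderOf_dvd_natCard (z₀ : P)))
    rw [hj] at hk hne1
    rcases j with _ | j
    · exact hne1 (pow_zero p)
    · exact hp.out.not_dvd_one (hk.gcd_eq_one ▸ Nat.dvd_gcd hpk (dvd_pow_self p j.succ_ne_zero))
  have hcop : Nat.Coprime k (Nat.card P) := by
    rw [hN]
    exact Nat.Coprime.pow_right _ ((Nat.Prime.coprime_iff_not_dvd hp.out).mpr hkp).symm
  refine ⟨k, hcop, fun g => ?_⟩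
  by_cases hg : g ∈ Subgroup.center P
  · obtain ⟨i, hi⟩ : ∃ i : ℕ, (z₀ : P) ^ i = g := by
      obtain ⟨i, -, hi⟩ := Finset.mem_image.mp
        (mem_zpowers_iff_mem_range_orderOf.mp (hz₀ ⟨g, hg⟩))
      exact ⟨i, by simpa using congrArg Subtype.val hi⟩
    rw [← hi, ← pow_mul, hpow', hpow, ← hkeq, ← pow_mul, mul_comm k i, apply_one_eq, apply_one_eq,
      hdeg]
  · have hgk : g ^ k ∉ Subgroup.center P := by
      intro hm
      obtain ⟨m, hm'⟩ := exists_pow_eq_self_of_coprime
        (hcop.coprime_dvd_right (orderOf_dvd_natCard g))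
      exact hg (hm' ▸ Subgroup.pow_mem _ hm m)
    rw [apply_eq_zero_of_notMem_center hP hD hψ hg, apply_eq_zero_of_notMem_center hP hD hχ hgk]

end DerivedPrime

end Cfsg.Agent.BC87
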