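import Mathlib.GroupTheory.SpecificGroups.Quaternion
import Mathlib.Algebra.Group.End
import Mathlib.FieldTheory.Finite.Basic

/-!
# Automorphisms of odd order of generalised quaternion groups
-/

set_option autoImplicit false

open QuaternionGroup

namespace Cfsg.Agent.BC87.QuatAut

theorem pow_apply {G : Type*} [Group G] (σ : MulAut G) (m : ℕ) (x : G) :
    (σ ^ m) x = σ^[m] x := by
  induction m generalizing x with
  | zero => rfl
  | succ m ih =>
    rw [pow_succ, MulAut.mul_apply, ih, Function.iterate_succ_apply]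

/-- The endomap of the quaternion group of order `8` determined by the images of the generators. -/
def ext8 (u v : QuaternionGroup 2) : QuaternionGroup 2 → QuaternionGroup 2
  | a i => u ^ i.val
  | xa i => v * u ^ i.val

set_option maxRecDepth 100000 in
set_option maxHeartbeats 1000000 in
theorem ext8_iterate : ∀ u v : QuaternionGroup 2, u * u = a 2 → v * v = a 2 → v ≠ u →
    v ≠ u * u * u → (ext8 u v)^[12] (a 1) = a 1 ∧ (ext8 u v)^[12] (xa 0) = xa 0 := by
  decide

theorem a_eq_pow {N : ℕ} [NeZero N] (i : ZMod (2 * N)) :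
    (a i : QuaternionGroup N) = a 1 ^ i.val := by
  rw [a_one_pow, ZMod.natCast_zmod_val]

theorem eq_ext8 (σ : MulAut (QuaternionGroup 2)) (x : QuaternionGroup 2) :
    σ x = ext8 (σ (a 1)) (σ (xa 0)) x := by
  rcases x with i | i
  · rw [a_eq_pow i, map_pow, ← a_eq_pow i]
    rfl
  · show σ (xa i) = σ (xa 0) * σ (a 1) ^ i.val
    rw [← map_pow, ← map_mul, ← a_eq_pow, xa_mul_a, zero_add]

theorem eq_one_of_gen {N : ℕ} [NeZero N] (σ : MulAut (QuaternionGroup N))
    (h1 : σ (a 1) = a 1) (h2 : σ (xa 0) = xa 0) : σ = 1 := by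
  refine MulEquiv.ext fun x => ?_
  rcases x with i | i
  · rw [a_eq_pow i, map_pow, h1]; rfl
  · rw [MulAut.one_apply, show (xa i : QuaternionGroup N) = xa 0 * a i by simp, map_mul,
      a_eq_pow i, map_pow, h1, h2]

theorem pow_twelve (σ : MulAut (QuaternionGroup 2)) : σ ^ 12 = 1 := by
  have hne : σ (xa 0) ≠ σ (a 1) := fun h => absurd (σ.injective h) (by decide)
  have hne' : σ (xa 0) ≠ σ (a 1) * σ (a 1) * σ (a 1) := fun h => by
    rw [← map_mul, ← map_mul] at h
    exact absurd (σ.injective h) (by decide)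
  have h2 : σ (a 2) = a 2 := by
    have key : ∀ x : QuaternionGroup 2, x * x = 1 → x = 1 ∨ x = a 2 := by decide
    rcases key (σ (a 2)) (by rw [← map_mul, show (a 2 * a 2 : QuaternionGroup 2) = 1 by decide,
      map_one]) with h | h
    · exact absurd (σ.injective (h.trans (map_one σ).symm)) (by decide)
    · exact h
  obtain ⟨e1, e2⟩ := ext8_iterate _ _ (by rw [← map_mul, ← h2]; congr 1)
    (by rw [← map_mul, ← h2]; congr 1) hne hne'
  have hf : (σ : QuaternionGroup 2 → QuaternionGroup 2) = ext8 (σ (a 1)) (σ (xa 0)) :=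
    funext (eq_ext8 σ)
  refine eq_one_of_gen _ ?_ ?_
  · rw [pow_apply, hf]; exact e1
  · rw [pow_apply, hf]; exact e2

theorem eq_one_of_pow_prime_pow {n : ℕ} (hn : 1 ≤ n) (σ : MulAut (QuaternionGroup (2 ^ n)))
    {p k : ℕ} (hp : p.Prime) (hp2 : p ≠ 2) (h3 : n = 1 → p ≠ 3) (hσ : σ ^ p ^ k = 1) :
    σ = 1 := by
  rcases hn.eq_or_lt with rfl | hn
  · have h12 : σ ^ 12 = 1 := pow_twelve σ
    have hcop : (p ^ k).Coprime 12 := by
      refine Nat.Coprime.pow_left k (hp.coprime_iff_not_dvd.mpr fun hd => ?_)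
      have h4 : p ∣ 2 * (2 * 3) := hd
      rcases hp.dvd_mul.mp h4 with h5 | h5
      · exact hp2 ((Nat.prime_dvd_prime_iff_eq hp Nat.prime_two).mp h5)
      · rcases hp.dvd_mul.mp h5 with h6 | h6
        · exact hp2 ((Nat.prime_dvd_prime_iff_eq hp Nat.prime_two).mp h6)
        · exact h3 rfl ((Nat.prime_dvd_prime_iff_eq hp Nat.prime_three).mp h6)
    simpa [hcop.gcd_eq_one] using pow_gcd_eq_one.mpr ⟨hσ, h12⟩
  have hN : 4 ≤ 2 ^ n := (by norm_num : 4 = 2 ^ 2) ▸ Nat.pow_le_pow_right (by norm_num) hn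
  -- the generator of the cyclic subgroup is mapped into it
  obtain ⟨c, hc⟩ : ∃ c, σ (a 1) = a c := by
    rcases h : σ (a 1) with c | c
    · exact ⟨c, rfl⟩
    · have := MulEquiv.orderOf_eq σ (a 1)
      rw [h, orderOf_xa, orderOf_a_one] at this
      omega
  have hmap : ∀ i, σ (a i) = a (c * i) := fun i => by
    rw [a_eq_pow i, map_pow, hc, a_eq_pow c, ← pow_mul, a_one_pow, Nat.cast_mul,
      ZMod.natCast_zmod_val, ZMod.natCast_zmod_val]
  have hit : ∀ m : ℕ, σ^[m] (a 1) = a (c ^ m) := by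
    intro m
    induction m with
    | zero => simp
    | succ m ih => rw [Function.iterate_succ_apply', ih, hmap, pow_succ']
  have hck : c ^ p ^ k = 1 := by
    have := hit (p ^ k)
    rw [← pow_apply, hσ, MulAut.one_apply] at this
    exact (a.inj this).symm
  have hcop2 : p.Coprime 2 := (Nat.coprime_primes hp Nat.prime_two).mpr hp2
  have hc1 : c = 1 := by
    let u := Units.ofPowEqOne c (p ^ k) hck (pow_ne_zero _ hp.ne_zero)
    have hu : u ^ p ^ k = 1 := Units.pow_ofPowEqOne _ _
    have hu2 : u ^ 2 ^ n = 1 := by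
      have h := ZMod.pow_totient u
      have ht : Nat.totient (2 * 2 ^ n) = 2 ^ n := by
        rw [← pow_succ', Nat.totient_prime_pow_succ Nat.prime_two]; simp
      rwa [ht] at h
    have := pow_gcd_eq_one.mpr ⟨hu, hu2⟩
    rw [Nat.Coprime.gcd_eq_one ((hcop2.pow_left k).pow_right n), pow_one] at this
    exact congrArg Units.val this
  have hfix : ∀ i, σ (a i) = a i := fun i => by rw [hmap, hc1, one_mul]
  obtain ⟨l, hl⟩ : ∃ l, σ (xa 0) = xa l := by
    rcases h : σ (xa 0) with l | l
    · exact absurd (σ.injective (h.trans (hfix l).symm)) (by simp)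
    · exact ⟨l, rfl⟩
  have hit' : ∀ m : ℕ, σ^[m] (xa 0) = xa ((m : ZMod (2 * 2 ^ n)) * l) := by
    intro m
    induction m with
    | zero => simp
    | succ m ih =>
      rw [Function.iterate_succ_apply', ih,
        show (xa ((m : ZMod (2 * 2 ^ n)) * l) : QuaternionGroup (2 ^ n)) = xa 0 * a ((m : ZMod (2 * 2 ^ n)) * l) by simp,
        map_mul, hl, hfix, xa_mul_a]
      push_cast
      congr 1
      ring
  have hl0 : l = 0 := by
    have := hit' (p ^ k)
    rw [← pow_apply, hσ, MulAut.one_apply] at this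
    have hu : IsUnit ((p ^ k : ℕ) : ZMod (2 * 2 ^ n)) := by
      rw [ZMod.isUnit_iff_coprime]
      exact Nat.Coprime.mul_right (hcop2.pow_left k) ((hcop2.pow_left k).pow_right n)
    exact hu.mul_right_eq_zero.mp (xa.inj this).symm
  exact eq_one_of_gen σ (hfix 1) (by rw [hl, hl0])

end Cfsg.Agent.BC87.QuatAut
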