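import Mathlib.LinearAlgebra.Span.Basic
import Mathlib.LinearAlgebra.LinearIndependent.Defs
import Mathlib.Algebra.Field.ZMod
import Mathlib.Tactic.Module
import Mathlib.Tactic.LinearCombination

/-!
# Transitive linear groups over `ZMod 3` normalising a quaternion group
-/

set_option autoImplicit false

open Submodule

namespace Cfsg.Agent.BC87.QuatTrans

variable {M : Type*} [AddCommGroup M] [Module (ZMod 3) M]

/-- The span of `v` and `I v`. -/
def plane (I : M →ₗ[ZMod 3] M) (v : M) : Submodule (ZMod 3) M := span (ZMod 3) {v, I v}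

theorem mem_plane {I : M →ₗ[ZMod 3] M} {v x : M} :
    x ∈ plane I v ↔ ∃ a b : ZMod 3, a • v + b • I v = x := mem_span_pair

theorem eq_zero_of_comb {I : M →ₗ[ZMod 3] M} (hI : ∀ x, I (I x) = -x) {v : M} (hv : v ≠ 0)
    {a b : ZMod 3} (h : a • v + b • I v = 0) : a = 0 ∧ b = 0 := by
  have h1 : a • I v + b • (-v) = 0 := by
    simpa [hI] using congrArg I h
  have h2 : (a * a + b * b) • v = 0 := by
    linear_combination (norm := module) a • h - b • h1
  have h3 : a * a + b * b = 0 := by
    by_contra h0
    exact hv (by simpa [h0] using smul_eq_zero.mp h2)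
  revert h3
  clear * -
  revert a b
  decide

theorem map_mem_plane {I : M →ₗ[ZMod 3] M} (hI : ∀ x, I (I x) = -x) {v x : M}
    (hx : x ∈ plane I v) : I x ∈ plane I v := by
  obtain ⟨a, b, rfl⟩ := mem_plane.mp hx
  refine mem_plane.mpr ⟨-b, a, ?_⟩
  simp only [map_add, map_smul, hI]
  module

variable (I J : M →ₗ[ZMod 3] M)

theorem card_le_nine (hI : ∀ x, I (I x) = -x) (hJ : ∀ x, J (J x) = -x)
    (hJI : ∀ x, J (I x) = -I (J x))
    (htr : ∀ v w : M, v ≠ 0 → w ≠ 0 → ∃ g : M →ₗ[ZMod 3] M, g v = w ∧
      ∀ S : Submodule (ZMod 3) M, (∀ x ∈ S, I x ∈ S) → (∀ x ∈ S, J x ∈ S) →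
        ∀ x ∈ S.map g, I x ∈ S.map g ∧ J x ∈ S.map g) :
    Nat.card M ≤ 9 := by
  rcases subsingleton_or_nontrivial M with hM | hM
  · have := Nat.card_of_subsingleton (0 : M)
    omega
  -- a vector `v` with `J v` in its plane
  obtain ⟨v, hv, hJv⟩ : ∃ v : M, v ≠ 0 ∧ J v ∈ plane I v := by
    obtain ⟨w, hw⟩ := exists_ne (0 : M)
    have h3 : ∀ x : M, (3 : ZMod 3) • x = 0 := fun x => by
      rw [show (3 : ZMod 3) = 0 from rfl, zero_smul]
    by_cases hu : w + (I w + J w) = 0
    · refine ⟨w, hw, mem_plane.mpr ⟨-1, -1, ?_⟩⟩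
      linear_combination (norm := module) -hu
    · refine ⟨_, hu, mem_plane.mpr ⟨1, -1, ?_⟩⟩
      simp only [map_add, hI, hJ, hJI]
      linear_combination (norm := module) h3 w
  have hS : ∀ x ∈ plane I v, J x ∈ plane I v := fun x hx => by
    obtain ⟨a, b, rfl⟩ := mem_plane.mp hx
    simp only [map_add, map_smul, hJI]
    exact add_mem (smul_mem _ _ hJv) (smul_mem _ _ (neg_mem (map_mem_plane hI hJv)))
  -- every vector has this property
  have hall : ∀ w : M, w ≠ 0 → ∃ c d : ZMod 3, c • w + d • I w = J w := by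
    intro w hw
    obtain ⟨g, hgv, hg⟩ := htr v w hv hw
    have hwS : w ∈ (plane I v).map g := ⟨v, subset_span (by simp), hgv⟩
    obtain ⟨hIw, hJw⟩ := hg _ (fun x hx => map_mem_plane hI hx) hS w hwS
    obtain ⟨x, hx, hxI⟩ := hIw
    obtain ⟨y, hy, hyJ⟩ := hJw
    obtain ⟨a, b, rfl⟩ := mem_plane.mp hx
    obtain ⟨c, d, rfl⟩ := mem_plane.mp hy
    simp only [map_add, map_smul, hgv] at hxI hyJ
    have hb : b ≠ 0 := by
      rintro rfl
      have h1 : a • w + (-1 : ZMod 3) • I w = 0 := by
        linear_combination (norm := module) hxI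
      exact absurd (eq_zero_of_comb hI hw h1).2 (by decide)
    have hbb : b * b = 1 := by revert hb; clear * -; revert b; decide
    refine ⟨c - d * b * a, d * b, ?_⟩
    have h4 : g (I v) = b • (b • g (I v)) := by rw [smul_smul, hbb, one_smul]
    linear_combination (norm := module) hyJ - (d * b) • hxI - d • h4
  -- everything lies in the plane of `v`
  have htop : ∀ w : M, w ∈ plane I v := by
    by_contra hne
    push Not at hne
    obtain ⟨w, hw⟩ := hne
    obtain ⟨a, b, hab⟩ := mem_plane.mp hJv
    have key : ∀ u, u ∉ plane I v → a • u + b • I u = J u := by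
      intro u hu
      have hu0 : u ≠ 0 := fun h => hu (h ▸ zero_mem _)
      have hvu : v + u ≠ 0 := fun h => hu (by
        rw [eq_neg_of_add_eq_zero_right h]; exact neg_mem (subset_span (by simp)))
      obtain ⟨c, d, hcd⟩ := hall u hu0
      obtain ⟨e, f, hef⟩ := hall (v + u) hvu
      simp only [map_add] at hef
      have h1 : (e - c) • u + (f - d) • I u = (a - e) • v + (b - f) • I v := by
        linear_combination (norm := module) hef - hcd - hab
      have hmem : (e - c) • u + (f - d) • I u ∈ plane I v :=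
        h1 ▸ mem_plane.mpr ⟨_, _, rfl⟩
      have h2 : ((e - c) * (e - c) + (f - d) * (f - d)) • u ∈ plane I v := by
        have := sub_mem (smul_mem _ (e - c) hmem) (smul_mem _ (f - d) (map_mem_plane hI hmem))
        convert this using 1
        simp only [map_add, map_smul, hI]
        module
      have h3 : e - c = 0 ∧ f - d = 0 := by
        by_contra hne
        have hn : (e - c) * (e - c) + (f - d) * (f - d) ≠ 0 := fun h0 => hne (by
          revert h0
          generalize e - c = s
          generalize f - d = t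
          revert s t
          decide)
        exact hu ((Submodule.smul_mem_iff _ hn).mp h2)
      rw [h3.1, h3.2, zero_smul, zero_smul, add_zero] at h1
      obtain ⟨hae, hbf⟩ := eq_zero_of_comb hI hv h1.symm
      rw [sub_eq_zero] at h3 hae hbf
      rw [hae, hbf, h3.1, sub_eq_zero.mp h3.2]
      exact hcd
    have hIw : I w ∉ plane I v := fun h => hw (by simpa [hI] using map_mem_plane hI h)
    have h1 := key w hw
    have h2 := key (I w) hIw
    rw [hJI] at h2
    have h3 : I (a • w + b • I w) = I (J w) := congrArg I h1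
    simp only [map_add, map_smul, hI] at h3 h2
    have h4 : (2 : ZMod 3) • I (J w) = 0 := by linear_combination (norm := module) h2 - h3
    have h5 : I (J w) = 0 := (smul_eq_zero.mp h4).resolve_left (by decide)
    have h6 : J (J w) = 0 := by
      have := hI (J w)
      rw [h5, map_zero, eq_comm, neg_eq_zero] at this
      rw [this, map_zero]
    rw [hJ, neg_eq_zero] at h6
    exact hw (h6 ▸ zero_mem _)
  have hsurj : Function.Surjective fun ab : ZMod 3 × ZMod 3 => ab.1 • v + ab.2 • I v := fun w =>
    let ⟨a, b, hab⟩ := mem_plane.mp (htop w)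
    ⟨(a, b), hab⟩
  simpa using Nat.card_le_card_of_surjective _ hsurj

end Cfsg.Agent.BC87.QuatTrans
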