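import Cfsg.Agent.BC87.CommSylowMain

/-!
# Real characters of `p'`-degree and the subgroup generated by the `2`-elements
-/

set_option autoImplicit false
set_option linter.unusedSectionVars false
set_option linter.style.haveILetI false

open Subgroup
open scoped ComplexConjugate commutatorElement

namespace Cfsg.Agent.BC87.RealDeg

open Cfsg CommSylow

universe u

/-- The subgroup generated by the `r`-elements. -/
def gen (r : ℕ) (G : Type u) [Group G] : Subgroup G :=
  Subgroup.closure {g : G | ∃ k : ℕ, orderOf g = r ^ k}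

variable {G : Type u} [Group G] [Finite G] {p : ℕ} [hp : Fact p.Prime]

instance gen_normal (r : ℕ) : (gen r G).Normal := by
  refine ⟨fun x hx g => ?_⟩
  have h : (gen r G).map (MulAut.conj g).toMonoidHom ≤ gen r G := by
    rw [gen, MonoidHom.map_closure]
    refine Subgroup.closure_mono ?_
    rintro _ ⟨y, ⟨k, hk⟩, rfl⟩
    exact ⟨k, by rw [← hk]; exact MulEquiv.orderOf_eq (MulAut.conj g) y⟩
  exact h ⟨x, hx, rfl⟩

theorem mem_gen_of_isPGroup {r : ℕ} [Fact r.Prime] {H : Subgroup G} (hH : IsPGroup r H) {x : G}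
    (hx : x ∈ H) : x ∈ gen r G := by
  obtain ⟨k, hk⟩ := IsPGroup.iff_orderOf.mp hH ⟨x, hx⟩
  exact Subgroup.subset_closure ⟨k, by rw [← hk, Subgroup.orderOf_mk]⟩

theorem map_gen {r : ℕ} [Fact r.Prime] (N : Subgroup G) [N.Normal] :
    (gen r G).map (QuotientGroup.mk' N) = gen r (G ⧸ N) := by
  rw [gen, MonoidHom.map_closure]
  refine le_antisymm (Subgroup.closure_mono ?_) (Subgroup.closure_mono ?_)
  · rintro _ ⟨y, ⟨k, hk⟩, rfl⟩
    obtain ⟨j, -, hj⟩ := (Nat.dvd_prime_pow Fact.out).mp (hk ▸ orderOf_map_dvd (QuotientGroup.mk' N) y)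
    exact ⟨j, hj⟩
  · intro y hy
    obtain ⟨x, hx, rfl⟩ := BC84.exists_lift_qElement N hy
    exact ⟨x, hx, rfl⟩

/-- All real irreducible characters have degree prime to `p`. -/
def HReal (p : ℕ) (G : Type u) [Group G] : Prop :=
  ∀ χ : Cfsg.IrrCharacter G, (∀ g : G, ((χ : G → ℂ) g).im = 0) →
    ¬ p ∣ Cfsg.charDegree (χ : G → ℂ)

theorem HReal.quotient (h : HReal p G) (N : Subgroup G) [N.Normal] : HReal p (G ⧸ N) := by
  intro θ hθ
  let χ := (inflEquiv N θ).1
  have hd : charDegree (χ : G → ℂ) = charDegree (θ : G ⧸ N → ℂ) :=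
    charDegree_eq (by rw [inflEquiv_apply, QuotientGroup.mk_one]; exact apply_one_eq θ)
  rw [← hd]
  exact h χ fun g => by rw [inflEquiv_apply]; exact hθ g

/-- A normal subgroup containing the `2`-elements with `p`-power index over the subgroup
generated by them contains a normal `p`-subgroup of index prime to `p`. -/
def Core (p : ℕ) (G : Type u) [Group G] : Prop :=
  ∀ U : Subgroup G, U.Normal → gen 2 G ≤ U → (∃ a, (gen 2 G).relIndex U = p ^ a) →
    ∃ R : Subgroup G, R.Normal ∧ R ≤ U ∧ IsPGroup p R ∧ ¬ p ∣ R.relIndex U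

theorem core_step (hsolv : Group.IsSolvable (gen p G)) (hreal : HReal p G) (N : Subgroup G)
    [N.Normal] (hN1 : N ≠ ⊥) (hNK : N ≤ gen 2 G)
    (hmin : ∀ K : Subgroup G, K.Normal → K ≤ N → K = ⊥ ∨ K = N)
    (ih : Core p (G ⧸ N)) : Core p G := by
  haveI := Fact.mk Nat.prime_two
  haveI := hsolv
  intro W hWn hKW ⟨a₀, ha₀⟩
  obtain ⟨R', hR'n, hR'K, hR'p, hR'i⟩ := ih (W.map (QuotientGroup.mk' N))
    (hWn.map _ (QuotientGroup.mk'_surjective N)) (map_gen (r := 2) N ▸ Subgroup.map_mono hKW) (by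
      refine ⟨a₀, ?_⟩
      rw [← map_gen, Subgroup.relIndex_map_map, QuotientGroup.ker_mk', sup_eq_left.mpr hNK,
        sup_eq_left.mpr (hNK.trans hKW), ha₀])
  set R₀ := R'.comap (QuotientGroup.mk' N) with hR₀
  haveI hR₀n : R₀.Normal := hR'n.comap _
  have hNR : N ≤ R₀ := fun n hn => by
    show QuotientGroup.mk' N n ∈ R'
    rw [QuotientGroup.mk'_apply, (QuotientGroup.eq_one_iff n).mpr hn]; exact one_mem _
  have hR₀K : R₀ ≤ W := by
    refine (Subgroup.comap_mono hR'K).trans ?_
    rw [Solvable.comap_map_mk', sup_eq_left.mpr (hNK.trans hKW)]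
  have hR₀i : ¬ p ∣ R₀.relIndex W := by
    rwa [hR₀, Subgroup.relIndex_comap]
  have hrel : ∃ b, N.relIndex R₀ = p ^ b := by
    obtain ⟨b, hb⟩ := hR'p.exists_card_eq
    exact ⟨b, by rw [Thompson.relIndex_eq_card_map_mk', hR₀,
      Subgroup.map_comap_eq_self_of_surjective (QuotientGroup.mk'_surjective N), hb]⟩
  obtain ⟨b, hb⟩ := hrel
  -- `N` is either contained in or disjoint from the subgroup generated by the `p`-elements
  have hNL : N ⊓ gen p G = ⊥ ∨ N ≤ gen p G := (hmin _ inferInstance inf_le_left).imp id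
    fun h => h.ge.trans inf_le_right
  have hcomm : N ≤ gen p G → IsMulCommutative N := fun h => by
    haveI : Group.IsSolvable N :=
      Group.isSolvable_of_isSolvable_injective (Subgroup.inclusion_injective h)
    exact Solvable.isMulCommutative_of_minimal_normal N hN1 hmin
  by_cases hpN : p ∣ Nat.card N
  · -- `N` is a `p`-group
    have hle : N ≤ gen p G := by
      refine hNL.resolve_left fun hb' => ?_
      obtain ⟨⟨x, hx⟩, hxo⟩ := exists_prime_orderOf_dvd_card' p hpN
      rw [Subgroup.orderOf_mk] at hxo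
      have : x ∈ N ⊓ gen p G := ⟨hx, Subgroup.subset_closure ⟨1, by rw [hxo, pow_one]⟩⟩
      rw [hb', Subgroup.mem_bot] at this
      rw [this, orderOf_one] at hxo
      exact hp.out.ne_one hxo.symm
    haveI := hcomm hle
    obtain ⟨S⟩ : Nonempty (Sylow p N) := inferInstance
    haveI : (S : Subgroup N).Normal := Subgroup.normal_of_isMulCommutative _
    haveI := Sylow.characteristic_of_normal S inferInstance
    have hS : (S : Subgroup N).map N.subtype = N := by
      refine (hmin _ inferInstance (Subgroup.map_subtype_le _)).resolve_left fun h => ?_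
      exact S.ne_bot_of_dvd_card hpN
        ((Subgroup.map_eq_bot_iff_of_injective _ N.subtype_injective).mp h)
    obtain ⟨a, ha⟩ := (S.2.map N.subtype).exists_card_eq
    rw [hS] at ha
    refine ⟨R₀, hR₀n, hR₀K, IsPGroup.of_card (n := b + a) ?_, hR₀i⟩
    rw [← Subgroup.relIndex_bot_left, ← Subgroup.relIndex_mul_relIndex ⊥ N R₀ bot_le hNR,
      Subgroup.relIndex_bot_left, ha, hb, ← pow_add, add_comm]
  -- otherwise there is a Sylow complement
  have hcop : (Nat.card (N.subgroupOf R₀)).Coprime (N.subgroupOf R₀).index := by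
    rw [Nat.card_congr (Subgroup.subgroupOfEquivOfLe hNR).toEquiv,
      show (N.subgroupOf R₀).index = p ^ b from hb]
    exact ((hp.out.coprime_iff_not_dvd.mpr hpN).symm).pow_right b
  obtain ⟨Q₀, hQ₀⟩ := Subgroup.exists_right_complement'_of_coprime hcop
  have hQ₀c : Nat.card Q₀ = p ^ b := (hQ₀.symm.index_eq_card).symm.trans hb
  have hQ₀i : ¬ p ∣ Q₀.index := by
    rw [hQ₀.index_eq_card, Nat.card_congr (Subgroup.subgroupOfEquivOfLe hNR).toEquiv]
    exact hpN
  set Q := Q₀.map R₀.subtype with hQ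
  have hQp : IsPGroup p Q := (IsPGroup.of_card hQ₀c).map _
  have hQR : Q ≤ R₀ := Subgroup.map_subtype_le _
  have hQL : Q ≤ gen p G := fun x hx => mem_gen_of_isPGroup hQp hx
  have hsup : R₀ ≤ N ⊔ Q := fun z hz => by
    obtain ⟨⟨⟨⟨n, hnR⟩, hn⟩, ⟨t, ht⟩⟩, hnt⟩ := hQ₀.2 ⟨z, hz⟩
    have : n * (t : G) = z := congrArg Subtype.val hnt
    rw [← this]
    exact Subgroup.mul_mem_sup hn ⟨t, ht, rfl⟩
  by_cases hcent : Q ≤ Subgroup.centralizer (N : Set G)
  · -- `Q` is normal
    let P : Sylow p R₀ := (IsPGroup.of_card hQ₀c).toSylow hQ₀i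
    have hQ₀n : Q₀.Normal := by
      refine ⟨fun z hz t => ?_⟩
      have h1 : (t : G) * (z : G) * (t : G)⁻¹ ∈ Q := by
        obtain ⟨n, hn, u, hu, hnu⟩ := Subgroup.mem_sup_of_normal_left.mp (hsup t.2)
        have h2 : u * (z : G) * u⁻¹ ∈ Q := mul_mem (mul_mem hu ⟨z, hz, rfl⟩) (inv_mem hu)
        have h3 := Subgroup.mem_centralizer_iff.mp (hcent h2) n hn
        rw [← hnu]
        have e : n * u * (z : G) * (n * u)⁻¹ = n * (u * (z : G) * u⁻¹) * n⁻¹ := by group
        rw [e, h3, mul_inv_cancel_right]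
        exact h2
      obtain ⟨w, hw, hwe⟩ := h1
      exact (Subtype.ext hwe : w = t * z * t⁻¹) ▸ hw
    haveI : Q₀.Characteristic :=
      Sylow.characteristic_of_normal P (show (P : Subgroup R₀).Normal from hQ₀n)
    refine ⟨Q, inferInstanceAs ((Q₀.map R₀.subtype).Normal), hQR.trans hR₀K, hQp, ?_⟩
    rw [← Subgroup.relIndex_mul_relIndex Q R₀ _ hQR hR₀K]
    intro hd
    refine (hp.out.dvd_mul.mp hd).elim (fun h => hQ₀i ?_) hR₀i
    rwa [hQ, Subgroup.relIndex, Subgroup.subgroupOf,
      Subgroup.comap_map_eq_self_of_injective R₀.subtype_injective] at h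
  exfalso
  -- `N` is abelian
  have hle : N ≤ gen p G := hNL.resolve_left fun hb' => hcent fun x hx => by
    rw [Subgroup.mem_centralizer_iff]
    intro n hn
    exact commute_of_normal_of_disjoint N (gen p G) inferInstance inferInstance
      (disjoint_iff.mpr hb') n x hn (hQL hx)
  haveI hNc : IsMulCommutative N := hcomm hle
  set X := Subgroup.normalizer (Q : Set G)
  have hG : ∀ g : G, g ∈ N ⊔ X := by
    have h := Sylow.normalizer_sup_eq_top ((IsPGroup.of_card hQ₀c).toSylow hQ₀i : Sylow p R₀)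
    intro g
    have hle' : Subgroup.normalizer (Q : Set G) ⊔ R₀ ≤ N ⊔ X := sup_le le_sup_right
      (hsup.trans (sup_le_sup_left Subgroup.le_normalizer N))
    exact hle' (h.ge (Subgroup.mem_top g))
  have hNX : N ⊓ X ≤ Subgroup.centralizer (Q : Set G) := by
    rintro n ⟨hn, hnX⟩
    rw [Subgroup.mem_centralizer_iff]
    intro t ht
    have h : n * t * n⁻¹ * t⁻¹ ∈ N ⊓ Q :=
      ⟨by rw [mul_assoc, mul_assoc, ← mul_assoc t]
          exact mul_mem hn ((inferInstance : N.Normal).conj_mem _ (inv_mem hn) t),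
        (Q.mul_mem ((Subgroup.mem_normalizer_iff.mp hnX t).mp ht) (Q.inv_mem ht) : _)⟩
    have hdisj : N ⊓ Q = ⊥ := Subgroup.inf_eq_bot_of_coprime (by
      rw [Subgroup.card_map_of_injective R₀.subtype_injective, hQ₀c]
      exact ((hp.out.coprime_iff_not_dvd.mpr hpN).symm).pow_right b)
    rw [hdisj, Subgroup.mem_bot, mul_inv_eq_one, mul_inv_eq_iff_eq_mul] at h
    exact h.symm
  have hcase : N ⊓ Subgroup.centralizer (Q : Set G) = ⊥ := by
    refine (hmin _ ⟨fun z hz g => ?_⟩ inf_le_left).resolve_right fun h => hcent ?_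
    · obtain ⟨n, hn, t, ht, rfl⟩ := Subgroup.mem_sup_of_normal_left.mp (hG g)
      have h1 : t * z * t⁻¹ ∈ N ⊓ Subgroup.centralizer (Q : Set G) := by
        refine ⟨(inferInstance : N.Normal).conj_mem z hz.1 t,
          Subgroup.mem_centralizer_iff.mpr fun u hu => ?_⟩
        have hu' : t⁻¹ * u * t ∈ Q := (Subgroup.mem_normalizer_iff.mp ht _).mpr (by group; exact hu)
        have h2 := Subgroup.mem_centralizer_iff.mp hz.2 _ hu'
        calc u * (t * z * t⁻¹) = t * ((t⁻¹ * u * t) * z) * t⁻¹ := by group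
          _ = t * (z * (t⁻¹ * u * t)) * t⁻¹ := by rw [h2]
          _ = t * z * t⁻¹ * u := by group
      have e : n * t * z * (n * t)⁻¹ = t * z * t⁻¹ := by
        have h3 : n * (t * z * t⁻¹) = t * z * t⁻¹ * n :=
          congrArg Subtype.val (hNc.is_comm.comm ⟨n, hn⟩ ⟨_, h1.1⟩)
        calc n * t * z * (n * t)⁻¹ = n * (t * z * t⁻¹) * n⁻¹ := by group
          _ = t * z * t⁻¹ * n * n⁻¹ := by rw [h3]
          _ = _ := by group
      rwa [e]
    · exact Subgroup.le_centralizer_iff.mp (h.ge.trans inf_le_right)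
  have hNX1 : N ⊓ X = ⊥ := le_bot_iff.mp (hcase ▸ le_inf inf_le_left hNX)
  have hcompl : Subgroup.IsComplement' N X :=
    Subgroup.isComplement'_of_disjoint_and_mul_eq_univ (disjoint_iff.mpr hNX1) (by
      rw [← Subgroup.normal_mul]
      exact Set.eq_univ_of_forall hG)
  let π : G →* X := (hcompl.symm.QuotientMulEquiv).toMonoidHom.comp (QuotientGroup.mk' N)
  have hπs : Function.Surjective π :=
    (hcompl.symm.QuotientMulEquiv).surjective.comp (QuotientGroup.mk'_surjective N)
  have hπker : ∀ g, π g = 1 ↔ g ∈ N := fun g => by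
    show (hcompl.symm.QuotientMulEquiv) (g : G ⧸ N) = 1 ↔ _
    rw [MulEquiv.map_eq_one_iff, QuotientGroup.eq_one_iff]
  have hπX : ∀ t : X, π t = t := fun t => (hcompl.symm.QuotientMulEquiv).apply_symm_apply t
  have hτ : ∀ g, g * (π g : G)⁻¹ ∈ N := fun g => by
    rw [← hπker, map_mul, map_inv, hπX, mul_inv_cancel]
  letI : CommGroup N := { (inferInstance : Group N) with mul_comm := hNc.is_comm.comm }
  obtain ⟨eD⟩ := CommGroup.monoidHom_mulEquiv_of_hasEnoughRootsOfUnity N ℂ
  let act : X →* MulAut (N →* ℂˣ) := dualAut.comp ((MulAut.conjNormal).comp X.subtype)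
  have hact : ∀ (t : X) (l : N →* ℂˣ) (n : N),
      act t l n = l ((MulAut.conjNormal (t : G) : MulAut N)⁻¹ n) := fun _ _ _ => rfl
  have hact_one : ∀ t : X, act t = 1 → (t : G) ∈ Subgroup.centralizer (N : Set G) := by
    intro t ht
    rw [Subgroup.mem_centralizer_iff]
    intro n hn
    have h4 : (MulAut.conjNormal (t : G) : MulAut N)⁻¹ ⟨n, hn⟩ = ⟨n, hn⟩ := by
      by_contra hne
      obtain ⟨l, hl⟩ := CommGroup.exists_apply_ne_one_of_hasEnoughRootsOfUnity N ℂ
        (fun h => hne (div_eq_one.mp h))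
      exact hl (by rw [map_div, ← hact, ht, MulAut.one_apply, div_self'])
    rw [← map_inv] at h4
    have h5 := congrArg Subtype.val h4
    rw [MulAut.conjNormal_apply, inv_inv] at h5
    calc n * t = (t : G) * ((t : G)⁻¹ * n * t) := by group
      _ = t * n := by rw [h5]
  haveI : Finite (N →* ℂˣ) := Finite.of_equiv _ eD.symm.toEquiv
  -- an element inverting some nontrivial character of `N`
  obtain ⟨z, l, hl1, hzl, hzl'⟩ : ∃ (z : X) (l : N →* ℂˣ),
      l ≠ 1 ∧ act z l = l⁻¹ ∧ act z⁻¹ l = l⁻¹ := by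
    by_cases hex : ∃ (y : X) (j : ℕ), (act y) ^ 2 ^ j = 1 ∧ act y ≠ 1
    · obtain ⟨y, j, hyj, hy⟩ := hex
      -- a power of it acting as an involution
      obtain ⟨i, hi1, hi2⟩ : ∃ i, ((act y) ^ 2 ^ i) ≠ 1 ∧ ((act y) ^ 2 ^ i) ^ 2 = 1 := by
        obtain ⟨c, -, hc⟩ := (Nat.dvd_prime_pow Nat.prime_two).mp (orderOf_dvd_of_pow_eq_one hyj)
        obtain ⟨c', rfl⟩ : ∃ c', c = c' + 1 := by
          refine ⟨c - 1, ?_⟩
          rcases Nat.eq_zero_or_pos c with rfl | h
          · rw [pow_zero, orderOf_eq_one_iff] at hc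
            exact absurd hc hy
          · omega
        refine ⟨c', fun h => ?_, by rw [← pow_mul, ← pow_succ, ← hc, pow_orderOf_eq_one]⟩
        have h1 := Nat.le_of_dvd (by positivity) (hc ▸ orderOf_dvd_of_pow_eq_one h)
        exact absurd ((Nat.pow_le_pow_iff_right (by norm_num)).mp h1) (by omega)
      set z : X := y ^ 2 ^ i with hz
      have hzact : act z = act y ^ 2 ^ i := map_pow act y _
      obtain ⟨μ, hμ⟩ : ∃ μ, act z μ ≠ μ := by
        by_contra hno
        push Not at hno
        exact hi1 (hzact ▸ MulEquiv.ext hno)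
      have h2 : act z (act z μ) = μ := by
        rw [← MulAut.mul_apply, ← sq, hzact, hi2, MulAut.one_apply]
      have hzl : act z (act z μ / μ) = (act z μ / μ)⁻¹ :=
        ((map_div (act z) (act z μ) μ).trans (by rw [h2])).trans (inv_div (act z μ) μ).symm
      refine ⟨z, act z μ / μ, fun h => hμ (div_eq_one.mp h), hzl, ?_⟩
      have h3 : act z * act z = 1 := by rw [← sq, hzact, hi2]
      rw [map_inv, inv_eq_of_mul_eq_one_right h3]
      exact hzl
    · -- otherwise `N` is central in the group generated by the `2`-elements and is a `2`-group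
      push Not at hex
      have hgen : gen 2 G ≤ Subgroup.centralizer (N : Set G) := by
        refine (Subgroup.closure_le _).mpr ?_
        rintro g ⟨k, hk⟩
        have h1 : act (π g) = 1 := hex (π g) k (by
          rw [← map_pow, ← map_pow, ← hk, pow_orderOf_eq_one, map_one, map_one])
        have h2 : g = g * (π g : G)⁻¹ * π g := by group
        rw [h2]
        exact mul_mem (Subgroup.mem_centralizer_iff.mpr fun m hm =>
          congrArg Subtype.val (hNc.is_comm.comm ⟨m, hm⟩ ⟨_, hτ g⟩)) (hact_one _ h1)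
      let φ : gen 2 G →* N :=
        { toFun := fun g => ⟨(g : G) * (π (g : G) : G)⁻¹, hτ _⟩
          map_one' := Subtype.ext (by simp)
          map_mul' := fun g g' => Subtype.ext (by
            have hc := Subgroup.mem_centralizer_iff.mp (hgen g.2) _ (hτ (g' : G))
            simp only [Subgroup.coe_mul, map_mul, mul_inv_rev]
            calc (g : G) * g' * ((π (g' : G) : G)⁻¹ * (π (g : G) : G)⁻¹)
                = (g : G) * ((g' : G) * (π (g' : G) : G)⁻¹) * (π (g : G) : G)⁻¹ := by group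
              _ = (g' : G) * (π (g' : G) : G)⁻¹ * g * (π (g : G) : G)⁻¹ := by rw [← hc]
              _ = (g' : G) * (π (g' : G) : G)⁻¹ * ((g : G) * (π (g : G) : G)⁻¹) := by group
              _ = _ := congrArg Subtype.val (hNc.is_comm.comm ⟨_, hτ g'⟩ ⟨_, hτ g⟩)) }
      have h2N : 2 ∣ Nat.card N := by
        obtain ⟨S⟩ : Nonempty (Sylow 2 N) := inferInstance
        have hall : ∀ g : gen 2 G, φ g ∈ (S : Subgroup N) := by
          haveI : (S : Subgroup N).Normal := Subgroup.normal_of_isMulCommutative _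
          intro g
          have hmem : gen 2 G ≤ ((S : Subgroup N).comap φ).map (gen 2 G).subtype := by
            refine (Subgroup.closure_le _).mpr ?_
            rintro x ⟨k, hk⟩
            have hx : x ∈ gen 2 G := Subgroup.subset_closure ⟨k, hk⟩
            refine ⟨⟨x, hx⟩, ?_, rfl⟩
            have hpow : φ ⟨x, hx⟩ ^ 2 ^ k = 1 := by
              rw [← map_pow, show (⟨x, hx⟩ : gen 2 G) ^ 2 ^ k = 1 from
                Subtype.ext (by rw [SubgroupClass.coe_pow, ← hk, pow_orderOf_eq_one]; rfl), map_one]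
            obtain ⟨c, -, hc⟩ := (Nat.dvd_prime_pow Nat.prime_two).mp (orderOf_dvd_of_pow_eq_one hpow)
            have hp2 : IsPGroup 2 (Subgroup.zpowers (φ ⟨x, hx⟩)) :=
              IsPGroup.of_card (n := c) (by rw [Nat.card_zpowers, hc])
            obtain ⟨S', hS'⟩ := hp2.exists_le_sylow
            have hle' : (S : Subgroup N) ≤ S' := IsPGroup.le_sylow_of_normal S.2 S'
            exact (S.is_maximal' S'.2 hle') ▸ hS' (Subgroup.mem_zpowers _)
          obtain ⟨w, hw, hwg⟩ := hmem g.2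
          exact (Subtype.ext hwg : w = g) ▸ hw
        obtain ⟨n, hn, hn1⟩ : ∃ n ∈ N, n ≠ 1 := by
          by_contra hno
          push Not at hno
          exact hN1 ((Subgroup.eq_bot_iff_forall _).mpr hno)
        by_contra h2N
        have hS : (S : Subgroup N) = ⊥ := by
          refine Subgroup.eq_bot_of_card_eq _ ((S.2.card_eq_or_dvd).resolve_right fun hd => ?_)
          exact h2N (hd.trans (Subgroup.card_subgroup_dvd_card _))
        have h := hall ⟨n, hNK hn⟩
        rw [hS, Subgroup.mem_bot] at h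
        refine hn1 ?_
        have h' : n * (π n : G)⁻¹ = 1 := congrArg Subtype.val h
        rwa [(hπker n).mpr hn, OneMemClass.coe_one, inv_one, mul_one] at h'
      obtain ⟨l, hl⟩ := exists_prime_orderOf_dvd_card' (G := N →* ℂˣ) 2
        (by rwa [Nat.card_congr eD.toEquiv])
      have hll : l⁻¹ = l := MonoidHom.ext fun x => by
        have h2 := DFunLike.congr_fun (show l ^ 2 = 1 from hl ▸ pow_orderOf_eq_one l) x
        rw [MonoidHom.pow_apply, sq, MonoidHom.one_apply] at h2
        rw [MonoidHom.inv_apply, inv_eq_of_mul_eq_one_right h2]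
      exact ⟨1, l, fun h => by rw [h, orderOf_one] at hl; omega, by rw [map_one]; exact hll.symm,
        by rw [inv_one, map_one]; exact hll.symm⟩
  let U : Subgroup X :=
    { carrier := {t | act t l = l}
      one_mem' := by simp
      mul_mem' := fun {a c} ha hc => by
        show act (a * c) l = l
        rw [map_mul, MulAut.mul_apply, show act c l = l from hc, show act a l = l from ha]
      inv_mem' := fun {a} ha => by
        show act a⁻¹ l = l
        conv_lhs => rw [← show act a l = l from ha]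
        rw [← MulAut.mul_apply, ← map_mul, inv_mul_cancel, map_one, MulAut.one_apply] }
  set T : Subgroup G := U.comap π with hT
  have hconj : ∀ (g : G) (n : N),
      (⟨g * n * g⁻¹, (inferInstance : N.Normal).conj_mem (n : G) n.2 g⟩ : N) =
        (MulAut.conjNormal ((π g)⁻¹ : X).1 : MulAut N)⁻¹ n := by
    intro g n
    apply Subtype.ext
    rw [← map_inv, MulAut.conjNormal_apply, Subgroup.coe_inv, inv_inv]
    have h1 : (g * (π g : G)⁻¹) * ((π g : G) * n * (π g : G)⁻¹) =
        ((π g : G) * n * (π g : G)⁻¹) * (g * (π g : G)⁻¹) :=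
      congrArg Subtype.val (hNc.is_comm.comm ⟨_, hτ g⟩
        ⟨_, (inferInstance : N.Normal).conj_mem (n : G) n.2 (π g : G)⟩)
    calc g * n * g⁻¹ = (g * (π g : G)⁻¹) * ((π g : G) * n * (π g : G)⁻¹) *
          (g * (π g : G)⁻¹)⁻¹ := by group
      _ = _ := by rw [h1, mul_inv_cancel_right]
  have hNT : N ≤ T := fun n hn => by
    show π n ∈ U
    rw [(hπker n).mpr hn]; exact one_mem _
  have hTl : ∀ g, g ∈ T ↔ ∀ n : N, (fun n : N => (l n : ℂ))
      ⟨g * n * g⁻¹, (inferInstance : N.Normal).conj_mem (n : G) n.2 g⟩ = (l n : ℂ) := by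
    intro g
    show π g ∈ U ↔ _
    rw [← inv_mem_iff]
    constructor
    · intro h n
      show (l _ : ℂ) = l n
      rw [hconj g n, ← hact, show act (π g)⁻¹ l = l from h]
    · intro h
      refine MonoidHom.ext fun n => Units.ext ?_
      have := h n
      simp only [hconj g n, ← hact] at this
      exact this
  haveI := Fintype.ofFinite G
  haveI := Fintype.ofFinite N
  haveI := Fintype.ofFinite T
  let η : T →* ℂˣ :=
    { toFun := fun x => l ⟨(x : G) * (π (x : G) : G)⁻¹, hτ _⟩
      map_one' := by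
        rw [show (⟨((1 : T) : G) * (π ((1 : T) : G) : G)⁻¹, hτ _⟩ : N) = 1 from
          Subtype.ext (by simp), map_one]
      map_mul' := fun x w => by
        have hxT : (π (x : G) : G) ∈ T := by
          show π (π (x : G) : G) ∈ U
          rw [hπX]; exact x.2
        have h5 := Units.ext ((hTl _).mp hxT ⟨(w : G) * (π (w : G) : G)⁻¹, hτ _⟩)
        rw [← h5, ← map_mul]
        refine congrArg l (Subtype.ext ?_)
        simp only [Subgroup.coe_mul, map_mul]
        group }
  let ϑ : Cfsg.IrrCharacter N := ⟨fun n => (l n : ℂ), CharCore.isIrrCharacter_hom l⟩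
  have hres : (fun n : N => ((⟨fun x => (η x : ℂ), CharCore.isIrrCharacter_hom η⟩ :
      Cfsg.IrrCharacter T) : T → ℂ) ⟨(n : G), hNT n.2⟩) = (ϑ : N → ℂ) := funext fun n => by
    refine congrArg (fun z : N => (l z : ℂ)) (Subtype.ext ?_)
    show (n : G) * (π (n : G) : G)⁻¹ = n
    rw [(hπker n).mpr n.2]; simp
  have hirr := BC87.isIrrCharacter_indFun_inertia (T := T) ϑ.2 hTl hNT
    ⟨fun x => (η x : ℂ), CharCore.isIrrCharacter_hom η⟩
    (by rw [hres, CharCore.classInner_irr_self ϑ]; exact one_ne_zero)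
  have hd : charDegree ((⟨_, hirr⟩ : Cfsg.IrrCharacter G) : G → ℂ) = T.index :=
    charDegree_eq (show Cfsg.indFun T (fun x => (η x : ℂ)) 1 = _ by
      rw [CharInd.indFun_apply_one, map_one, Units.val_one, mul_one])
  -- the induced character is real
  have hinv : ∀ (a : X) (w : N →* ℂˣ), act a w⁻¹ = (act a w)⁻¹ := fun a w => map_inv (act a) w
  have hzT : ∀ t : G, t ∈ T ↔ (z : G) * t * (z : G)⁻¹ ∈ T := by
    intro t
    show π t ∈ U ↔ π ((z : G) * t * (z : G)⁻¹) ∈ U
    rw [map_mul, map_mul, map_inv, hπX]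
    show act (π t) l = l ↔ act (z * π t * z⁻¹) l = l
    rw [map_mul, map_mul, MulAut.mul_apply, MulAut.mul_apply, hzl', hinv, hinv]
    constructor
    · intro h; rw [h]; exact (congrArg Inv.inv hzl).trans (inv_inv l)
    · intro h
      exact (act z).injective (((inv_inv _).symm.trans (congrArg Inv.inv h)).trans hzl.symm)
  have hηz : ∀ (t : G) (ht : t ∈ T),
      conj ((η ⟨t, ht⟩ : ℂˣ) : ℂ) = (η ⟨_, (hzT t).mp ht⟩ : ℂ) := by
    intro t ht
    have h1 : η ⟨_, (hzT t).mp ht⟩ = (η ⟨t, ht⟩)⁻¹ := by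
      show l ⟨(z : G) * t * (z : G)⁻¹ * (π ((z : G) * t * (z : G)⁻¹) : G)⁻¹, hτ _⟩ =
        (l ⟨t * (π t : G)⁻¹, hτ _⟩)⁻¹
      rw [← MonoidHom.inv_apply, ← hzl', hact]
      refine congrArg l (Subtype.ext ?_)
      rw [← map_inv (MulAut.conjNormal : G →* MulAut N), MulAut.conjNormal_apply]
      simp only [map_mul, map_inv, hπX, Subgroup.coe_mul, Subgroup.coe_inv]
      group
    rw [h1, Units.val_inv_eq_inv_val]
    refine (Complex.inv_eq_conj ?_).symm
    exact (MonoidHom.isOfFinOrder ((Units.coeHom ℂ).comp η) (isOfFinOrder_of_finite (⟨t, ht⟩ : T))).norm_eq_one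
  have hrealχ : ∀ g : G, (Cfsg.indFun T (fun x => (η x : ℂ)) g).im = 0 := by
    intro g
    rw [← Complex.conj_eq_iff_im, CharInd.indFun_apply, map_mul, map_inv₀, Complex.conj_natCast,
      map_sum]
    congr 1
    refine Fintype.sum_equiv (Equiv.mulRight (z : G)⁻¹) _ _ fun x => ?_
    rw [Equiv.coe_mulRight, mul_inv_rev, inv_inv,
      show (z : G) * x⁻¹ * g * (x * (z : G)⁻¹) = (z : G) * (x⁻¹ * g * x) * (z : G)⁻¹ by group]
    by_cases hx : x⁻¹ * g * x ∈ T
    · rw [CharInd.extendByZero_mem _ hx, CharInd.extendByZero_mem _ ((hzT _).mp hx)]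
      exact hηz _ hx
    · rw [CharInd.extendByZero_notMem _ hx,
        CharInd.extendByZero_notMem _ (fun h => hx ((hzT _).mpr h)), map_zero]
  have hpT : ¬ p ∣ U.index := by
    have := hreal ⟨_, hirr⟩ hrealχ
    rwa [hd, hT, Subgroup.index_comap_of_surjective _ hπs] at this
  -- hence `Q` fixes `l`, which forces `l = 1`
  have hQX : Q ≤ X := Subgroup.le_normalizer
  have hQU : Q.subgroupOf X ≤ U := by
    haveI : (Q.comap X.subtype).Normal := Subgroup.normal_in_normalizer
    obtain ⟨S⟩ : Nonempty (Sylow p U) := inferInstance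
    have hSi : ¬ p ∣ ((S : Subgroup U).map U.subtype).index := by
      rw [Subgroup.index_map_subtype]
      exact fun hd => (hp.out.dvd_mul.mp hd).elim S.not_dvd_index hpT
    exact (IsPGroup.le_sylow_of_normal (hQp.comap_of_injective _ X.subtype_injective)
      ((S.2.map U.subtype).toSylow hSi)).trans (Subgroup.map_subtype_le _)
  have hcm : N ≤ ((l.ker).map N.subtype) := by
    have hD : (⁅N, Q⁆ : Subgroup G) = N := by
      refine (hmin _ ⟨fun w hw g => ?_⟩ (Subgroup.commutator_le_left N Q)).resolve_left fun h =>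
        hcent (Subgroup.le_centralizer_iff.mp (Subgroup.commutator_eq_bot_iff_le_centralizer.mp h))
      obtain ⟨n, hn, t, ht, rfl⟩ := Subgroup.mem_sup_of_normal_left.mp (hG g)
      have hmap : (⁅N, Q⁆ : Subgroup G).map ((MulAut.conj t : G ≃* G) : G →* G) = ⁅N, Q⁆ := by
        rw [Subgroup.map_commutator, Subgroup.mem_normalizer_iff_map_conj_eq.mp ht,
          Subgroup.mem_normalizer_iff_map_conj_eq.mp
            (show t ∈ Subgroup.normalizer (N : Set G) by
              rw [Subgroup.normalizer_eq_top (H := N)]; exact Subgroup.mem_top _)]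
      have h1 : t * w * t⁻¹ ∈ (⁅N, Q⁆ : Subgroup G) := hmap.le ⟨w, hw, rfl⟩
      have h2 : n * (t * w * t⁻¹) = t * w * t⁻¹ * n :=
        congrArg Subtype.val (hNc.is_comm.comm ⟨n, hn⟩ ⟨_, Subgroup.commutator_le_left N Q h1⟩)
      have e : n * t * w * (n * t)⁻¹ = t * w * t⁻¹ := by
        calc n * t * w * (n * t)⁻¹ = n * (t * w * t⁻¹) * n⁻¹ := by group
          _ = _ := by rw [h2, mul_inv_cancel_right]
      rwa [e]
    refine hD.ge.trans (Subgroup.commutator_le.mpr fun n hn u hu => ?_)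
    refine ⟨⟨⁅n, u⁆, Subgroup.commutator_le_left N Q (Subgroup.commutator_mem_commutator hn hu)⟩,
      ?_, rfl⟩
    have hu' : (⟨u, hQX hu⟩ : X)⁻¹ ∈ U := inv_mem (hQU hu)
    have h6 : (⟨⁅n, u⁆, Subgroup.commutator_le_left N Q
        (Subgroup.commutator_mem_commutator hn hu)⟩ : N) = ⟨n, hn⟩ *
        ((MulAut.conjNormal (((⟨u, hQX hu⟩ : X)⁻¹ : X) : G) : MulAut N)⁻¹ ⟨n, hn⟩)⁻¹ := by
      apply Subtype.ext
      rw [Subgroup.coe_mul, Subgroup.coe_inv, ← map_inv, MulAut.conjNormal_apply,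
        Subgroup.coe_inv, inv_inv]
      show ⁅n, u⁆ = n * (u * n * u⁻¹)⁻¹
      rw [commutatorElement_def]
      group
    rw [SetLike.mem_coe, MonoidHom.mem_ker, h6, map_mul, map_inv, ← hact,
      show act (⟨u, hQX hu⟩ : X)⁻¹ l = l from hu', mul_inv_cancel]
  refine hl1 (MonoidHom.ext fun n => ?_)
  obtain ⟨m, hm, hmn⟩ := hcm n.2
  rw [← Subtype.ext hmn, hm, MonoidHom.one_apply]

theorem core_of_hreal : ∀ (n : ℕ) (G : Type u) [Group G] [Finite G], Nat.card G = n →
    Group.IsSolvable (gen p G) → HReal p G → Core p G := by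
  intro n
  induction n using Nat.strong_induction_on with
  | _ n ih =>
  intro G _ _ hn hsolv hreal
  haveI := Fact.mk Nat.prime_two
  haveI := hsolv
  by_cases hK : gen 2 G = ⊥
  · intro W hWn _ ⟨a, ha⟩
    rw [hK, Subgroup.relIndex_bot_left] at ha
    exact ⟨W, hWn, le_rfl, IsPGroup.of_card ha, by
      rw [Subgroup.relIndex_self]; exact hp.out.not_dvd_one⟩
  obtain ⟨N, hNn, hN1, hNK, hmin⟩ := Solvable.exists_minimal_normal_le (gen 2 G) hK
  refine core_step hsolv hreal N hN1 hNK hmin (ih _ ?_ (G ⧸ N) rfl ?_ (hreal.quotient N))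
  · rw [← hn, ← Subgroup.index_eq_card, ← N.index_mul_card]
    exact lt_mul_of_one_lt_right (Nat.pos_of_ne_zero Subgroup.index_ne_zero_of_finite)
      (Subgroup.one_lt_card_iff_ne_bot _ |>.mpr hN1)
  · rw [← map_gen (r := p) N]
    exact Group.isSolvable_of_surjective
      ((QuotientGroup.mk' N).subgroupMap_surjective (gen p G))

theorem sylow_normal_of_core {W R : Subgroup G} (hR : R.Normal) (hRW : R ≤ W) (hRp : IsPGroup p R)
    (hRi : ¬ p ∣ R.relIndex W) (Q : Sylow p W) : (Q : Subgroup W).Normal := by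
  haveI : (R.subgroupOf W).Normal := hR.comap _
  let S : Sylow p W := (hRp.of_equiv (Subgroup.subgroupOfEquivOfLe hRW).symm).toSylow hRi
  haveI hSn : (S : Subgroup W).Normal := show (R.subgroupOf W).Normal from inferInstance
  have hle : (S : Subgroup W) ≤ Q := IsPGroup.le_sylow_of_normal S.2 Q
  rw [S.is_maximal' Q.2 hle]
  exact inferInstanceAs (R.subgroupOf W).Normal

end Cfsg.Agent.BC87.RealDeg
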