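import Cfsg.Agent.S4873
import Cfsg.Agent.BC87.RealDegree
import Cfsg.Agent.Lib.CharCore.Glauberman

/-!
# Real elements of a normal `p'`-subgroup of odd index and the fixed points of a Sylow `p`-subgroup
-/

set_option autoImplicit false
set_option linter.unusedSectionVars false
set_option linter.style.haveILetI false

open Subgroup
open scoped ComplexConjugate

namespace Cfsg.Agent.BC87.RealClasses

open Cfsg

universe u

variable {G : Type u} [Group G] [Finite G] {p : ℕ} [hp : Fact p.Prime]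

/-- The stabiliser of a real character of a normal subgroup of odd index has index prime to `p`
when all real characters have degree prime to `p`. -/
theorem not_dvd_index_inertia (K : Subgroup G) [K.Normal] (hodd : Odd K.index)
    (hreal : RealDeg.HReal p G) (θ : Cfsg.IrrCharacter K)
    (hθ : ∀ k : K, ((θ : K → ℂ) k).im = 0) :
    ¬ p ∣ (CommSylow.inertia K (θ : K → ℂ)).index := by
  classical
  haveI := Fintype.ofFinite G
  haveI := Fintype.ofFinite K
  set T := CommSylow.inertia K (θ : K → ℂ) with hT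
  haveI := Fintype.ofFinite T
  have h := S4873.sum_nu_mul K hodd θ
  obtain ⟨χ, -, hχ⟩ := Finset.exists_ne_zero_of_sum_ne_zero (s := Finset.univ) (by
    rw [h]; rcases BC87.nu_eq_one_or hθ with h1 | h1 <;> simp [h1])
  obtain ⟨ψ, hψ, hind, -⟩ := CharDeep.Ext.exists_inertia_induced K θ.2 T
    (fun g => CommSylow.mem_inertia) (CommSylow.le_inertia_of_classFun K
      (CharCore.irr_isClassFunction θ)) χ.2 (right_ne_zero_of_mul hχ)
  obtain ⟨d, -, hd⟩ := CharCore.IsIrrCharacter.exists_degree hψ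
  have hdeg : charDegree (χ : G → ℂ) = T.index * d := charDegree_eq (by
    rw [← hind, CharInd.indFun_apply_one, hd, Nat.cast_mul])
  exact fun hdvd => hreal χ (BC87.nu_real (left_ne_zero_of_mul hχ)) (hdeg ▸ hdvd.mul_right d)

/-- Every real element of a normal `p'`-subgroup `K` of odd index has a conjugate centralised by
a given Sylow `p`-subgroup, provided the real irreducible characters have degree prime to `p`. -/
theorem exists_conj_centralized (K : Subgroup G) [K.Normal] (hodd : Odd K.index)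
    (hpK : ¬ p ∣ Nat.card K) (hreal : RealDeg.HReal p G) (P : Sylow p G) (x : G)
    (hx : IsConj x x⁻¹) :
    ∃ y ∈ Subgroup.centralizer ((P : Subgroup G) : Set G), IsConj x y := by
  classical
  set N := Subgroup.normalizer ((P : Subgroup G) : Set G) with hN
  let C : Subgroup N := K.subgroupOf N
  haveI : C.Normal := Subgroup.normal_subgroupOf
  haveI := Fintype.ofFinite K
  haveI := Fintype.ofFinite C
  let ι : C →* K :=
    { toFun := fun c => ⟨((c : N) : G), c.2⟩
      map_one' := rfl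
      map_mul' := fun _ _ => rfl }
  have hι : Function.Injective ι := fun a b h =>
    Subtype.ext (Subtype.ext (congrArg (fun k : K => (k : G)) h))
  let φ : (P : Subgroup G) →* MulAut K := (MulAut.conjNormal).comp (P : Subgroup G).subtype
  have hcent : ∀ c : C, ((c : N) : G) ∈ Subgroup.centralizer ((P : Subgroup G) : Set G) := by
    intro c
    rw [Subgroup.mem_centralizer_iff]
    intro a ha
    have hdisj : K ⊓ (P : Subgroup G) = ⊥ := Subgroup.inf_eq_bot_of_coprime (by
      obtain ⟨e, he⟩ := P.2.exists_card_eq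
      rw [he]
      exact ((hp.out.coprime_iff_not_dvd.mpr hpK).symm).pow_right e)
    have h : ((c : N) : G) * a * ((c : N) : G)⁻¹ * a⁻¹ ∈ K ⊓ (P : Subgroup G) :=
      ⟨by rw [mul_assoc, mul_assoc, ← mul_assoc a]
          exact K.mul_mem c.2 ((inferInstance : K.Normal).conj_mem _ (K.inv_mem c.2) a),
        (P : Subgroup G).mul_mem ((Subgroup.mem_normalizer_iff.mp (c : N).2 a).mp ha)
          ((P : Subgroup G).inv_mem ha)⟩
    rw [hdisj, Subgroup.mem_bot, mul_inv_eq_one, mul_inv_eq_iff_eq_mul] at h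
    exact h.symm
  have hC : ∀ g : K, g ∈ ι.range ↔ ∀ a, φ a g = g := by
    intro g
    constructor
    · rintro ⟨c, rfl⟩ a
      refine Subtype.ext ?_
      show ((MulAut.conjNormal (a : G) (ι c) : K) : G) = ((c : N) : G)
      rw [MulAut.conjNormal_apply]
      show (a : G) * ((c : N) : G) * (a : G)⁻¹ = _
      rw [Subgroup.mem_centralizer_iff.mp (hcent c) _ a.2, mul_inv_cancel_right]
    · intro hfix
      have hgc : ∀ a ∈ (P : Subgroup G), a * (g : G) = g * a := fun a ha => by
        have h := congrArg Subtype.val (hfix ⟨a, ha⟩)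
        change ((MulAut.conjNormal a g : K) : G) = g at h
        rw [MulAut.conjNormal_apply] at h
        exact mul_inv_eq_iff_eq_mul.mp h
      have hgN : (g : G) ∈ N := Subgroup.mem_normalizer_iff.mpr fun a => by
        constructor
        · intro ha
          rwa [show (g : G) * a * (g : G)⁻¹ = a from mul_inv_eq_iff_eq_mul.mpr (hgc a ha).symm]
        · intro ha
          rwa [← mul_left_cancel (a := (g : G)) (show (g : G) * ((g : G) * a * (g : G)⁻¹) =
            g * a by rw [← hgc _ ha]; group)]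
      exact ⟨⟨⟨(g : G), hgN⟩, g.2⟩, rfl⟩
  have hpK' : ¬ p ∣ Nat.card K := hpK
  have hCodd : Odd C.index :=
    hodd.of_dvd_nat (Subgroup.relIndex_dvd_index_of_normal K N)
  let X := {θ : Cfsg.IrrCharacter K // ∀ k : K, ((θ : K → ℂ) k).im = 0}
  let rX : X → X → Prop := fun θ η => ∃ g : G, ∀ k k' : K, (k' : G) = g * (k : G) * g⁻¹ →
    (η.1 : K → ℂ) k' = (θ.1 : K → ℂ) k
  let X' := {θ : Cfsg.IrrCharacter C // ∀ k : C, ((θ : C → ℂ) k).im = 0}
  let rX' : X' → X' → Prop := fun θ η => ∃ g : N, ∀ k k' : C, (k' : N) = g * (k : N) * g⁻¹ →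
    (η.1 : C → ℂ) k' = (θ.1 : C → ℂ) k
  -- every orbit on real characters contains an invariant one
  have hrep : ∀ θ : X, ∃ η : X, rX θ η ∧ CharCore.IsInvFun φ (η.1 : K → ℂ) := by
    intro θ
    set T := CommSylow.inertia K (θ.1 : K → ℂ) with hT
    have hTi := not_dvd_index_inertia K hodd hreal θ.1 θ.2
    obtain ⟨S⟩ : Nonempty (Sylow p T) := inferInstance
    have hSi : ¬ p ∣ ((S : Subgroup T).map T.subtype).index := by
      rw [Subgroup.index_map_subtype]
      exact fun hd => (hp.out.dvd_mul.mp hd).elim S.not_dvd_index hTi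
    obtain ⟨g, hg⟩ := MulAction.exists_smul_eq G ((S.2.map T.subtype).toSylow hSi) P
    refine ⟨⟨⟨_, CharClifford.isIrrCharacter_conjFun K θ.1.2 g⁻¹⟩, fun k => θ.2 _⟩,
      ⟨g, fun k k' hk => ?_⟩, fun a k => ?_⟩
    · exact congrArg (θ.1 : K → ℂ) (Subtype.ext (by
        show g⁻¹ * (k' : G) * g⁻¹⁻¹ = k
        rw [hk]; group))
    · have hsub := congrArg Sylow.toSubgroup hg
      rw [Sylow.coe_subgroup_smul] at hsub
      have ha := hsub.ge a.2
      obtain ⟨_, ⟨s, hs, rfl⟩, hsa⟩ := ha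
      change g * (s : G) * g⁻¹ = a at hsa
      show (θ.1 : K → ℂ) _ = (θ.1 : K → ℂ) _
      refine (congrArg (θ.1 : K → ℂ) (Subtype.ext ?_)).trans
        (CommSylow.mem_inertia.mp s.2 ⟨g⁻¹ * (k : G) * g⁻¹⁻¹,
          (inferInstance : K.Normal).conj_mem _ k.2 g⁻¹⟩)
      show g⁻¹ * ((MulAut.conjNormal (a : G) k : K) : G) * g⁻¹⁻¹ = _
      rw [MulAut.conjNormal_apply, ← hsa]
      simp only [Subgroup.coe_subtype]
      group
  choose rep hrep1 hrep2 using hrep
  let out : Quot rX → X := fun o => rep o.out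
  have hout : ∀ o, Quot.mk rX (out o) = o := fun o =>
    (Quot.sound (hrep1 o.out)).symm.trans o.out_eq
  have hout2 : ∀ o, CharCore.IsInvFun φ ((out o).1 : K → ℂ) := fun o => hrep2 o.out
  have hgl : ∀ o, ∃ β : X', CharCore.IsGlauber p ι ((out o).1 : K → ℂ) (β.1 : C → ℂ) := by
    intro o
    obtain ⟨β, hβ⟩ := CharCore.exists_glauber hι hC P.2 hpK (hout2 o)
    obtain ⟨m, hm, hpm⟩ := hβ
    let β' : Cfsg.IrrCharacter C := ⟨_, CharCore.isIrrCharacter_star β.2⟩
    have hβ' : CharCore.IsGlauber p ι ((out o).1 : K → ℂ) (β' : C → ℂ) := by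
      refine ⟨m, ?_, hpm⟩
      rw [← Complex.conj_natCast m, ← hm, CharCore.classInner_def, CharCore.classInner_def,
        map_mul, map_inv₀, Complex.conj_natCast, map_sum]
      congr 1
      refine Finset.sum_congr rfl fun c _ => ?_
      rw [map_mul, Complex.conj_eq_iff_im.mpr ((out o).2 (ι c))]
    have he := CharCore.glauber_unique hι hC P.2 hpK (hout2 o) hβ' ⟨m, hm, hpm⟩
    exact ⟨⟨β, fun k => Complex.conj_eq_iff_im.mp (congrFun (congrArg Subtype.val he) k)⟩,
      m, hm, hpm⟩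
  choose β hβ using hgl
  have hF : Function.Injective (fun o => Quot.mk rX' (β o)) := by
    intro o o' he
    have hE : Equivalence rX' := by
      refine ⟨fun θ => ⟨1, fun k k' hk => congrArg (θ.1 : C → ℂ) (Subtype.ext (by simpa using hk))⟩,
        fun {θ η} ⟨g, hg⟩ => ⟨g⁻¹, fun k k' hk => (hg k' k (by rw [hk]; group)).symm⟩,
        fun {θ η ζ} ⟨g, hg⟩ ⟨h, hh⟩ => ⟨h * g, fun k k' hk => ?_⟩⟩
      rw [hh ⟨g * (k : N) * g⁻¹, (inferInstance : C.Normal).conj_mem _ k.2 g⟩ k' (by
        rw [hk]; simp only; group)]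
      exact hg k _ rfl
    obtain ⟨g, hg⟩ := hE.eqvGen_iff.mp (Quot.eqvGen_exact he)
    -- transport along `g`
    have hinv : CharCore.IsInvFun φ (CharClifford.conjFun K (g : G)⁻¹ ((out o).1 : K → ℂ)) := by
      intro a k
      have ha : (g : G)⁻¹ * (a : G) * (g : G) ∈ (P : Subgroup G) :=
        (Subgroup.mem_normalizer_iff.mp g.2 _).mpr (by group; exact a.2)
      rw [CharClifford.conjFun_apply, CharClifford.conjFun_apply]
      refine (congrArg ((out o).1 : K → ℂ) (Subtype.ext ?_)).trans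
        (hout2 o ⟨_, ha⟩ ⟨(g : G)⁻¹ * (k : G) * (g : G)⁻¹⁻¹,
          (inferInstance : K.Normal).conj_mem _ k.2 _⟩)
      show (g : G)⁻¹ * ((MulAut.conjNormal (a : G) k : K) : G) * (g : G)⁻¹⁻¹ =
        ((MulAut.conjNormal ((g : G)⁻¹ * (a : G) * (g : G)) _ : K) : G)
      rw [MulAut.conjNormal_apply, MulAut.conjNormal_apply]
      simp only
      group
    have hgl' : CharCore.IsGlauber p ι (CharClifford.conjFun K (g : G)⁻¹ ((out o).1 : K → ℂ))
        ((β o').1 : C → ℂ) := by
      obtain ⟨m, hm, hpm⟩ := hβ o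
      refine ⟨m, ?_, hpm⟩
      rw [← hm, CharCore.classInner_def, CharCore.classInner_def]
      congr 1
      symm
      refine Fintype.sum_equiv (MulAut.conjNormal g : MulAut C).toEquiv _ _ fun c => ?_
      have h1 := hg c (MulAut.conjNormal g c : C) (MulAut.conjNormal_apply g c)
      show _ = _ * conj (((β o').1 : C → ℂ) (MulAut.conjNormal g c : C))
      rw [h1]
      congr 1
      rw [CharClifford.conjFun_apply]
      refine congrArg ((out o).1 : K → ℂ) (Subtype.ext ?_)
      show ((c : N) : G) = (g : G)⁻¹ * (((MulAut.conjNormal g c : C) : N) : G) * (g : G)⁻¹⁻¹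
      rw [MulAut.conjNormal_apply]
      simp only [Subgroup.coe_mul, Subgroup.coe_inv]
      group
    have heq : (⟨_, CharClifford.isIrrCharacter_conjFun K (out o).1.2 (g : G)⁻¹⟩ :
        Cfsg.IrrCharacter K) = (out o').1 :=
      CharCore.glauber_injective hι hC P.2 hpK hinv (hout2 o') hgl' (hβ o')
    rw [← hout o, ← hout o']
    refine Quot.sound ⟨(g : G), fun k k' hk => ?_⟩
    rw [← heq]
    exact congrArg ((out o).1 : K → ℂ) (Subtype.ext (by
      show (g : G)⁻¹ * (k' : G) * (g : G)⁻¹⁻¹ = k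
      rw [hk]; group))
  have hle : Nat.card (Quot rX) ≤ Nat.card (Quot rX') := Nat.card_le_card_of_injective _ hF
  rw [BC87.card_real_orbits K hodd, BC87.card_real_orbits C hCodd] at hle
  -- compare with the orbits on real elements
  let Y := {k : K // IsConj k k⁻¹}
  let rY : Y → Y → Prop := fun a b => ∃ g : G, (b.1 : G) = g * a.1 * g⁻¹
  let Y' := {k : C // IsConj k k⁻¹}
  let rY' : Y' → Y' → Prop := fun a b => ∃ g : N, (b.1 : N) = g * a.1 * g⁻¹
  let j : Y' → Y := fun a => ⟨ι a.1, by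
    have h := ι.map_isConj a.2
    rwa [map_inv] at h⟩
  have hj : ∀ a b, rY' a b → rY (j a) (j b) := fun a b ⟨g, hg⟩ => ⟨(g : G), by
    show ((b.1 : N) : G) = (g : G) * ((a.1 : N) : G) * (g : G)⁻¹
    rw [hg]; rfl⟩
  let F : Quot rY' → Quot rY := Quot.map j hj
  have hFinj : Function.Injective F := by
    intro q₁ q₂
    induction q₁ using Quot.ind with
    | _ a =>
    induction q₂ using Quot.ind with
    | _ b =>
    intro he
    have hE : Equivalence rY := by
      refine ⟨fun a => ⟨1, by simp⟩, fun {a b} ⟨g, hg⟩ => ⟨g⁻¹, by rw [hg]; group⟩,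
        fun {a b c} ⟨g, hg⟩ ⟨h, hh⟩ => ⟨h * g, by rw [hh, hg]; group⟩⟩
    obtain ⟨g, hg⟩ := hE.eqvGen_iff.mp (Quot.eqvGen_exact he)
    change ((b.1 : N) : G) = g * ((a.1 : N) : G) * g⁻¹ at hg
    set d : G := ((b.1 : N) : G) with hd
    have h1 : ((P : Subgroup G)) ≤ Subgroup.centralizer ({d} : Set G) := fun z hz =>
      Subgroup.mem_centralizer_singleton_iff.mpr
        (Subgroup.mem_centralizer_iff.mp (hcent b.1) z hz)
    have h2 : ((g • P : Sylow p G) : Subgroup G) ≤ Subgroup.centralizer ({d} : Set G) := by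
      intro z hz
      rw [Sylow.coe_subgroup_smul] at hz
      obtain ⟨w, hw, rfl⟩ := hz
      refine Subgroup.mem_centralizer_singleton_iff.mpr ?_
      show g * w * g⁻¹ * d = d * (g * w * g⁻¹)
      have h3 := Subgroup.mem_centralizer_iff.mp (hcent a.1) w hw
      calc g * w * g⁻¹ * d = g * (w * ((a.1 : N) : G)) * g⁻¹ := by rw [hg]; group
        _ = g * (((a.1 : N) : G) * w) * g⁻¹ := by rw [h3]
        _ = d * (g * w * g⁻¹) := by rw [hg]; group
    obtain ⟨c, ⟨hcc, -⟩, hc⟩ := CommSylow.exists_conj_of_centralizing (P := Subgroup.zpowers d)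
      (g • P) P (fun z hz => Subgroup.mem_centralizer_iff.mpr fun w hw => by
        obtain ⟨i, rfl⟩ := Subgroup.mem_zpowers_iff.mp hw
        exact ((Commute.zpow_left (Subgroup.mem_centralizer_singleton_iff.mp (h2 hz)).symm) i))
      (fun z hz => Subgroup.mem_centralizer_iff.mpr fun w hw => by
        obtain ⟨i, rfl⟩ := Subgroup.mem_zpowers_iff.mp hw
        exact ((Commute.zpow_left (Subgroup.mem_centralizer_singleton_iff.mp (h1 hz)).symm) i))
      h2 h1
    have hcg : c * g ∈ N := Subgroup.mem_normalizer_iff.mpr fun z => by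
      rw [mul_inv_rev, show c * g * z * (g⁻¹ * c⁻¹) = c * (g * z * g⁻¹) * c⁻¹ by group, ← hc,
        Sylow.coe_subgroup_smul]
      exact (Subgroup.smul_mem_pointwise_smul_iff (a := MulAut.conj g)).symm
    refine Quot.sound ⟨⟨c * g, hcg⟩, Subtype.ext ?_⟩
    show d = c * g * ((a.1 : N) : G) * (c * g)⁻¹
    rw [mul_inv_rev, show c * g * ((a.1 : N) : G) * (g⁻¹ * c⁻¹) =
      c * (g * ((a.1 : N) : G) * g⁻¹) * c⁻¹ by group, ← hg,
      Subgroup.mem_centralizer_singleton_iff.mp hcc, mul_inv_cancel_right]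
  have hFsurj := (hFinj.bijective_of_nat_card_le hle).surjective
  obtain ⟨hxK, hxr⟩ := S4873.real_mem K hodd hx
  obtain ⟨q, hq⟩ := hFsurj (Quot.mk rY ⟨⟨x, hxK⟩, hxr⟩)
  induction q using Quot.ind with
  | _ a =>
  have hE : Equivalence rY := by
    refine ⟨fun a => ⟨1, by simp⟩, fun {a b} ⟨g, hg⟩ => ⟨g⁻¹, by rw [hg]; group⟩,
      fun {a b c} ⟨g, hg⟩ ⟨h, hh⟩ => ⟨h * g, by rw [hh, hg]; group⟩⟩
  obtain ⟨g, hg⟩ := hE.eqvGen_iff.mp (Quot.eqvGen_exact hq)
  exact ⟨_, hcent a.1, (isConj_iff.mpr ⟨g, hg.symm⟩).symm⟩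

end Cfsg.Agent.BC87.RealClasses
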