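import Cfsg.Agent.BC87.RealClasses
import Cfsg.Agent.Blocks88.GlauberSylow
import Cfsg.Agent.Blocks88.FixedTable

/-!
# Real characters of `p'`-degree and the normalizer of a Sylow `p`-subgroup
-/

set_option autoImplicit false
set_option linter.unusedSectionVars false
set_option linter.style.haveILetI false

open scoped ComplexConjugate

namespace Cfsg.Agent.BC87.RealMcKay

open Cfsg CharClifford CommSylow

attribute [local instance high] Fintype.ofFinite

universe u

variable {G : Type u} [Group G] [Finite G]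

/-- The multiplicity of a character of a subgroup in a restriction. -/
noncomputable abbrev resMult (K : Subgroup G) (χ : G → ℂ) (θ : K → ℂ) : ℂ :=
  Cfsg.classInner (fun k : K => χ k) θ

theorem mem_inertia_iff (K : Subgroup G) [K.Normal] {f : K → ℂ} {g : G} :
    g ∈ inertia K f ↔ conjFun K g f = f :=
  ⟨fun h => funext h, fun h n => congrFun h n⟩

theorem mem_inertia_conjFun (K : Subgroup G) [K.Normal] {f : K → ℂ} {g a : G} :
    a ∈ inertia K (conjFun K g f) ↔ g * a * g⁻¹ ∈ inertia K f := by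
  rw [mem_inertia_iff, mem_inertia_iff, conjFun_conjFun]
  constructor
  · intro h
    rw [← conjFun_conjFun, h, conjFun_conjFun, mul_inv_cancel, conjFun_one]
  · intro h
    conv_rhs => rw [← h, conjFun_conjFun, inv_mul_cancel_right]

/-- Above a real character of a normal subgroup of odd index lies exactly one real character,
with multiplicity one, and every real character lies above a real one. -/
theorem real_over (K : Subgroup G) [K.Normal] (hodd : Odd K.index) :
    (∀ θ : IrrCharacter K, (∀ k, ((θ : K → ℂ) k).im = 0) →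
      ∃ χ : IrrCharacter G, (∀ g, ((χ : G → ℂ) g).im = 0) ∧ resMult K (χ : G → ℂ) θ = 1 ∧
        ∀ χ' : IrrCharacter G, (∀ g, ((χ' : G → ℂ) g).im = 0) →
          resMult K (χ' : G → ℂ) θ ≠ 0 → χ' = χ) ∧
    ∀ χ : IrrCharacter G, (∀ g, ((χ : G → ℂ) g).im = 0) →
      ∃ θ : IrrCharacter K, (∀ k, ((θ : K → ℂ) k).im = 0) ∧ resMult K (χ : G → ℂ) θ ≠ 0 := by
  classical
  let X := {θ : IrrCharacter K // ∀ k : K, ((θ : K → ℂ) k).im = 0}
  let r : X → X → Prop := fun θ η => ∃ g : G, ∀ k k' : K, (k' : G) = g * (k : G) * g⁻¹ →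
    (η.1 : K → ℂ) k' = (θ.1 : K → ℂ) k
  have hex : ∀ θ : X, ∃ χ : {χ : IrrCharacter G // ∀ g : G, ((χ : G → ℂ) g).im = 0},
      resMult K (χ.1 : G → ℂ) θ.1 ≠ 0 := fun θ => by
    have h := S4873.sum_nu_mul K hodd θ.1
    obtain ⟨χ, -, hχ⟩ := Finset.exists_ne_zero_of_sum_ne_zero (s := Finset.univ) (by
      rw [h]; rcases BC87.nu_eq_one_or θ.2 with h1 | h1 <;> simp [h1])
    exact ⟨⟨χ, BC87.nu_real (left_ne_zero_of_mul hχ)⟩, right_ne_zero_of_mul hχ⟩
  choose Ψ hΨ using hex
  let F : Quot r → {χ : IrrCharacter G // ∀ g : G, ((χ : G → ℂ) g).im = 0} := fun o => Ψ o.out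
  -- two characters under the same irreducible one are related
  have hconj : ∀ (χ : IrrCharacter G) (θ η : X), resMult K (χ : G → ℂ) θ.1 ≠ 0 →
      resMult K (χ : G → ℂ) η.1 ≠ 0 → Quot.mk r θ = Quot.mk r η := by
    intro χ θ η h1 h2
    obtain ⟨x, hx⟩ := exists_conjFun_eq_of_constituents K χ.2 η.1.2 θ.1.2 h2 h1
    refine Quot.sound ⟨x, fun k k' hk => ?_⟩
    rw [hx]
    exact congrArg (η.1 : K → ℂ) (Subtype.ext hk)
  have hF : Function.Injective F := fun o o' he => by
    rw [← o.out_eq, ← o'.out_eq]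
    exact hconj (Ψ o.out).1 _ _ (hΨ _) (by rw [show Ψ o.out = Ψ o'.out from he]; exact hΨ _)
  have hcard : Nat.card (Quot r) =
      Nat.card {χ : IrrCharacter G // ∀ g : G, ((χ : G → ℂ) g).im = 0} := by
    rw [BC87.card_real_orbits K hodd, S0160.result]
    let Q := fun x y : {x : K // IsConj x x⁻¹} => ∃ g : G, (y.1 : G) = g * x.1 * g⁻¹
    let toC : Quot Q → {C : ConjClasses G // ∀ g : G, ConjClasses.mk g = C → IsConj g g⁻¹} :=
      Quot.lift (fun x => ⟨ConjClasses.mk (x.1 : G), fun g hg => by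
        have h1 := ConjClasses.mk_eq_mk_iff_isConj.mp hg
        have h2 : IsConj (x.1 : G) (x.1 : G)⁻¹ := K.subtype.map_isConj x.2
        exact h1.trans (h2.trans (BC87.isConj_inv h1).symm)⟩)
        fun x y ⟨g, hg⟩ => Subtype.ext (ConjClasses.mk_eq_mk_iff_isConj.mpr
          (isConj_iff.mpr ⟨g, hg.symm⟩))
    refine Nat.card_congr (Equiv.ofBijective toC ⟨?_, ?_⟩)
    · intro a b
      induction a using Quot.ind with
      | _ x =>
      induction b using Quot.ind with
      | _ y =>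
      intro he
      obtain ⟨c, hc⟩ := isConj_iff.mp
        (ConjClasses.mk_eq_mk_iff_isConj.mp (congrArg Subtype.val he))
      exact Quot.sound ⟨c, hc.symm⟩
    · rintro ⟨C, hC⟩
      obtain ⟨g, rfl⟩ := ConjClasses.exists_rep C
      obtain ⟨hg, hgr⟩ := S4873.real_mem K hodd (hC g rfl)
      exact ⟨Quot.mk _ ⟨⟨g, hg⟩, hgr⟩, rfl⟩
  have hbij : Function.Bijective F := (Nat.bijective_iff_injective_and_card F).mpr ⟨hF, hcard⟩
  refine ⟨fun θ hθ => ?_, fun χ hχ => ?_⟩
  · have huniq : ∀ χ' : IrrCharacter G, (∀ g, ((χ' : G → ℂ) g).im = 0) →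
        resMult K (χ' : G → ℂ) θ ≠ 0 → χ' = (F (Quot.mk r ⟨θ, hθ⟩)).1 := by
      intro χ' hr hne
      obtain ⟨o, ho⟩ := hbij.2 ⟨χ', hr⟩
      have ho' : (F o).1 = χ' := congrArg Subtype.val ho
      have h2 : o = Quot.mk r ⟨θ, hθ⟩ :=
        o.out_eq.symm.trans (hconj χ' _ ⟨θ, hθ⟩ (ho' ▸ hΨ _) hne)
      rw [← ho', h2]
    refine ⟨_, (F (Quot.mk r ⟨θ, hθ⟩)).2, ?_, huniq⟩
    have hsum := S4873.sum_nu_mul K hodd θ
    rw [Finset.sum_eq_single (F (Quot.mk r ⟨θ, hθ⟩)).1 (fun χ _ hne => by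
      by_contra h0
      exact hne (huniq χ (BC87.nu_real (left_ne_zero_of_mul h0)) (right_ne_zero_of_mul h0)))
      (by simp)] at hsum
    obtain ⟨m, hm⟩ := CharCore.IsCharacter.exists_classInner_irr_eq_natCast
      (CharCore.isCharacter_restrict
        (CharCore.irr_isCharacter (F (Quot.mk r ⟨θ, hθ⟩)).1) K) θ
    show resMult K _ _ = 1
    rw [resMult, hm]
    rw [hm] at hsum
    have hsq : ((m * m : ℕ) : ℂ) = 1 := by
      rcases BC87.nu_eq_one_or (χ := (F (Quot.mk r ⟨θ, hθ⟩)).1) (F _).2 with a | a <;>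
        rcases BC87.nu_eq_one_or hθ with b | b <;>
        · rw [a, b] at hsum
          push_cast
          first
            | linear_combination ((m : ℂ) + 1) * hsum
            | linear_combination (-(m : ℂ) + 1) * hsum
            | linear_combination ((m : ℂ) - 1) * hsum
            | linear_combination (-(m : ℂ) - 1) * hsum
    rw [Nat.cast_eq_one]
    exact Nat.eq_one_of_mul_eq_one_left (by exact_mod_cast hsq)
  · obtain ⟨o, ho⟩ := hbij.2 ⟨χ, hχ⟩
    have ho' : (F o).1 = χ := congrArg Subtype.val ho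
    exact ⟨o.out.1, o.out.2, ho' ▸ hΨ _⟩

/-- The degree of a character above another one with multiplicity one. -/
theorem degree_over (K : Subgroup G) [K.Normal] (θ : IrrCharacter K) (χ : IrrCharacter G)
    (h : resMult K (χ : G → ℂ) θ = 1) :
    charDegree (χ : G → ℂ) = (inertia K (θ : K → ℂ)).index * charDegree (θ : K → ℂ) := by
  classical
  obtain ⟨θ₀, e, hθ₀, he0, he, hres⟩ := clifford_restrict K χ.2
  obtain ⟨x, hx⟩ := exists_conjFun_eq_of_constituents K χ.2 hθ₀ θ.2
    (by rw [he]; exact Nat.cast_ne_zero.mpr he0.ne') (by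
      show resMult K (χ : G → ℂ) θ ≠ 0
      rw [h]; exact one_ne_zero)
  have he1 : e = 1 := by
    have h' := classInner_restrict_conjFun K (CharCore.irr_isClassFunction χ) θ₀ x
    rw [← hx, he] at h'
    rw [resMult, h'] at h
    exact_mod_cast h
  have horb : conjOrbit K θ₀ = conjOrbit K (θ : K → ℂ) := by
    ext ψ
    rw [mem_conjOrbit, mem_conjOrbit, hx]
    simp only [conjFun_conjFun]
    exact ⟨fun ⟨y, hy⟩ => ⟨x⁻¹ * y, by rwa [mul_inv_cancel_left]⟩,
      fun ⟨y, hy⟩ => ⟨x * y, hy⟩⟩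
  set T := inertia K (θ : K → ℂ) with hT
  let f : G ⧸ T → {ψ // ψ ∈ conjOrbit K (θ : K → ℂ)} :=
    Quotient.lift (fun g => ⟨conjFun K g⁻¹ (θ : K → ℂ), (mem_conjOrbit K).mpr ⟨_, rfl⟩⟩)
      fun a b hab => Subtype.ext (by
        have h1 := (mem_inertia_iff K).mp (T.inv_mem (QuotientGroup.leftRel_apply.mp hab))
        show conjFun K a⁻¹ _ = conjFun K b⁻¹ _
        calc conjFun K a⁻¹ (θ : K → ℂ) = conjFun K a⁻¹ (conjFun K (a⁻¹ * b)⁻¹ (θ : K → ℂ)) := by
              rw [h1]
          _ = _ := by rw [conjFun_conjFun]; congr 1; group)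
  have hf : Function.Bijective f := by
    refine ⟨fun a b => ?_, fun ⟨ψ, hψ⟩ => ?_⟩
    · induction a using QuotientGroup.induction_on with
      | H a =>
      induction b using QuotientGroup.induction_on with
      | H b =>
      intro he
      have he' : conjFun K a⁻¹ (θ : K → ℂ) = conjFun K b⁻¹ (θ : K → ℂ) := congrArg Subtype.val he
      refine QuotientGroup.eq.mpr ((mem_inertia_iff K).mpr ?_)
      rw [← conjFun_conjFun, he', conjFun_conjFun, inv_mul_cancel, conjFun_one]
    · obtain ⟨y, hy⟩ := (mem_conjOrbit K).mp hψ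
      exact ⟨(y⁻¹ : G), Subtype.ext (by show conjFun K y⁻¹⁻¹ _ = _; rw [inv_inv, hy])⟩
  have hcard : T.index = (conjOrbit K (θ : K → ℂ)).card := by
    rw [Subgroup.index_eq_card, Nat.card_eq_of_bijective f hf, Nat.card_eq_finsetCard]
  refine charDegree_eq ?_
  have h1 := congrFun hres 1
  rw [he1, Nat.cast_one, one_smul, Finset.sum_apply, horb] at h1
  rw [Finset.sum_congr rfl (g := fun _ => (charDegree (θ : K → ℂ) : ℂ)) fun ψ hψ => ?_,
    Finset.sum_const, nsmul_eq_mul, ← hcard] at h1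
  · rw [Nat.cast_mul, ← h1, OneMemClass.coe_one]
  · obtain ⟨y, rfl⟩ := (mem_conjOrbit K).mp hψ
    rw [← apply_one_eq, conjFun_apply]
    exact congrArg (θ : K → ℂ) (Subtype.ext (by simp))

variable {p : ℕ} [hp : Fact p.Prime]

theorem not_dvd_natCast_pm {m : ℕ} (h : (m : ℤ) ≡ 1 [ZMOD p] ∨ (m : ℤ) ≡ -1 [ZMOD p]) :
    ¬ p ∣ m ∧ ((m : ZMod p) = 1 ∨ (m : ZMod p) = -1) := by
  have h' : (m : ZMod p) = 1 ∨ (m : ZMod p) = -1 := by
    rcases h with h | h
    · exact Or.inl (by simpa using (ZMod.intCast_eq_intCast_iff _ _ p).mpr h)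
    · exact Or.inr (by simpa using (ZMod.intCast_eq_intCast_iff _ _ p).mpr h)
  refine ⟨fun hd => ?_, h'⟩
  rw [(ZMod.natCast_eq_zero_iff m p).mpr hd] at h'
  simp at h'

/-- A real character of a normal subgroup of odd index has a conjugate stable under `P`. -/
theorem exists_inv_conj (K : Subgroup G) [K.Normal] (hodd : Odd K.index)
    (hreal : RealDeg.HReal p G) (P : Sylow p G) (θ : IrrCharacter K)
    (hθ : ∀ k, ((θ : K → ℂ) k).im = 0) :
    ∃ g : G, (P : Subgroup G) ≤ inertia K (conjFun K g (θ : K → ℂ)) := by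
  set T := inertia K (θ : K → ℂ)
  have hTi := RealClasses.not_dvd_index_inertia K hodd hreal θ hθ
  obtain ⟨S⟩ : Nonempty (Sylow p T) := inferInstance
  have hSi : ¬ p ∣ ((S : Subgroup T).map T.subtype).index := by
    rw [Subgroup.index_map_subtype]
    exact fun hd => (hp.out.dvd_mul.mp hd).elim S.not_dvd_index hTi
  obtain ⟨g, hg⟩ := MulAction.exists_smul_eq G ((S.2.map T.subtype).toSylow hSi) P
  refine ⟨g⁻¹, fun a ha => ?_⟩
  have hsub := congrArg Sylow.toSubgroup hg
  rw [Sylow.coe_subgroup_smul] at hsub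
  obtain ⟨_, ⟨s, hs, rfl⟩, hsa⟩ := hsub.ge ha
  change g * (s : G) * g⁻¹ = a at hsa
  rw [mem_inertia_conjFun, ← hsa]
  have e : g⁻¹ * (g * (s : G) * g⁻¹) * g⁻¹⁻¹ = s := by group
  rw [e]
  exact s.2

/-- Stable conjugates are conjugate under the normalizer. -/
theorem exists_normalizer_conj (K : Subgroup G) [K.Normal] (P : Sylow p G) {f : K → ℂ} {g : G}
    (h1 : (P : Subgroup G) ≤ inertia K f) (h2 : (P : Subgroup G) ≤ inertia K (conjFun K g f)) :
    ∃ n ∈ Subgroup.normalizer ((P : Subgroup G) : Set G), conjFun K g f = conjFun K n f := by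
  have h2' : ((g • P : Sylow p G) : Subgroup G) ≤ inertia K f := by
    rw [Sylow.coe_subgroup_smul]
    rintro _ ⟨a, ha, rfl⟩
    exact (mem_inertia_conjFun K).mp (h2 ha)
  obtain ⟨y, ⟨hy, -⟩, hyP⟩ := exists_conj_of_centralizing (P := (⊥ : Subgroup G)) P (g • P)
    (fun z _ => Subgroup.mem_centralizer_iff.mpr fun w hw => by
      rw [Subgroup.mem_bot.mp hw, one_mul, mul_one])
    (fun z _ => Subgroup.mem_centralizer_iff.mpr fun w hw => by
      rw [Subgroup.mem_bot.mp hw, one_mul, mul_one]) h1 h2'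
  refine ⟨y⁻¹ * g, ?_, ?_⟩
  · have h3 : g⁻¹ * y ∈ Subgroup.normalizer ((P : Subgroup G) : Set G) :=
      Subgroup.mem_normalizer_iff.mpr fun z => by
        rw [hyP z, Sylow.coe_subgroup_smul, Subgroup.mem_pointwise_smul_iff_inv_smul_mem,
          ← map_inv, MulAut.smul_def, MulAut.conj_apply]
        simp [mul_assoc]
    simpa using inv_mem h3
  · rw [← conjFun_conjFun, (mem_inertia_iff K).mp (inv_mem hy)]

/-- The index of a subgroup containing `P` agrees mod `p` with that of its trace on `N(P)`. -/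
theorem index_modEq (P : Sylow p G) (T : Subgroup G) (h : (P : Subgroup G) ≤ T) :
    (T.index : ZMod p) =
      (T.subgroupOf (Subgroup.normalizer ((P : Subgroup G) : Set G))).index := by
  set N := Subgroup.normalizer ((P : Subgroup G) : Set G) with hN
  have h1 : (N.index : ZMod p) = 1 := by
    rw [show N.index = Nat.card (Sylow p G) from P.card_eq_index_normalizer.symm]
    simpa using (ZMod.natCast_eq_natCast_iff _ 1 p).mpr (card_sylow_modEq_one p G)
  have h2 : (N.relIndex T : ZMod p) = 1 := by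
    have hn : N.subgroupOf T =
        Subgroup.normalizer (((P.subtype h : Sylow p T) : Subgroup T) : Set T) := by
      rw [Sylow.coe_subtype, ← Subgroup.subgroupOf_normalizer_eq h]
    rw [Subgroup.relIndex, hn, show (Subgroup.normalizer
      (((P.subtype h : Sylow p T) : Subgroup T) : Set T)).index = Nat.card (Sylow p T) from
      (P.subtype h).card_eq_index_normalizer.symm]
    simpa using (ZMod.natCast_eq_natCast_iff _ 1 p).mpr (card_sylow_modEq_one p T)
  have h3 : N.relIndex T * T.index = T.relIndex N * N.index := by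
    rw [← Subgroup.inf_relIndex_right N T, ← Subgroup.inf_relIndex_right T N,
      Subgroup.relIndex_mul_index inf_le_right, Subgroup.relIndex_mul_index inf_le_right, inf_comm]
  have h4 := congrArg (fun n : ℕ => (n : ZMod p)) h3
  simp only [Nat.cast_mul, h1, h2, one_mul, mul_one] at h4
  exact h4

/-- The bijection. -/
theorem main (K : Subgroup G) [K.Normal] (hodd : Odd K.index) (R : Subgroup G) [R.Normal]
    (hRK : R ≤ K) (hRp : IsPGroup p R) (hRi : ¬ p ∣ R.relIndex K) (hreal : RealDeg.HReal p G)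
    (P : Sylow p G) :
    ∃ f : {χ : IrrCharacter G // ∀ g : G, ((χ : G → ℂ) g).im = 0} →
        {ξ : IrrCharacter ↥(Subgroup.normalizer ((P : Subgroup G) : Set G)) //
          (∀ n, ((ξ : ↥(Subgroup.normalizer ((P : Subgroup G) : Set G)) → ℂ) n).im = 0) ∧
            ¬ p ∣ charDegree (ξ : ↥(Subgroup.normalizer ((P : Subgroup G) : Set G)) → ℂ)},
      Function.Bijective f ∧ ∀ χ,
        ((charDegree ((f χ).1 : ↥(Subgroup.normalizer ((P : Subgroup G) : Set G)) → ℂ) : ZMod p) =
            (charDegree (χ.1 : G → ℂ) : ZMod p) ∨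
          (charDegree ((f χ).1 : ↥(Subgroup.normalizer ((P : Subgroup G) : Set G)) → ℂ) : ZMod p) =
            -(charDegree (χ.1 : G → ℂ) : ZMod p)) := by
  classical
  set N := Subgroup.normalizer ((P : Subgroup G) : Set G) with hNdef
  set CN : Subgroup N := K.subgroupOf N with hCN
  set PN : Subgroup N := (P : Subgroup G).subgroupOf N with hPN
  haveI : CN.Normal := Subgroup.normal_subgroupOf
  haveI : PN.Normal := Subgroup.normal_in_normalizer
  have hRP : R ≤ (P : Subgroup G) := IsPGroup.le_sylow_of_normal hRp P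
  have hCodd : Odd CN.index := hodd.of_dvd_nat (Subgroup.relIndex_dvd_index_of_normal K N)
  let φ : (P : Subgroup G) →* MulAut K := MulAut.conjNormal.comp (P : Subgroup G).subtype
  let φN : (P : Subgroup G) →* MulAut CN :=
    MulAut.conjNormal.comp (Subgroup.inclusion Subgroup.le_normalizer)
  let C : Subgroup K := N.subgroupOf K
  let e : CN ≃* C :=
    { toFun := fun c => ⟨⟨c.1.1, c.2⟩, c.1.2⟩
      invFun := fun c => ⟨⟨c.1.1, c.2⟩, c.1.2⟩
      left_inv := fun _ => rfl
      right_inv := fun _ => rfl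
      map_mul' := fun _ _ => rfl }
  let ι : CN → K := fun c => ⟨c.1.1, c.2⟩
  have hK : ∀ f : K → ℂ, CharCore.IsInvFun φ f ↔ (P : Subgroup G) ≤ inertia K f := fun f =>
    ⟨fun h a ha n => (congrArg f (Subtype.ext (MulAut.conjNormal_apply a n).symm)).trans
      (h ⟨a, ha⟩ n),
    fun h a n => (congrArg f (Subtype.ext (MulAut.conjNormal_apply (a : G) n))).trans (h a.2 n)⟩
  have hC : ∀ f : CN → ℂ, CharCore.IsInvFun φN f ↔ PN ≤ inertia CN f := fun f =>
    ⟨fun h a ha n => (congrArg f (Subtype.ext (MulAut.conjNormal_apply a n).symm)).trans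
      (h ⟨a.1, ha⟩ n),
    fun h a n => (congrArg f (Subtype.ext (MulAut.conjNormal_apply
      (Subgroup.inclusion Subgroup.le_normalizer a) n))).trans
        (h (x := Subgroup.inclusion Subgroup.le_normalizer a) a.2 n)⟩
  have hinf : ∀ x ∈ K, x ∈ (P : Subgroup G) → x ∈ R := by
    have h1 : (P : Subgroup G) ⊓ K ≤ R := by
      rw [← Subgroup.relIndex_eq_one]
      obtain ⟨k, hk⟩ : ∃ k, R.relIndex ((P : Subgroup G) ⊓ K) = p ^ k := by
        obtain ⟨n, hn⟩ := (P.2.to_le inf_le_left : IsPGroup p ((P : Subgroup G) ⊓ K : Subgroup G))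
          |>.exists_card_eq
        exact ((Nat.dvd_prime_pow hp.out).mp (hn ▸ Subgroup.relIndex_dvd_card _ _)).imp
          fun _ h => h.2
      have hle : R ≤ (P : Subgroup G) ⊓ K := le_inf hRP hRK
      rcases Nat.eq_zero_or_pos k with rfl | hk0
      · rw [hk, pow_zero]
      · exfalso
        refine hRi ?_
        rw [← Subgroup.relIndex_mul_relIndex R ((P : Subgroup G) ⊓ K) K hle inf_le_right, hk]
        exact Dvd.dvd.mul_right (dvd_pow_self p hk0.ne') _
    exact fun x hxK hxP => h1 ⟨hxP, hxK⟩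
  have S : Blocks88.SylowSetup φ (R.subgroupOf K) C p := by
    refine ⟨Subgroup.normal_subgroupOf, P.2,
      IsPGroup.of_equiv hRp (Subgroup.subgroupOfEquivOfLe hRK).symm, hRi,
      fun a q hq => ?_, fun k => ⟨fun hk a => ?_, fun h => ?_⟩⟩
    · show ((MulAut.conjNormal (a : G) q : K) : G) ∈ R
      rw [MulAut.conjNormal_apply]
      exact (inferInstance : R.Normal).conj_mem _ hq _
    · show ((MulAut.conjNormal (a : G) k : K) : G) * (k : G)⁻¹ ∈ R
      rw [MulAut.conjNormal_apply]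
      refine hinf _ ?_ ?_
      · exact mul_mem ((inferInstance : K.Normal).conj_mem _ k.2 _) (inv_mem k.2)
      · rw [mul_assoc, mul_assoc, ← mul_assoc (k : G)]
        exact mul_mem a.2 ((Subgroup.mem_normalizer_iff.mp hk _).mp (inv_mem a.2))
    · have hkey : ∀ a ∈ (P : Subgroup G), (k : G) * a * (k : G)⁻¹ ∈ (P : Subgroup G) := by
        intro a ha
        have h1 : ((MulAut.conjNormal a⁻¹ k : K) : G) * (k : G)⁻¹ ∈ R := h ⟨a⁻¹, inv_mem ha⟩
        rw [MulAut.conjNormal_apply, inv_inv] at h1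
        simpa [mul_assoc] using mul_mem ha (hRP h1)
      refine Subgroup.mem_normalizer_iff.mpr fun z => ⟨hkey z, fun hz => ?_⟩
      have hle : (P : Subgroup G).map (MulAut.conj (k : G)).toMonoidHom ≤ P := by
        rintro _ ⟨a, ha, rfl⟩; exact hkey a ha
      have heq := Subgroup.eq_of_le_of_card_ge hle
        (Subgroup.card_map_of_injective (MulAut.conj (k : G)).injective).ge
      rw [← heq] at hz
      exact (Subgroup.mem_map_iff_mem (f := (MulAut.conj (k : G)).toMonoidHom)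
        (MulAut.conj (k : G)).injective).mp hz
  obtain ⟨f₀, hf₀, hm₀⟩ := Blocks88.glauber_sylow S
  let X := {θ : IrrCharacter K // CharCore.IsInvFun φ (θ : K → ℂ)}
  let Y := {η : IrrCharacter CN // CharCore.IsInvFun φN (η : CN → ℂ)}
  let dn : {ξ : IrrCharacter C // Blocks88.InvOn φ C (ξ : C → ℂ)} → Y := fun ξ =>
    ⟨⟨fun c => (ξ.1 : C → ℂ) (e c),
      CharCore.isIrrCharacter_comp_surjective ξ.1.2 e.toMonoidHom e.surjective⟩,
      fun a c => ξ.2 a (e c) (e (φN a c)) (Subtype.ext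
        ((congrArg Subtype.val (MulAut.conjNormal_apply _ c)).trans
          (MulAut.conjNormal_apply (a : G) (e c : K)).symm))⟩
  have hdn : Function.Bijective dn := by
    refine ⟨fun a b h => Subtype.ext (Subtype.ext (funext fun c => ?_)), fun η => ?_⟩
    · have h1 := congrFun (congrArg (fun z : Y => (z.1 : CN → ℂ)) h) (e.symm c)
      simpa [dn] using h1
    · refine ⟨⟨⟨fun c => (η.1 : CN → ℂ) (e.symm c), CharCore.isIrrCharacter_comp_surjective
        η.1.2 e.symm.toMonoidHom e.symm.surjective⟩, fun a h h' hh => ?_⟩, ?_⟩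
      · show (η.1 : CN → ℂ) _ = (η.1 : CN → ℂ) _
        rw [← η.2 a (e.symm h)]
        refine congrArg (η.1 : CN → ℂ) (Subtype.ext (Subtype.ext ?_))
        exact (congrArg Subtype.val hh).trans ((MulAut.conjNormal_apply (a : G) (h : K)).trans
          (congrArg Subtype.val (MulAut.conjNormal_apply
            (Subgroup.inclusion Subgroup.le_normalizer a) (e.symm h))).symm)
      · exact Subtype.ext (Subtype.ext (funext fun c => by simp [dn]))
  let F : X → Y := fun θ => dn (f₀ θ)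
  have hF : Function.Bijective F := hdn.comp hf₀
  let mult : X → IrrCharacter CN → ℂ := fun θ η =>
    Cfsg.classInner (fun c : CN => (θ.1 : K → ℂ) (ι c)) η
  have hmult : ∀ (θ : X) (η : Y), ∃ m : ℕ, mult θ η.1 = m ∧
      (η = F θ → ¬ p ∣ m ∧ ((m : ZMod p) = 1 ∨ (m : ZMod p) = -1)) ∧ (η ≠ F θ → p ∣ m) := by
    intro θ η
    obtain ⟨ξ, rfl⟩ := hdn.2 η
    obtain ⟨m, hm, h1, h2⟩ := hm₀ θ ξ
    refine ⟨m, ?_, fun h => not_dvd_natCast_pm (h1 (hdn.1 h)), fun h => h2 fun he => h (by rw [he])⟩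
    rw [← hm]
    simp only [mult, CharCore.classInner_def]
    rw [Nat.card_congr e.toEquiv]
    congr 1
    exact Fintype.sum_equiv e.toEquiv _ _ fun c => rfl
  have hunique : ∀ (θ : X) (η : Y) (θ' : X) (m : ℂ), mult θ (F θ).1 = m → mult θ' η.1 = m →
      η = F θ' := by
    intro θ η θ' m hm hm'
    obtain ⟨a, ha, ha1, -⟩ := hmult θ (F θ)
    obtain ⟨b, hb, -, hb2⟩ := hmult θ' η
    by_contra hne
    have hab : a = b := by rw [ha] at hm; rw [hb, ← hm] at hm'; exact_mod_cast hm'.symm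
    exact (ha1 rfl).1 (hab ▸ hb2 hne)
  -- equivariance under `N`
  have hnX : ∀ (n : N) (θ : X), CharCore.IsInvFun φ (conjFun K (n : G) (θ.1 : K → ℂ)) := by
    intro n θ
    rw [hK]
    intro a ha
    rw [mem_inertia_conjFun]
    exact (hK _).mp θ.2 ((Subgroup.mem_normalizer_iff.mp n.2 a).mp ha)
  have hnY : ∀ (n : N) (η : Y), CharCore.IsInvFun φN (conjFun CN n (η.1 : CN → ℂ)) := by
    intro n η
    rw [hC]
    intro a ha
    rw [mem_inertia_conjFun]
    exact (hC _).mp η.2 ((inferInstance : PN.Normal).conj_mem _ ha n)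
  have heqv : ∀ (n : N) (θ : X),
      ((F ⟨⟨_, isIrrCharacter_conjFun K θ.1.2 (n : G)⟩, hnX n θ⟩).1 : CN → ℂ) =
        conjFun CN n ((F θ).1 : CN → ℂ) := by
    intro n θ
    have h := hunique θ ⟨⟨_, isIrrCharacter_conjFun CN (F θ).1.2 n⟩, hnY n (F θ)⟩
      ⟨⟨_, isIrrCharacter_conjFun K θ.1.2 (n : G)⟩, hnX n θ⟩ _ rfl
      (classInner_conjFun CN (fun c : CN => (θ.1 : K → ℂ) (ι c)) ((F θ).1 : CN → ℂ) n)
    exact (congrArg (fun z : Y => (z.1 : CN → ℂ)) h).symm
  -- commutation with complex conjugation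
  have hrealF : ∀ θ : X, (∀ k, ((θ.1 : K → ℂ) k).im = 0) ↔
      ∀ c, (((F θ).1 : CN → ℂ) c).im = 0 := by
    intro θ
    let θ' : X := ⟨⟨_, CharCore.isIrrCharacter_star θ.1.2⟩, fun a k => congrArg conj (θ.2 a k)⟩
    let η' : Y := ⟨⟨_, CharCore.isIrrCharacter_star (F θ).1.2⟩,
      fun a c => congrArg conj ((F θ).2 a c)⟩
    have h : η' = F θ' := by
      refine hunique θ η' θ' _ rfl ?_
      obtain ⟨m, hm, -⟩ := hmult θ (F θ)
      rw [hm, ← Complex.conj_natCast m, ← hm]
      simp only [mult, θ', η', CharCore.classInner_def, map_mul, map_inv₀, Complex.conj_natCast,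
        map_sum]
    constructor
    · intro hr
      have hθ : θ' = θ := Subtype.ext (Subtype.ext (funext fun k =>
        Complex.conj_eq_iff_im.mpr (hr k)))
      rw [hθ] at h
      exact fun c => Complex.conj_eq_iff_im.mp
        (congrFun (congrArg (fun z : Y => (z.1 : CN → ℂ)) h) c)
    · intro hr
      have hη : η' = F θ := Subtype.ext (Subtype.ext (funext fun c =>
        Complex.conj_eq_iff_im.mpr (hr c)))
      exact fun k => Complex.conj_eq_iff_im.mp
        (congrFun (congrArg (fun z : X => (z.1 : K → ℂ)) (hF.1 (h.symm.trans hη))) k)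
  -- degrees
  have hdegF : ∀ θ : X, (charDegree ((F θ).1 : CN → ℂ) : ZMod p) = charDegree (θ.1 : K → ℂ) ∨
      (charDegree ((F θ).1 : CN → ℂ) : ZMod p) = -(charDegree (θ.1 : K → ℂ) : ZMod p) := by
    intro θ
    let ιh : CN →* K := { toFun := ι, map_one' := rfl, map_mul' := fun _ _ => rfl }
    have hres : Cfsg.IsCharacter CN (fun c => (θ.1 : K → ℂ) (ι c)) :=
      CharCore.isCharacter_comp (CharCore.irr_isCharacter θ.1) ιh
    choose m hm using fun η : IrrCharacter CN =>
      CharCore.IsCharacter.exists_classInner_irr_eq_natCast hres η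
    have hdeg : charDegree (θ.1 : K → ℂ) = ∑ η, m η * charDegree (η : CN → ℂ) := by
      refine charDegree_eq ?_
      have h := congrFun (CharCore.IsCharacter.eq_sum_classInner hres) 1
      simp only [hm, Finset.sum_apply, Pi.smul_apply, smul_eq_mul, apply_one_eq] at h
      push_cast
      exact h
    letI := CharCore.irrAction φN
    have hfix : ∀ η : IrrCharacter CN, η ∈ MulAction.fixedPoints (P : Subgroup G)
        (IrrCharacter CN) ↔ CharCore.IsInvFun φN (η : CN → ℂ) := fun η =>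
      ⟨fun h a c => by
        have := congrFun (congrArg Subtype.val (h a)) (φN a c)
        rw [← this]
        show (η : CN → ℂ) ((φN a)⁻¹ (φN a c)) = _
        rw [MulAut.inv_apply_self],
      fun h a => Subtype.ext (funext fun c => by
        show (η : CN → ℂ) ((φN a)⁻¹ c) = _
        rw [← h a, MulAut.apply_inv_self])⟩
    have hinv : ∀ (a : (P : Subgroup G)) (η : IrrCharacter CN),
        ((m (a • η) * charDegree ((a • η : IrrCharacter CN) : CN → ℂ) : ℕ) : ZMod p) =
          (m η * charDegree (η : CN → ℂ) : ℕ) := by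
      intro a η
      have h1 : m (a • η) = m η := Nat.cast_injective (R := ℂ) (by
        rw [← hm, ← hm, CharCore.classInner_def, CharCore.classInner_def]
        congr 1
        refine (Fintype.sum_equiv (φN a).toEquiv _ _ fun c => ?_).symm
        show (θ.1 : K → ℂ) (ι c) * conj ((η : CN → ℂ) c) =
          (θ.1 : K → ℂ) (ι (φN a c)) * conj ((η : CN → ℂ) ((φN a)⁻¹ (φN a c)))
        rw [MulAut.inv_apply_self, ← θ.2 a (ι c)]
        congr 2)
      have h2 : charDegree ((a • η : IrrCharacter CN) : CN → ℂ) = charDegree (η : CN → ℂ) :=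
        charDegree_eq (by
          show (η : CN → ℂ) ((φN a)⁻¹ 1) = _
          rw [map_one, apply_one_eq])
      rw [h1, h2]
    have hsum := Blocks88.sum_eq_sum_fixed P.2
      (fun η => ((m η * charDegree (η : CN → ℂ) : ℕ) : ZMod p)) hinv
    rw [← Nat.cast_sum, ← hdeg, Finset.sum_eq_single ⟨(F θ).1, (hfix _).mpr (F θ).2⟩] at hsum
    · obtain ⟨a, ha, ha1, -⟩ := hmult θ (F θ)
      have : m (F θ).1 = a := by exact_mod_cast (hm _).symm.trans ha
      rw [this, Nat.cast_mul] at hsum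
      rcases (ha1 rfl).2 with h | h <;> rw [h] at hsum
      · exact Or.inl (by rw [hsum, one_mul])
      · exact Or.inr (by rw [hsum, neg_one_mul, neg_neg])
    · rintro ⟨η, hη⟩ - hne
      obtain ⟨b, hb, -, hb2⟩ := hmult θ ⟨η, (hfix η).mp hη⟩
      have : m η = b := by exact_mod_cast (hm η).symm.trans hb
      rw [Nat.cast_mul, this, (ZMod.natCast_eq_zero_iff b p).mpr (hb2 fun he => hne (Subtype.ext
        (show η = (F θ).1 from congrArg (fun z : Y => z.1) he))), zero_mul]
    · simp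
  -- real characters of `G` over stable ones
  obtain ⟨hoverG, hunderG⟩ := real_over K hodd
  obtain ⟨hoverN, hunderN⟩ := real_over CN hCodd
  have hpick : ∀ χ : {χ : IrrCharacter G // ∀ g : G, ((χ : G → ℂ) g).im = 0},
      ∃ θ : X, (∀ k, ((θ.1 : K → ℂ) k).im = 0) ∧ resMult K (χ.1 : G → ℂ) θ.1 = 1 := by
    intro χ
    obtain ⟨θ, hθ, hne⟩ := hunderG χ.1 χ.2
    obtain ⟨g, hg⟩ := exists_inv_conj K hodd hreal P θ hθ
    refine ⟨⟨⟨_, isIrrCharacter_conjFun K θ.2 g⟩, (hK _).mpr hg⟩, fun k => hθ _, ?_⟩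
    show resMult K (χ.1 : G → ℂ) (conjFun K g (θ : K → ℂ)) = 1
    rw [resMult, classInner_restrict_conjFun K (CharCore.irr_isClassFunction χ.1)]
    obtain ⟨χ', -, h1, h2⟩ := hoverG θ hθ
    rw [h2 χ.1 χ.2 hne]
    exact h1
  choose θc hθr hθm using hpick
  choose Ξ hΞr hΞ1 hΞu using fun χ => hoverN (F (θc χ)).1 ((hrealF _).mp (hθr χ))
  have hinertia : ∀ θ : X, inertia CN ((F θ).1 : CN → ℂ) =
      (inertia K (θ.1 : K → ℂ)).subgroupOf N := by
    intro θ
    ext n
    rw [Subgroup.mem_subgroupOf, mem_inertia_iff, mem_inertia_iff, ← heqv n θ]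
    constructor
    · intro h
      have h' := hF.1 (Subtype.ext (Subtype.ext h))
      exact congrArg (fun z : X => (z.1 : K → ℂ)) h'
    · intro h
      exact congrArg (fun z : X => ((F z).1 : CN → ℂ)) (Subtype.ext (Subtype.ext h))
  have hθp : ∀ χ, ¬ p ∣ charDegree ((θc χ).1 : K → ℂ) := fun χ hd => hreal χ.1 χ.2 (by
    rw [degree_over K (θc χ).1 χ.1 (hθm χ)]; exact hd.mul_left _)
  have hcong : ∀ χ, ((charDegree (Ξ χ : N → ℂ) : ℕ) : ZMod p) = charDegree (χ.1 : G → ℂ) ∨
      ((charDegree (Ξ χ : N → ℂ) : ℕ) : ZMod p) = -(charDegree (χ.1 : G → ℂ) : ZMod p) := by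
    intro χ
    rw [degree_over CN _ _ (hΞ1 χ), degree_over K (θc χ).1 χ.1 (hθm χ), hinertia, Nat.cast_mul,
      Nat.cast_mul, ← index_modEq P _ ((hK _).mp (θc χ).2), ← mul_neg]
    exact (hdegF (θc χ)).imp (fun h => by rw [h]) (fun h => by rw [h])
  have hΞp : ∀ χ, ¬ p ∣ charDegree (Ξ χ : N → ℂ) := fun χ hd => by
    have hd' := (ZMod.natCast_eq_zero_iff _ p).mpr hd
    refine hreal χ.1 χ.2 ((ZMod.natCast_eq_zero_iff _ p).mp ?_)
    rcases hcong χ with h | h <;> rw [hd'] at h
    · exact h.symm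
    · exact neg_eq_zero.mp h.symm
  refine ⟨fun χ => ⟨Ξ χ, hΞr χ, hΞp χ⟩, ⟨fun χ χ' he => ?_, fun ξ => ?_⟩, hcong⟩
  · have he' : Ξ χ = Ξ χ' := congrArg Subtype.val he
    obtain ⟨n, hn⟩ := exists_conjFun_eq_of_constituents CN (Ξ χ).2 (F (θc χ)).1.2 (F (θc χ')).1.2
      (by show resMult CN _ _ ≠ 0; rw [hΞ1 χ]; exact one_ne_zero)
      (by show resMult CN _ _ ≠ 0; rw [he', hΞ1 χ']; exact one_ne_zero)
    rw [← heqv n (θc χ)] at hn
    have hθ : ((θc χ').1 : K → ℂ) = conjFun K (n : G) ((θc χ).1 : K → ℂ) :=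
      congrArg (fun z : X => (z.1 : K → ℂ)) (hF.1 (Subtype.ext (Subtype.ext hn)))
    obtain ⟨χ₀, -, -, hu⟩ := hoverG (θc χ).1 (hθr χ)
    refine Subtype.ext ((hu χ.1 χ.2 (by rw [hθm χ]; exact one_ne_zero)).trans
      (hu χ'.1 χ'.2 ?_).symm)
    have h1 := hθm χ'
    rw [hθ, resMult, classInner_restrict_conjFun K (CharCore.irr_isClassFunction χ'.1)] at h1
    rw [resMult, h1]
    exact one_ne_zero
  · obtain ⟨η, hηr, hne⟩ := hunderN ξ.1 ξ.2.1
    obtain ⟨χ', -, h1, h2⟩ := hoverN η hηr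
    have hm1 : resMult CN (ξ.1 : N → ℂ) η = 1 := by rw [h2 ξ.1 ξ.2.1 hne]; exact h1
    have hPη : PN ≤ inertia CN (η : CN → ℂ) := by
      set T := inertia CN (η : CN → ℂ)
      have hTi : ¬ p ∣ T.index := fun hd => ξ.2.2 (by
        rw [degree_over CN η ξ.1 hm1]; exact hd.mul_right _)
      obtain ⟨S'⟩ : Nonempty (Sylow p T) := inferInstance
      have hSi : ¬ p ∣ ((S' : Subgroup T).map T.subtype).index := by
        rw [Subgroup.index_map_subtype]
        exact fun hd => (hp.out.dvd_mul.mp hd).elim S'.not_dvd_index hTi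
      exact (@IsPGroup.le_sylow_of_normal _ _ _ PN (inferInstance : PN.Normal) P.2.comap_subtype
        ((S'.2.map T.subtype).toSylow hSi)).trans (Subgroup.map_subtype_le _)
    obtain ⟨θ, hθ⟩ := hF.2 ⟨η, (hC _).mpr hPη⟩
    have hθη : (F θ).1 = η := congrArg Subtype.val hθ
    have hθreal : ∀ k, ((θ.1 : K → ℂ) k).im = 0 := (hrealF θ).mpr (by rw [hθη]; exact hηr)
    obtain ⟨χ, hχr, hχ1, -⟩ := hoverG θ.1 hθreal
    refine ⟨⟨χ, hχr⟩, Subtype.ext ?_⟩
    obtain ⟨g, hg⟩ := exists_conjFun_eq_of_constituents K χ.2 θ.1.2 (θc ⟨χ, hχr⟩).1.2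
      (by show resMult K _ _ ≠ 0; rw [hχ1]; exact one_ne_zero)
      (by show resMult K _ _ ≠ 0; rw [hθm ⟨χ, hχr⟩]; exact one_ne_zero)
    obtain ⟨n, hnN, hn⟩ := exists_normalizer_conj K P ((hK _).mp θ.2)
      (hg ▸ (hK _).mp (θc ⟨χ, hχr⟩).2)
    have hFn : ((F (θc ⟨χ, hχr⟩)).1 : CN → ℂ) = conjFun CN ⟨n, hnN⟩ (η : CN → ℂ) := by
      rw [← hθη, ← heqv ⟨n, hnN⟩ θ]
      exact congrArg (fun z : X => ((F z).1 : CN → ℂ)) (Subtype.ext (Subtype.ext (hg.trans hn)))
    refine (hΞu _ ξ.1 ξ.2.1 ?_).symm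
    rw [resMult, hFn, classInner_restrict_conjFun CN (CharCore.irr_isClassFunction ξ.1)]
    exact hne

end Cfsg.Agent.BC87.RealMcKay
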