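import Cfsg.Agent.BC87.Basic
import Cfsg.Agent.Lib.CharClifford.Clifford
import Cfsg.Agent.Lib.CharInd.Classes
import Mathlib.GroupTheory.GroupAction.Quotient

/-!
# Orbits on real characters and real classes of a normal subgroup of odd index
-/

set_option autoImplicit false

open scoped ComplexConjugate
open Cfsg.Agent.CharClifford

namespace Cfsg.Agent.BC87

universe u

variable {G : Type u} [Group G] [Finite G] (K : Subgroup G) [K.Normal]

omit [Finite G] in
theorem conjNormal_conj (g : G) (x y : K) (h : IsConj x y) :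
    IsConj (MulAut.conjNormal g x : K) (MulAut.conjNormal g y) :=
  (MulAut.conjNormal g : MulAut K).toMonoidHom.map_isConj h

omit [Finite G] in
theorem isConj_conjNormal_of_mem {g : G} (hg : g ∈ K) (x : K) :
    IsConj x (MulAut.conjNormal g x : K) :=
  isConj_iff.mpr ⟨⟨g, hg⟩, Subtype.ext (by simp)⟩

omit [Finite G] in
theorem conjNormal_mul_apply (a b : G) (x : K) :
    (MulAut.conjNormal (a * b) x : K) = MulAut.conjNormal a (MulAut.conjNormal b x) := by
  rw [map_mul]; rfl

omit [Finite G] in
theorem isConj_inv {H : Type*} [Group H] {x y : H} (h : IsConj x y) : IsConj x⁻¹ y⁻¹ := by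
  obtain ⟨c, rfl⟩ := isConj_iff.mp h
  exact isConj_iff.mpr ⟨c, by group⟩

omit [Finite G] in
/-- Twisting by an element of odd order modulo `K` and inverting fixes a class exactly when the
twist and the inversion both fix it. -/
theorem isConj_of_twist (hodd : Odd K.index) (g : G) (x : K)
    (h : IsConj (MulAut.conjNormal g x : K) x⁻¹) :
    IsConj (MulAut.conjNormal g x : K) x ∧ IsConj x x⁻¹ := by
  have h2 : IsConj (MulAut.conjNormal (g * g) x : K) x := by
    rw [conjNormal_mul_apply]
    refine (conjNormal_conj K g _ _ h).trans ?_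
    rw [map_inv]
    simpa using isConj_inv h
  have hi : ∀ i, IsConj (MulAut.conjNormal ((g * g) ^ i) x : K) x := by
    intro i
    induction i with
    | zero => rw [pow_zero, map_one]; exact IsConj.refl _
    | succ i ih =>
      rw [pow_succ', conjNormal_mul_apply]
      exact (conjNormal_conj K _ _ _ ih).trans h2
  obtain ⟨i, hi'⟩ := hodd
  have hm : (g * g) ^ i * g ∈ K := by
    have := Subgroup.pow_index_mem K g
    rwa [hi', pow_succ, pow_mul, sq] at this
  have h3 : IsConj (MulAut.conjNormal g x : K) x := by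
    have hc : (g * g) ^ i * g = g * (g * g) ^ i :=
      (((Commute.refl g).mul_left (Commute.refl g)).pow_left i).eq
    have h4 := isConj_conjNormal_of_mem K hm x
    rw [hc, conjNormal_mul_apply] at h4
    exact ((conjNormal_conj K g _ _ (hi i)).symm).trans h4.symm
  exact ⟨h3, h3.symm.trans h⟩

omit [Finite G] in
/-- The same for characters. -/
theorem conjFun_of_twist (hodd : Odd K.index) (g : G) (θ : Cfsg.IrrCharacter K)
    (h : (fun k => conj (conjFun K g (θ : K → ℂ) k)) = (θ : K → ℂ)) :
    conjFun K g (θ : K → ℂ) = θ ∧ ∀ k, ((θ : K → ℂ) k).im = 0 := by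
  have h1 : conjFun K g (θ : K → ℂ) = fun k => conj ((θ : K → ℂ) k) := funext fun k => by
    rw [← congrFun h k, Complex.conj_conj]
  have h2 : conjFun K (g * g) (θ : K → ℂ) = θ := by
    rw [← conjFun_conjFun, h1, conjFun_conj]
    exact h
  have hi : ∀ i, conjFun K ((g * g) ^ i) (θ : K → ℂ) = θ := by
    intro i
    induction i with
    | zero => simp
    | succ i ih => rw [pow_succ', ← conjFun_conjFun, h2, ih]
  obtain ⟨i, hi'⟩ := hodd
  have hm : (g * g) ^ i * g ∈ K := by
    have := Subgroup.pow_index_mem K g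
    rwa [hi', pow_succ, pow_mul, sq] at this
  have h3 : conjFun K g (θ : K → ℂ) = θ := by
    conv_lhs => rw [← hi i, conjFun_conjFun]
    exact conjFun_of_mem K (CharCore.irr_isClassFunction θ) hm
  refine ⟨h3, fun k => Complex.conj_eq_iff_im.mp ?_⟩
  exact (congrFun h1 k).symm.trans (congrFun h3 k)

/-- `G` has as many orbits on the real irreducible characters of a normal subgroup `K` of odd
index as on the real elements of `K`. -/
theorem card_real_orbits (hodd : Odd K.index) :
    Nat.card (Quot (fun θ η : {θ : Cfsg.IrrCharacter ↥K //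
        (∀ k : ↥K, ((θ : ↥K → ℂ) k).im = 0)} =>
      ∃ g : G, ∀ k k' : ↥K, (k' : G) = g * (k : G) * g⁻¹ →
        (η.1 : ↥K → ℂ) k' = (θ.1 : ↥K → ℂ) k)) =
    Nat.card (Quot (fun x y : {x : ↥K // IsConj x x⁻¹} =>
      ∃ g : G, (y.1 : G) = g * x.1 * g⁻¹)) := by
  classical
  have := Fintype.ofFinite G
  let X := {θ : Cfsg.IrrCharacter ↥K // (∀ k : ↥K, ((θ : ↥K → ℂ) k).im = 0)}
  let Y := {C : ConjClasses ↥K // ∀ x : ↥K, ConjClasses.mk x = C → IsConj x x⁻¹}
  let actX : MulAction G X :=
    { smul := fun g θ => ⟨⟨conjFun K g⁻¹ (θ.1 : K → ℂ), isIrrCharacter_conjFun K θ.1.2 g⁻¹⟩,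
        fun k => θ.2 _⟩
      one_smul := fun θ => Subtype.ext (Subtype.ext (by
        show conjFun K (1 : G)⁻¹ _ = _
        rw [inv_one, conjFun_one]))
      mul_smul := fun a b θ => Subtype.ext (Subtype.ext (by
        show conjFun K (a * b)⁻¹ _ = conjFun K a⁻¹ (conjFun K b⁻¹ _)
        rw [conjFun_conjFun, mul_inv_rev])) }
  let mapC : G → Y → Y := fun g C =>
    ⟨ConjClasses.map (MulAut.conjNormal g : MulAut K).toMonoidHom C.1, fun x hx => by
      obtain ⟨a, ha⟩ := ConjClasses.exists_rep C.1
      rw [← ha] at hx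
      have h1 : IsConj x (MulAut.conjNormal g a : K) := ConjClasses.mk_eq_mk_iff_isConj.mp hx
      have h2 := conjNormal_conj K g _ _ (C.2 a ha)
      rw [map_inv] at h2
      exact h1.trans (h2.trans (isConj_inv h1).symm)⟩
  let actY : MulAction G Y :=
    { smul := mapC
      one_smul := fun C => Subtype.ext (by
        obtain ⟨a, ha⟩ := ConjClasses.exists_rep C.1
        show ConjClasses.map _ C.1 = C.1
        rw [← ha]
        show ConjClasses.mk _ = _
        simp)
      mul_smul := fun g h C => Subtype.ext (by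
        obtain ⟨a, ha⟩ := ConjClasses.exists_rep C.1
        show ConjClasses.map _ C.1 = ConjClasses.map _ (ConjClasses.map _ C.1)
        rw [← ha]
        show ConjClasses.mk _ = ConjClasses.mk _
        simp) }
  have hfix : ∀ g : G, Nat.card (MulAction.fixedBy X g) = Nat.card (MulAction.fixedBy Y g⁻¹) := by
    intro g
    let f : Cfsg.IrrCharacter K → Cfsg.IrrCharacter K := fun θ =>
      ⟨_, CharCore.isIrrCharacter_star (isIrrCharacter_conjFun K θ.2 g⁻¹)⟩
    have hX : Nat.card (MulAction.fixedBy X g) =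
        Nat.card {θ : Cfsg.IrrCharacter K // f θ = θ} := by
      refine Nat.card_congr
        { toFun := fun θ => ⟨θ.1.1, Subtype.ext (funext fun k => ?_)⟩
          invFun := fun θ => ⟨⟨θ.1,
            (conjFun_of_twist K hodd g⁻¹ θ.1 (congrArg Subtype.val θ.2)).2⟩,
            Subtype.ext (Subtype.ext
              (conjFun_of_twist K hodd g⁻¹ θ.1 (congrArg Subtype.val θ.2)).1)⟩
          left_inv := fun θ => rfl
          right_inv := fun θ => rfl }
      show conj (conjFun K g⁻¹ (θ.1.1 : K → ℂ) k) = (θ.1.1 : K → ℂ) k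
      have h1 : conjFun K g⁻¹ (θ.1.1 : K → ℂ) = (θ.1.1 : K → ℂ) :=
        congrArg Subtype.val (congrArg Subtype.val θ.2)
      rw [h1]
      exact Complex.conj_eq_iff_im.mpr (θ.1.2 k)
    let P : ConjClasses K → Prop := fun C =>
      ∃ x : K, ConjClasses.mk x = C ∧ IsConj (MulAut.conjNormal g⁻¹ x : K) x⁻¹
    have hY : Nat.card (MulAction.fixedBy Y g⁻¹) = Nat.card {C : ConjClasses K // P C} := by
      refine Nat.card_congr
        { toFun := fun C => ⟨C.1.1, ?_⟩
          invFun := fun C => ⟨⟨C.1, fun y hy => ?_⟩, Subtype.ext ?_⟩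
          left_inv := fun C => rfl
          right_inv := fun C => rfl }
      · obtain ⟨a, ha⟩ := ConjClasses.exists_rep C.1.1
        refine ⟨a, ha, ?_⟩
        have h1 : ConjClasses.map (MulAut.conjNormal g⁻¹ : MulAut K).toMonoidHom C.1.1 = C.1.1 :=
          congrArg Subtype.val C.2
        rw [← ha] at h1
        exact (ConjClasses.mk_eq_mk_iff_isConj.mp h1).trans (C.1.2 a ha)
      · obtain ⟨x, hx, hxi⟩ := C.2
        have h1 := (isConj_of_twist K hodd g⁻¹ x hxi).2
        have h2 : IsConj y x := ConjClasses.mk_eq_mk_iff_isConj.mp (hy.trans hx.symm)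
        exact h2.trans (h1.trans (isConj_inv h2).symm)
      · obtain ⟨x, hx, hxi⟩ := C.2
        show ConjClasses.map (MulAut.conjNormal g⁻¹ : MulAut K).toMonoidHom C.1 = C.1
        rw [← hx]
        exact ConjClasses.mk_eq_mk_iff_isConj.mpr (isConj_of_twist K hodd g⁻¹ x hxi).1
    rw [hX, hY]
    have key := CharInd.card_fixed_irr f
    have hs : ∀ k : K, ∑ θ : Cfsg.IrrCharacter K, (f θ : K → ℂ) k * conj ((θ : K → ℂ) k) =
        if P (ConjClasses.mk k) then
          (Nat.card (Subgroup.centralizer ({k} : Set K)) : ℂ) else 0 := by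
      intro k
      have h := CharCore.sum_apply_mul_conj k (MulAut.conjNormal g⁻¹ k : K)⁻¹
      have e : ∀ θ : Cfsg.IrrCharacter K, (f θ : K → ℂ) k * conj ((θ : K → ℂ) k) =
          conj ((θ : K → ℂ) k * conj ((θ : K → ℂ) (MulAut.conjNormal g⁻¹ k : K)⁻¹)) := fun θ => by
        rw [CharCore.irr_apply_inv, Complex.conj_conj, map_mul, mul_comm]
        rfl
      rw [Finset.sum_congr rfl fun θ _ => e θ, ← map_sum, h]
      by_cases hk : IsConj k (MulAut.conjNormal g⁻¹ k : K)⁻¹
      · rw [if_pos hk, if_pos ⟨k, rfl, by simpa using (isConj_inv hk).symm⟩, map_natCast]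
      · rw [if_neg hk, if_neg ?_, map_zero]
        rintro ⟨x, hx, hxi⟩
        have h1 : IsConj k x := ConjClasses.mk_eq_mk_iff_isConj.mp hx.symm
        have h2 : IsConj (MulAut.conjNormal g⁻¹ k : K) k⁻¹ :=
          (conjNormal_conj K g⁻¹ _ _ h1).trans (hxi.trans (isConj_inv h1).symm)
        exact hk (by simpa using (isConj_inv h2).symm)
    rw [Finset.sum_congr rfl fun k _ => hs k, CharInd.sum_card_centralizer_eq P,
      inv_mul_cancel_left₀ (Nat.cast_ne_zero.mpr Nat.card_pos.ne')] at key
    exact_mod_cast key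
  have hburn : Nat.card (Quotient (MulAction.orbitRel G X)) =
      Nat.card (Quotient (MulAction.orbitRel G Y)) := by
    let _ : ∀ g : G, Fintype (MulAction.fixedBy Y g) := fun g => Fintype.ofFinite _
    let _ : Fintype (Quotient (MulAction.orbitRel G Y)) := Fintype.ofFinite _
    let _ : ∀ g : G, Fintype (MulAction.fixedBy X g) := fun g => Fintype.ofFinite _
    let _ : Fintype (Quotient (MulAction.orbitRel G X)) := Fintype.ofFinite _
    have e1 := MulAction.sum_card_fixedBy_eq_card_orbits_mul_card_group G X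
    have e2 := MulAction.sum_card_fixedBy_eq_card_orbits_mul_card_group G Y
    simp only [← Nat.card_eq_fintype_card] at e1 e2
    have hc : ∑ g : G, Nat.card (MulAction.fixedBy Y g⁻¹) =
        ∑ g : G, Nat.card (MulAction.fixedBy Y g) :=
      Equiv.sum_comp (Equiv.inv G) fun g => Nat.card (MulAction.fixedBy Y g)
    rw [Finset.sum_congr rfl fun g _ => hfix g, hc, e2] at e1
    exact (Nat.eq_of_mul_eq_mul_right Nat.card_pos e1).symm
  have hqX : Nat.card (Quotient (MulAction.orbitRel G X)) =
      Nat.card (Quot (fun θ η : X => ∃ g : G, ∀ k k' : ↥K, (k' : G) = g * (k : G) * g⁻¹ →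
        (η.1 : ↥K → ℂ) k' = (θ.1 : ↥K → ℂ) k)) := by
    refine Nat.card_congr (Quot.congrRight fun θ η => ⟨fun h => ?_, fun h => ?_⟩)
    · obtain ⟨g, hg⟩ := MulAction.orbitRel_apply.mp h
      refine ⟨g⁻¹, fun k k' hk => ?_⟩
      have hg' : (θ.1 : K → ℂ) = conjFun K g⁻¹ (η.1 : K → ℂ) :=
        (congrArg Subtype.val (congrArg Subtype.val hg)).symm
      rw [hg', conjFun_apply]
      exact congrArg (η.1 : K → ℂ) (Subtype.ext hk)
    · obtain ⟨g, hg⟩ := h
      refine MulAction.orbitRel_apply.mpr ⟨g⁻¹, Subtype.ext (Subtype.ext (funext fun k => ?_))⟩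
      show conjFun K g⁻¹⁻¹ (η.1 : K → ℂ) k = (θ.1 : K → ℂ) k
      rw [inv_inv, conjFun_apply]
      exact hg k _ rfl
  have hqY : Nat.card (Quot (fun x y : {x : ↥K // IsConj x x⁻¹} =>
      ∃ g : G, (y.1 : G) = g * x.1 * g⁻¹)) = Nat.card (Quotient (MulAction.orbitRel G Y)) := by
    let toY : {x : ↥K // IsConj x x⁻¹} → Y := fun x => ⟨ConjClasses.mk x.1, fun y hy => by
      have h1 := ConjClasses.mk_eq_mk_iff_isConj.mp hy
      exact h1.trans (x.2.trans (isConj_inv h1).symm)⟩
    let F : Quot (fun x y : {x : ↥K // IsConj x x⁻¹} => ∃ g : G, (y.1 : G) = g * x.1 * g⁻¹) →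
        Quotient (MulAction.orbitRel G Y) :=
      Quot.lift (fun x => Quotient.mk _ (toY x)) fun x y ⟨g, hg⟩ => Quotient.sound
        (MulAction.orbitRel_apply.mpr ⟨g⁻¹, Subtype.ext (by
          show ConjClasses.map _ (ConjClasses.mk y.1) = ConjClasses.mk x.1
          show ConjClasses.mk _ = _
          congr 1
          ext
          simp [hg, mul_assoc])⟩)
    refine Nat.card_congr (Equiv.ofBijective F ⟨?_, ?_⟩)
    · intro q₁ q₂
      induction q₁ using Quot.ind with
      | _ x =>
      induction q₂ using Quot.ind with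
      | _ y =>
      intro he
      obtain ⟨g, hg⟩ := MulAction.orbitRel_apply.mp (Quotient.exact he)
      have h1 : ConjClasses.map (MulAut.conjNormal g : MulAut K).toMonoidHom
          (ConjClasses.mk y.1) = ConjClasses.mk x.1 := congrArg Subtype.val hg
      obtain ⟨c, hc⟩ := isConj_iff.mp (ConjClasses.mk_eq_mk_iff_isConj.mp h1)
      refine (Quot.sound ?_).symm
      exact ⟨(c : G) * g, by rw [← hc]; simp [mul_assoc]⟩
    · intro q
      induction q using Quotient.ind with
      | _ C =>
      obtain ⟨a, ha⟩ := ConjClasses.exists_rep C.1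
      exact ⟨Quot.mk _ ⟨a, C.2 a ha⟩, congrArg (Quotient.mk _) (Subtype.ext ha)⟩
  rw [← hqX, hburn, hqY]

end Cfsg.Agent.BC87
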