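import Cfsg.Agent.BC87.CommSylowMain
import Cfsg.Agent.Lib.CharClifford.Clifford

/-!
# A real character over a linear character inverted by a `2`-element
-/

set_option autoImplicit false
set_option linter.unusedSectionVars false
set_option linter.style.haveILetI false

open Subgroup
open scoped ComplexConjugate

namespace Cfsg.Agent.BC87.RealOver

open Cfsg

universe u

variable {G : Type u} [Group G] [Finite G]

/-- An invariant linear character extends trivially over a complement. -/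
theorem exists_extend_complement (N S : Subgroup G) [N.Normal] (l : N →* ℂˣ) (hS : N ⊓ S = ⊥)
    (hinv : ∀ s ∈ S, ∀ n : N,
      l ⟨s * n * s⁻¹, (inferInstance : N.Normal).conj_mem (n : G) n.2 s⟩ = l n) :
    ∃ η : ↥(N ⊔ S) →* ℂˣ, ∀ (x : ↥(N ⊔ S)) (n : N) (s : G), s ∈ S → (x : G) = n * s →
      η x = l n := by
  have hdec : ∀ x : ↥(N ⊔ S), ∃ ns : N × S, (x : G) = (ns.1 : G) * ns.2 := fun x => by
    obtain ⟨n, hn, s, hs, h⟩ := Subgroup.mem_sup_of_normal_left.mp x.2
    exact ⟨(⟨n, hn⟩, ⟨s, hs⟩), h.symm⟩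
  choose d hd using hdec
  have huniq : ∀ (x : ↥(N ⊔ S)) (n : N) (s : G), s ∈ S → (x : G) = n * s →
      l (d x).1 = l n := by
    intro x n s hs h
    have h1 : (n : G)⁻¹ * (d x).1 ∈ N ⊓ S := by
      refine ⟨mul_mem (N.inv_mem n.2) (d x).1.2, ?_⟩
      have e : (n : G)⁻¹ * (d x).1 = s * ((d x).2 : G)⁻¹ := by
        rw [eq_mul_inv_iff_mul_eq, mul_assoc, ← hd x, h, inv_mul_cancel_left]
      rw [e]
      exact mul_mem hs (S.inv_mem (d x).2.2)
    rw [hS, Subgroup.mem_bot, inv_mul_eq_one] at h1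
    rw [Subtype.ext h1]
  refine ⟨{ toFun := fun x => l (d x).1, map_one' := ?_, map_mul' := ?_ }, huniq⟩
  · rw [huniq 1 1 1 S.one_mem (by simp), map_one]
  · intro x y
    let c : N := ⟨((d x).2 : G) * (d y).1 * ((d x).2 : G)⁻¹,
      (inferInstance : N.Normal).conj_mem _ (d y).1.2 _⟩
    rw [huniq (x * y) ((d x).1 * c) ((d x).2 * (d y).2) (mul_mem (d x).2.2 (d y).2.2) (by
      simp only [Subgroup.coe_mul, c]
      rw [hd x, hd y]
      group), map_mul, hinv _ (d x).2.2 (d y).1]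

/-- A linear character of a normal subgroup of odd order that is inverted by a `2`-element lies
under a real irreducible character. -/
theorem exists_real_over (N : Subgroup G) [N.Normal] [Fintype N] (hodd : ¬ 2 ∣ Nat.card N)
    (l : N →* ℂˣ) (z : G) (k : ℕ) (hz : z ^ 2 ^ k = 1)
    (hzl : ∀ n : N, l ⟨z * n * z⁻¹, (inferInstance : N.Normal).conj_mem (n : G) n.2 z⟩ = (l n)⁻¹) :
    ∃ χ : Cfsg.IrrCharacter G, (∀ g : G, ((χ : G → ℂ) g).im = 0) ∧
      Cfsg.classInner (fun n : N => (χ : G → ℂ) n) (fun n => (l n : ℂ)) ≠ 0 := by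
  classical
  haveI := Fact.mk Nat.prime_two
  haveI := Fintype.ofFinite G
  set T := CommSylow.inertia N (fun n => l n) with hTdef
  have hTl : ∀ g, g ∈ T ↔ ∀ n : N,
      l ⟨g * n * g⁻¹, (inferInstance : N.Normal).conj_mem (n : G) n.2 g⟩ = l n :=
    fun g => CommSylow.mem_inertia
  have hzl' : ∀ n : N,
      l ⟨z⁻¹ * n * z⁻¹⁻¹, (inferInstance : N.Normal).conj_mem (n : G) n.2 z⁻¹⟩ = (l n)⁻¹ := by
    intro n
    have h := hzl ⟨z⁻¹ * n * z⁻¹⁻¹, (inferInstance : N.Normal).conj_mem (n : G) n.2 z⁻¹⟩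
    rw [eq_comm, inv_eq_iff_eq_inv] at h
    rw [h]
    exact congrArg (fun m => (l m)⁻¹) (Subtype.ext (by simp only; group))
  have hconjT : ∀ w : G, (∀ n : N,
      l ⟨w * n * w⁻¹, (inferInstance : N.Normal).conj_mem (n : G) n.2 w⟩ = (l n)⁻¹) →
      (∀ n : N, l ⟨w⁻¹ * n * w⁻¹⁻¹,
        (inferInstance : N.Normal).conj_mem (n : G) n.2 w⁻¹⟩ = (l n)⁻¹) →
      ∀ t ∈ T, w * t * w⁻¹ ∈ T := by
    intro w hw hw' t ht
    refine (hTl _).mpr fun n => ?_
    have h1 := hw ⟨t * (w⁻¹ * n * w⁻¹⁻¹ : G) * t⁻¹, (inferInstance : N.Normal).conj_mem _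
      ((inferInstance : N.Normal).conj_mem (n : G) n.2 w⁻¹) t⟩
    rw [(hTl t).mp ht ⟨_, (inferInstance : N.Normal).conj_mem (n : G) n.2 w⁻¹⟩, hw' n] at h1
    replace h1 := h1.trans (inv_inv _)
    rw [← h1]
    exact congrArg l (Subtype.ext (by simp only; group))
  have hzT : z ∈ Subgroup.normalizer (T : Set G) := by
    refine Subgroup.mem_normalizer_iff.mpr fun t => ⟨hconjT z hzl hzl' t, fun h => ?_⟩
    have h2 := hconjT z⁻¹ hzl' (fun n => (congrArg l (Subtype.ext (by simp))).trans (hzl n)) _ h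
    rwa [show z⁻¹ * (z * t * z⁻¹) * z⁻¹⁻¹ = t by group] at h2
  -- a Sylow `2`-subgroup of the inertia group normalized by `z`
  set H := T ⊔ Subgroup.zpowers z
  have hTH : T ≤ H := le_sup_left
  haveI : (T.subgroupOf H).Normal := Subgroup.normal_subgroupOf_of_le_normalizer
    (sup_le Subgroup.le_normalizer (Subgroup.zpowers_le.mpr hzT))
  have hzp : IsPGroup 2 (Subgroup.zpowers (⟨z, le_sup_right (a := T)
      (Subgroup.mem_zpowers z)⟩ : H)) := by
    obtain ⟨c, -, hc⟩ := (Nat.dvd_prime_pow Nat.prime_two).mp (orderOf_dvd_of_pow_eq_one hz)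
    exact IsPGroup.of_card (n := c) (by rw [Nat.card_zpowers, Subgroup.orderOf_mk, hc])
  obtain ⟨P, hP⟩ := hzp.exists_le_sylow
  set Pm := (P : Subgroup H).map H.subtype with hPm
  set S := Pm ⊓ T with hSdef
  have hS2 : IsPGroup 2 S := (P.2.map _).to_le inf_le_left
  have hSodd : ¬ 2 ∣ S.relIndex T := by
    have e1 : S.relIndex T = (P : Subgroup H).relIndex (T.subgroupOf H) := by
      rw [hSdef, Subgroup.inf_relIndex_right,
        ← Subgroup.relIndex_map_map_of_injective _ _ H.subtype_injective,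
        Subgroup.subgroupOf_map_subtype, inf_of_le_left hTH]
    rw [e1]
    intro hd
    obtain ⟨c, hc⟩ := Subgroup.relIndex_dvd_index_of_normal (T.subgroupOf H) (P : Subgroup H)
    have h1 := Subgroup.relIndex_mul_index (inf_le_left : (P : Subgroup H) ⊓ T.subgroupOf H ≤ P)
    have h2 := Subgroup.relIndex_mul_index
      (inf_le_right : (P : Subgroup H) ⊓ T.subgroupOf H ≤ T.subgroupOf H)
    rw [Subgroup.inf_relIndex_left] at h1
    rw [Subgroup.inf_relIndex_right, hc, ← h1] at h2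
    have hne : (T.subgroupOf H).relIndex (P : Subgroup H) ≠ 0 :=
      left_ne_zero_of_mul (hc ▸ Subgroup.index_ne_zero_of_finite)
    have h3 : (P : Subgroup H).index = (P : Subgroup H).relIndex (T.subgroupOf H) * c :=
      mul_left_cancel₀ hne (h2.symm.trans (mul_left_comm _ _ _))
    exact P.not_dvd_index (h3 ▸ hd.mul_right c)
  have hNS : N ⊓ S = ⊥ := Subgroup.inf_eq_bot_of_coprime (by
    obtain ⟨c, hc⟩ := hS2.exists_card_eq
    rw [hc]
    exact ((Nat.prime_two.coprime_iff_not_dvd.mpr hodd).symm).pow_right c)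
  have hzS : ∀ s ∈ S, z * s * z⁻¹ ∈ S := by
    intro s hs
    have hzP : z ∈ Pm := ⟨_, hP (Subgroup.mem_zpowers _), rfl⟩
    exact ⟨mul_mem (mul_mem hzP hs.1) (Pm.inv_mem hzP),
      (Subgroup.mem_normalizer_iff.mp hzT s).mp hs.2⟩
  have hzS' : ∀ s ∈ S, z⁻¹ * s * z ∈ S := by
    intro s hs
    have hzP : z ∈ Pm := ⟨_, hP (Subgroup.mem_zpowers _), rfl⟩
    exact ⟨mul_mem (mul_mem (Pm.inv_mem hzP) hs.1) hzP,
      (Subgroup.mem_normalizer_iff.mp hzT _).mpr (by
        rw [show z * (z⁻¹ * s * z) * z⁻¹ = s by group]; exact hs.2)⟩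
  set S₀ := N ⊔ S with hS₀
  obtain ⟨η, hη⟩ : ∃ η : S₀ →* ℂˣ, ∀ (x : S₀) (n : N) (s : G), s ∈ S → (x : G) = n * s →
      η x = l n := exists_extend_complement N S l hNS fun s hs n => (hTl s).mp hs.2 n
  haveI := Fintype.ofFinite S₀
  have hNT : N ≤ T := fun a ha => (hTl a).mpr fun n => by
    have e : (⟨a * n * a⁻¹, (inferInstance : N.Normal).conj_mem (n : G) n.2 a⟩ : N) =
        ⟨a, ha⟩ * n * ⟨a, ha⟩⁻¹ := rfl
    rw [e, map_mul, map_mul, map_inv, mul_inv_cancel_comm]
  have hS₀T : S₀ ≤ T := sup_le hNT inf_le_right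
  -- the induced character
  have hΦ := CharInd.isCharacter_indFun S₀
    (CharCore.IsIrrCharacter.isCharacter (CharCore.isIrrCharacter_hom η))
  set Φ := Cfsg.indFun S₀ (fun x => (η x : ℂ)) with hΦdef
  have hzmem : ∀ x, x ∈ S₀ ↔ z * x * z⁻¹ ∈ S₀ := by
    intro x
    constructor
    · intro hx
      obtain ⟨n, hn, s, hs, rfl⟩ := Subgroup.mem_sup_of_normal_left.mp hx
      rw [show z * (n * s) * z⁻¹ = (z * n * z⁻¹) * (z * s * z⁻¹) by group]
      exact Subgroup.mul_mem_sup ((inferInstance : N.Normal).conj_mem n hn z) (hzS s hs)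
    · intro hx
      obtain ⟨n, hn, s, hs, h⟩ := Subgroup.mem_sup_of_normal_left.mp hx
      rw [show x = (z⁻¹ * n * z) * (z⁻¹ * s * z) by
        rw [show x = z⁻¹ * (z * x * z⁻¹) * z by group, ← h]; group]
      exact Subgroup.mul_mem_sup (by simpa using (inferInstance : N.Normal).conj_mem n hn z⁻¹)
        (hzS' s hs)
  have hηz : ∀ (x : G) (hx : x ∈ S₀),
      conj ((η ⟨x, hx⟩ : ℂˣ) : ℂ) = (η ⟨_, (hzmem x).mp hx⟩ : ℂ) := by
    intro x hx
    obtain ⟨n, hn, s, hs, rfl⟩ := Subgroup.mem_sup_of_normal_left.mp hx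
    rw [hη ⟨_, (hzmem _).mp hx⟩ ⟨z * n * z⁻¹, (inferInstance : N.Normal).conj_mem n hn z⟩ _
      (hzS s hs) (by simp only; group), hη ⟨_, hx⟩ ⟨n, hn⟩ s hs rfl, hzl ⟨n, hn⟩,
      Units.val_inv_eq_inv_val]
    exact (Complex.inv_eq_conj (MonoidHom.isOfFinOrder ((Units.coeHom ℂ).comp l)
      (isOfFinOrder_of_finite (⟨n, hn⟩ : N))).norm_eq_one).symm
  have hΦreal : ∀ g : G, conj (Φ g) = Φ g := by
    intro g
    rw [hΦdef, CharInd.indFun_apply, map_mul, map_inv₀, Complex.conj_natCast, map_sum]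
    congr 1
    refine Fintype.sum_equiv (Equiv.mulRight z⁻¹) _ _ fun x => ?_
    rw [Equiv.coe_mulRight, mul_inv_rev, inv_inv,
      show z * x⁻¹ * g * (x * z⁻¹) = z * (x⁻¹ * g * x) * z⁻¹ by group]
    by_cases hx : x⁻¹ * g * x ∈ S₀
    · rw [CharInd.extendByZero_mem _ hx, CharInd.extendByZero_mem _ ((hzmem _).mp hx)]
      exact hηz _ hx
    · rw [CharInd.extendByZero_notMem _ hx,
        CharInd.extendByZero_notMem _ (fun h => hx ((hzmem _).mpr h)), map_zero]
  -- its multiplicity over `l` is odd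
  let L : Cfsg.IrrCharacter N := ⟨fun n => (l n : ℂ), CharCore.isIrrCharacter_hom l⟩
  have hΦN : Cfsg.classInner (fun n : N => Φ n) (L : N → ℂ) = (S₀.relIndex T : ℂ) := by
    have hNne : (Nat.card N : ℂ) ≠ 0 := Nat.cast_ne_zero.mpr Nat.card_pos.ne'
    have hin : ∀ x : G, ∑ n : N, Cfsg.extendByZero S₀ (fun x => (η x : ℂ)) (x⁻¹ * n * x) *
        conj (l n : ℂ) = if x⁻¹ ∈ T then (Nat.card N : ℂ) else 0 := by
      intro x
      let lx : N →* ℂˣ := l.comp (MulAut.conjNormal x⁻¹ : MulAut N).toMonoidHom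
      let Lx : Cfsg.IrrCharacter N := ⟨fun n => (lx n : ℂ), CharCore.isIrrCharacter_hom lx⟩
      have e : ∀ n : N, Cfsg.extendByZero S₀ (fun x => (η x : ℂ)) (x⁻¹ * n * x) = (lx n : ℂ) := by
        intro n
        have hmem : x⁻¹ * n * x ∈ N := by
          simpa using (inferInstance : N.Normal).conj_mem (n : G) n.2 x⁻¹
        rw [CharInd.extendByZero_mem _ (le_sup_left (b := S) hmem)]
        refine congrArg Units.val ((hη _ ⟨_, hmem⟩ 1 S.one_mem (mul_one _).symm).trans ?_)
        refine congrArg l (Subtype.ext ?_)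
        simp
      have hL : Cfsg.classInner (Lx : N → ℂ) (L : N → ℂ) = if x⁻¹ ∈ T then (1 : ℂ) else 0 := by
        split_ifs with hxT
        · rw [show Lx = L from Subtype.ext (funext fun n => congrArg Units.val
            ((congrArg l (Subtype.ext (by simp))).trans ((hTl _).mp hxT n))),
            CharCore.classInner_irr_self]
        · refine CharCore.classInner_irr_of_ne fun h => hxT ((hTl _).mpr fun n => ?_)
          refine (congrArg l (Subtype.ext ?_)).trans
            (Units.ext (congrFun (congrArg Subtype.val h) n))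
          simp
      simp only [e]
      have h3 : ∑ n : N, (lx n : ℂ) * conj (l n : ℂ) =
          (Nat.card N : ℂ) * Cfsg.classInner (Lx : N → ℂ) (L : N → ℂ) := by
        rw [CharCore.classInner_def, ← mul_assoc, mul_inv_cancel₀ hNne, one_mul]
      rw [h3, hL, mul_ite, mul_one, mul_zero]
    have hcount : ∑ x : G, (if x⁻¹ ∈ T then (Nat.card N : ℂ) else 0) =
        (Nat.card T : ℂ) * (Nat.card N : ℂ) := by
      rw [← Finset.sum_filter, Finset.sum_const, nsmul_eq_mul]
      congr 2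
      rw [Nat.card_eq_fintype_card, Fintype.card_subtype]
      exact congrArg Finset.card (Finset.filter_congr fun x _ => inv_mem_iff)
    have hS₀ne : (Nat.card S₀ : ℂ) ≠ 0 := Nat.cast_ne_zero.mpr Nat.card_pos.ne'
    calc Cfsg.classInner (fun n : N => Φ n) (L : N → ℂ)
        = (Nat.card N : ℂ)⁻¹ * ((Nat.card S₀ : ℂ)⁻¹ * ((Nat.card T : ℂ) * (Nat.card N : ℂ))) := by
          rw [CharCore.classInner_def]
          congr 1
          rw [← hcount]
          simp only [hΦdef, CharInd.indFun_apply, mul_assoc, Finset.sum_mul]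
          rw [← Finset.mul_sum, Finset.sum_comm]
          exact congrArg _ (Finset.sum_congr rfl fun x _ => by rw [← hin x]; simp only [mul_assoc]; rfl)
      _ = (S₀.relIndex T : ℂ) := by
          rw [← Subgroup.relIndex_bot_left T, ← Subgroup.relIndex_mul_relIndex ⊥ S₀ T bot_le hS₀T,
            Subgroup.relIndex_bot_left, Nat.cast_mul]
          field_simp
  obtain ⟨m, hm⟩ := CharCore.IsCharacter.exists_sum hΦ
  choose e he using fun χ : Cfsg.IrrCharacter G =>
    CharCore.IsCharacter.exists_classInner_irr_eq_natCast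
      (CharCore.isCharacter_restrict (CharCore.irr_isCharacter χ) N) L
  have hsum : S₀.relIndex T = ∑ χ, m χ * e χ := by
    have h : (fun n : N => Φ n) =
        ∑ χ : Cfsg.IrrCharacter G, (m χ : ℂ) • fun n : N => (χ : G → ℂ) n := by
      funext n
      simpa [Finset.sum_apply] using congrFun hm (n : G)
    rw [h, CharCore.classInner_sum_left] at hΦN
    simp only [CharCore.classInner_smul_left, he] at hΦN
    exact_mod_cast hΦN.symm
  let bar : Cfsg.IrrCharacter G → Cfsg.IrrCharacter G :=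
    fun χ => ⟨_, CharCore.isIrrCharacter_star χ.2⟩
  have hbar : ∀ χ g, (bar χ : G → ℂ) g = conj ((χ : G → ℂ) g) := fun _ _ => rfl
  have hmbar : ∀ χ, m (bar χ) = m χ := by
    intro χ
    have h1 := CharCore.classInner_sum_all (fun ψ => (m ψ : ℂ)) (bar χ)
    have h2 := CharCore.classInner_sum_all (fun ψ => (m ψ : ℂ)) χ
    rw [← hm] at h1 h2
    have h3 : Cfsg.classInner Φ (bar χ : G → ℂ) = conj (Cfsg.classInner Φ (χ : G → ℂ)) := by
      simp only [CharCore.classInner_def, map_mul, map_inv₀, Complex.conj_natCast, map_sum, hbar,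
        Complex.conj_conj, hΦreal]
    rw [h1, h2, Complex.conj_natCast] at h3
    exact_mod_cast h3
  have hebar : ∀ χ, e (bar χ) = e χ := by
    intro χ
    have h3 : Cfsg.classInner (fun n : N => (bar χ : G → ℂ) n) (L : N → ℂ) =
        conj (Cfsg.classInner (fun n : N => (χ : G → ℂ) n) (L : N → ℂ)) := by
      simp only [CharCore.classInner_def, map_mul, map_inv₀, Complex.conj_natCast, map_sum, hbar,
        Complex.conj_conj]
      congr 1
      refine Fintype.sum_equiv (MulAut.conjNormal z : MulAut N).toEquiv _ _ fun n => ?_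
      show _ = conj ((χ : G → ℂ) ((MulAut.conjNormal z n : N) : G)) * (l (MulAut.conjNormal z n) : ℂ)
      rw [MulAut.conjNormal_apply, CharCore.irr_isClassFunction χ (n : G) z,
        show MulAut.conjNormal z n =
            (⟨z * n * z⁻¹, (inferInstance : N.Normal).conj_mem (n : G) n.2 z⟩ : N) from
          Subtype.ext (MulAut.conjNormal_apply z n), hzl n, Units.val_inv_eq_inv_val]
      congr 1
      exact (Complex.inv_eq_conj (MonoidHom.isOfFinOrder ((Units.coeHom ℂ).comp l)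
        (isOfFinOrder_of_finite n)).norm_eq_one).symm
    rw [he, he, Complex.conj_natCast] at h3
    exact_mod_cast h3
  by_contra hno
  push Not at hno
  have h0 : ((S₀.relIndex T : ℕ) : ZMod 2) = 0 := by
    rw [hsum, Nat.cast_sum]
    refine Finset.sum_involution (fun χ _ => bar χ)
      (fun χ _ => by rw [hmbar, hebar, CharTwo.add_self_eq_zero]) (fun χ _ hne hfix => hne ?_)
      (fun _ _ => Finset.mem_univ _)
      (fun χ _ => Subtype.ext (funext fun g => Complex.conj_conj _))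
    have hreal : ∀ g : G, ((χ : G → ℂ) g).im = 0 := fun g =>
      Complex.conj_eq_iff_im.mp (congrFun (congrArg Subtype.val hfix) g)
    have hzero : e χ = 0 := by
      have := hno χ hreal
      rw [show (fun n => (l n : ℂ)) = (L : N → ℂ) from rfl, he] at this
      exact_mod_cast this
    rw [hzero, mul_zero, Nat.cast_zero]
  rw [ZMod.natCast_eq_zero_iff] at h0
  refine hSodd (h0.trans ?_)
  exact Subgroup.relIndex_dvd_of_le_left T (le_sup_right : S ≤ S₀)

end Cfsg.Agent.BC87.RealOver
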