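import Cfsg.Agent.BC87.QuatTransitive
import Cfsg.Agent.BC87.QuatAut
import Cfsg.Agent.Lib.Frobenius.Complement
import Cfsg.Agent.Lib.Fitting.Minimal
import Cfsg.Agent.S0016
import Mathlib.GroupTheory.SemidirectProduct
import Mathlib.GroupTheory.Transfer
import Mathlib.Algebra.Module.ZMod

/-!
# Solvable groups acting transitively on the nonidentity elements of an abelian group

If the point stabilisers are `p`-groups (`p` the exponent) and `O_p(H) = 1`, then `H` has a normal
`p`-complement and commutative Sylow `p`-subgroups.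
-/

set_option autoImplicit false
set_option linter.style.haveILetI false
set_option linter.unusedSectionVars false

open Subgroup
open scoped commutatorElement

namespace Cfsg.Agent.BC87.TransQuot

variable {H V : Type*} [Group H] [Finite H] [CommGroup V] [Finite V]

/-- The hypotheses. -/
structure Setup (φ : H →* MulAut V) (p : ℕ) : Prop where
  inj : Function.Injective φ
  nontriv : Nontrivial V
  expo : ∀ v : V, v ^ p = 1
  trans : ∀ v w : V, v ≠ 1 → w ≠ 1 → ∃ h, φ h v = w
  stab : ∀ (h : H) (v : V), v ≠ 1 → φ h v = v → ∃ k, h ^ p ^ k = 1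
  core : Cfsg.pCore p H = ⊥

namespace Setup

variable {φ : H →* MulAut V} {p : ℕ} [hp : Fact p.Prime]

theorem fix_eq_one (S : Setup φ p) {Q : Subgroup H} {s : ℕ} [hs : Fact s.Prime]
    (hQ : IsPGroup s Q) (hsp : s ≠ p) {a : H} (ha : a ∈ Q) (ha1 : a ≠ 1) {v : V}
    (hv : φ a v = v) : v = 1 := by
  by_contra hv1
  obtain ⟨k, hk⟩ := S.stab a v hv1 hv
  obtain ⟨m, hm⟩ := hQ ⟨a, ha⟩
  have hm' : a ^ s ^ m = 1 := by simpa using congrArg Subtype.val hm
  have := pow_gcd_eq_one.mpr ⟨hk, hm'⟩
  rw [(Nat.Coprime.pow k m ((Nat.coprime_primes hp.out hs.out).mpr hsp.symm)).gcd_eq_one,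
    pow_one] at this
  exact ha1 this

theorem isCyclic_or_quaternion (S : Setup φ p) {Q : Subgroup H} {s : ℕ} [hs : Fact s.Prime]
    (hQ : IsPGroup s Q) (hsp : s ≠ p) :
    IsCyclic Q ∨ (s = 2 ∧ ∃ n : ℕ, Nonempty (Q ≃* QuaternionGroup (2 ^ n))) := by
  have := S.nontriv
  let W : Subgroup (V ⋊[φ] H) := (SemidirectProduct.inl : V →* V ⋊[φ] H).range
  let A : Subgroup (V ⋊[φ] H) := Q.map SemidirectProduct.inr
  haveI : Finite (V ⋊[φ] H) := Finite.of_equiv _ SemidirectProduct.equivProd.symm
  haveI : W.Normal := by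
    show (SemidirectProduct.inl : V →* V ⋊[φ] H).range.Normal
    rw [SemidirectProduct.range_inl_eq_ker_rightHom]
    exact MonoidHom.normal_ker _
  have hf : Frobenius.IsFPF A W := by
    refine Frobenius.isFPF_of_normal ?_
    rintro _ ⟨a, ha, rfl⟩ hne
    rw [Subgroup.eq_bot_iff_forall]
    rintro _ ⟨⟨v, rfl⟩, hc⟩
    have h1 := congrArg SemidirectProduct.left (Subgroup.mem_centralizer_singleton_iff.mp hc)
    simp only [SemidirectProduct.mul_left, SemidirectProduct.left_inl, SemidirectProduct.left_inr,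
      SemidirectProduct.right_inl, SemidirectProduct.right_inr, map_one, one_mul, mul_one] at h1
    rw [S.fix_eq_one hQ hsp ha (fun h => hne (by rw [h, map_one])) h1.symm, map_one]
  have hW : W ≠ ⊥ := by
    obtain ⟨v, hv⟩ := exists_ne (1 : V)
    exact fun h => hv (SemidirectProduct.inl_injective
      (((Subgroup.eq_bot_iff_forall _).mp h _ ⟨v, rfl⟩).trans (map_one _).symm))
  have hA : IsPGroup s A := hQ.map _
  let e : Q ≃* A := Q.equivMapOfInjective _ SemidirectProduct.inr_injective
  rcases S0016.result (G := A) s hA (hf.eq_of_card_prime hW hA) with hc | ⟨h2, n, ⟨f⟩⟩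
  · exact Or.inl (isCyclic_of_surjective e.symm e.symm.surjective)
  · exact Or.inr ⟨h2, n, ⟨e.trans f⟩⟩

theorem card_eq (S : Setup φ p) {v : V} (hv : v ≠ 1) :
    ∃ T : Subgroup H, IsPGroup p T ∧ (∀ h, h ∈ T ↔ φ h v = v) ∧
      Nat.card H = (Nat.card V - 1) * Nat.card T := by
  classical
  letI := MulAction.compHom V φ
  refine ⟨MulAction.stabilizer H v, fun h => ?_, fun h => Iff.rfl, ?_⟩
  · obtain ⟨k, hk⟩ := S.stab h v hv h.2
    exact ⟨k, Subtype.ext (by simpa using hk)⟩
  · rw [← (MulAction.stabilizer H v).index_mul_card, MulAction.index_stabilizer]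
    congr 1
    have : MulAction.orbit H v = {(1 : V)}ᶜ := by
      ext w
      refine ⟨?_, fun hw => S.trans v w hv hw⟩
      rintro ⟨h, rfl⟩ h1
      exact hv ((φ h).injective ((h1 : φ h v = 1).trans (map_one (φ h)).symm))
    rw [this, Set.ncard_compl, Set.ncard_singleton]

/-- The case of a normal quaternion subgroup of order `8` in characteristic `3`. -/
theorem card_eq_nine (S : Setup φ p) (hp3 : p = 3) {Q : Subgroup H} [Q.Normal]
    (e : Q ≃* QuaternionGroup 2) : Nat.card V = 9 := by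
  subst hp3
  have := S.nontriv
  have hQ : IsPGroup 2 Q := IsPGroup.of_card (n := 3) (by
    rw [Nat.card_congr e.toEquiv, Nat.card_eq_fintype_card, QuaternionGroup.card]; rfl)
  letI : Module (ZMod 3) (Additive V) := AddCommGroup.zmodModule fun x => by
    exact congrArg Additive.ofMul (S.expo x.toMul)
  let L : H → (Additive V →ₗ[ZMod 3] Additive V) := fun h =>
    (MonoidHom.toAdditive (φ h).toMonoidHom).toZModLinearMap 3
  have hL : ∀ h k x, L (h * k) x = L h (L k x) := fun h k x => by
    show Additive.ofMul (φ (h * k) x.toMul) = Additive.ofMul (φ h (φ k x.toMul))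
    rw [map_mul]; rfl
  let q : QuaternionGroup 2 → H := fun y => ((e.symm y : Q) : H)
  have hq : ∀ x y, q (x * y) = q x * q y := fun x y => by simp [q]
  have hqQ : ∀ y, q y ∈ Q := fun y => (e.symm y).2
  have hz : ∀ x, L (q (.a 2)) x = -x := by
    intro x
    have hzz : q (.a 2) * q (.a 2) = 1 := by
      rw [← hq, show (QuaternionGroup.a 2 * .a 2 : QuaternionGroup 2) = 1 by decide]
      simp [q]
    have hz1 : q (.a 2) ≠ 1 := fun h => by
      have h' : e.symm (.a 2) = 1 := Subtype.ext h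
      exact absurd (e.symm.injective (h'.trans (map_one e.symm).symm)) (by decide)
    have h1 : φ (q (.a 2)) (x.toMul * φ (q (.a 2)) x.toMul) = x.toMul * φ (q (.a 2)) x.toMul := by
      rw [map_mul, ← MulAut.mul_apply, ← map_mul, hzz, map_one, MulAut.one_apply, mul_comm]
    have h2 := S.fix_eq_one hQ (by decide) (hqQ _) hz1 h1
    exact congrArg Additive.ofMul (eq_inv_of_mul_eq_one_right h2)
  have hII : ∀ y : QuaternionGroup 2, y * y = .a 2 → ∀ x, L (q y) (L (q y) x) = -x :=
    fun y hy x => by rw [← hL, ← hq, hy, hz]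
  have hgen : ∀ y : QuaternionGroup 2, ∃ k < 4,
      y = .a 1 ^ k ∨ y = .xa 0 * .a 1 ^ k := by decide
  have hinv : ∀ P : Submodule (ZMod 3) (Additive V), (∀ x ∈ P, L (q (.a 1)) x ∈ P) →
      (∀ x ∈ P, L (q (.xa 0)) x ∈ P) → ∀ h ∈ Q, ∀ x ∈ P, L h x ∈ P := by
    intro P h1 h2 h hh x hx
    have hpow : ∀ k : ℕ, L (q (.a 1 ^ k)) x ∈ P := fun k => by
      induction k with
      | zero =>
        simpa [q, L, show q 1 = 1 by simp [q]] using hx
      | succ k ih => rw [pow_succ', hq, hL]; exact h1 _ ih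
    have hq' : q (e ⟨h, hh⟩) = h := by simp [q]
    obtain ⟨k, -, hk | hk⟩ := hgen (e ⟨h, hh⟩)
    · rw [← hq', hk]; exact hpow k
    · rw [← hq', hk, hq, hL]; exact h2 _ (hpow k)
  have hle : Nat.card (Additive V) ≤ 9 := by
    refine QuatTrans.card_le_nine (L (q (.a 1))) (L (q (.xa 0))) (hII _ (by decide))
      (hII _ (by decide)) (fun x => ?_) fun v w hv hw => ?_
    · rw [← hL, ← hq, show (QuaternionGroup.xa 0 * .a 1 : QuaternionGroup 2) =
        .a 2 * (.a 1 * .xa 0) by decide, hq, hL, hz, hq, hL]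
    · obtain ⟨g, hg⟩ := S.trans v.toMul w.toMul (fun h => hv (congrArg Additive.ofMul h))
        (fun h => hw (congrArg Additive.ofMul h))
      refine ⟨L g, congrArg Additive.ofMul hg, fun P h1 h2 x hx => ?_⟩
      obtain ⟨y, hy, rfl⟩ := hx
      have key : ∀ h ∈ Q, L h (L g y) ∈ P.map (L g) := fun h hh => by
        refine ⟨L (g⁻¹ * h * g) y, hinv P h1 h2 _ ?_ y hy, ?_⟩
        · simpa using ‹Q.Normal›.conj_mem h hh g⁻¹
        · rw [← hL, ← hL]; congr 2; group
      exact ⟨key _ (hqQ _), key _ (hqQ _)⟩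
  have h8 : 8 ∣ Nat.card V - 1 := by
    obtain ⟨v, hv⟩ := exists_ne (1 : V)
    obtain ⟨T, hT, -, hc⟩ := S.card_eq hv
    obtain ⟨m, hm⟩ := hT.exists_card_eq
    have h1 : 8 ∣ (Nat.card V - 1) * 3 ^ m := by
      rw [← hm, ← hc, show 8 = Nat.card Q by
        rw [Nat.card_congr e.toEquiv, Nat.card_eq_fintype_card, QuaternionGroup.card]]
      exact card_subgroup_dvd_card Q
    exact (Nat.Coprime.pow_right m (by norm_num : Nat.Coprime 8 3)).dvd_of_dvd_mul_right h1
  have h2 : 1 < Nat.card V := Finite.one_lt_card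
  have h3 : Nat.card V ≤ 9 := hle
  have := Nat.le_of_dvd (by omega) h8
  omega

/-- In that case a Sylow `3`-subgroup is commutative and centralised modulo itself by its
normaliser. -/
theorem commutator_eq_one_of_quaternion (S : Setup φ p) (hp3 : p = 3) {Q : Subgroup H} [Q.Normal]
    (e : Q ≃* QuaternionGroup 2) (P : Sylow p H) {g a : H}
    (hg : g ∈ Subgroup.normalizer (P : Set H)) (ha : a ∈ P) : ⁅g, a⁆ = 1 := by
  subst hp3
  have h9 := S.card_eq_nine rfl e
  have := S.nontriv
  obtain ⟨v, hv⟩ := exists_ne (1 : V)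
  obtain ⟨T, hT, hTm, hc⟩ := S.card_eq hv
  rw [h9] at hc
  obtain ⟨m, hm⟩ := hT.exists_card_eq
  rw [hm] at hc
  -- `T` embeds in `V`
  obtain ⟨w, hw⟩ : ∃ w, w ∉ Subgroup.zpowers v := by
    by_contra hne
    push Not at hne
    have h1 : Subgroup.zpowers v = ⊤ := eq_top_iff.mpr fun x _ => hne x
    have h2 : Nat.card (Subgroup.zpowers v) = 9 := by rw [h1, Subgroup.card_top, h9]
    rw [Nat.card_zpowers, orderOf_eq_prime (S.expo v) hv] at h2
    omega
  have hgenV : Subgroup.closure {v, w} = ⊤ := by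
    set C := Subgroup.closure {v, w}
    have h1 : Subgroup.zpowers v < C := lt_of_le_of_ne
      (Subgroup.zpowers_le.mpr (Subgroup.subset_closure (by simp))) fun h =>
        hw (h ▸ Subgroup.subset_closure (by simp))
    have h2 : Nat.card C ∣ 3 ^ 2 := by simpa [h9] using Subgroup.card_subgroup_dvd_card C
    obtain ⟨i, hi, hi'⟩ := (Nat.dvd_prime_pow Nat.prime_three).mp h2
    have h3 : 3 ^ 1 < Nat.card C := by
      have := Set.ncard_lt_ncard (SetLike.coe_ssubset_coe.mpr h1)
      rw [← Nat.card_coe_set_eq, ← Nat.card_coe_set_eq] at this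
      have h4 : Nat.card (Subgroup.zpowers v) = 3 := by
        rw [Nat.card_zpowers, orderOf_eq_prime (S.expo v) hv]
      calc 3 ^ 1 = Nat.card (Subgroup.zpowers v) := by rw [h4, pow_one]
        _ < _ := this
    rw [hi'] at h3
    have := (Nat.pow_lt_pow_iff_right (by norm_num : 1 < 3)).mp h3
    refine Subgroup.eq_top_of_card_eq _ ?_
    rw [hi', h9, show i = 2 by omega]; rfl
  have hTle : Nat.card T ≤ 9 := by
    rw [← h9]
    refine Nat.card_le_card_of_injective (fun h : T => φ h w) fun h k hk => ?_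
    refine Subtype.ext (S.inj ?_)
    have h1 : (φ (h : H)).toMonoidHom = (φ (k : H)).toMonoidHom := by
      refine MonoidHom.eq_of_eqOn_dense hgenV ?_
      rintro x (rfl | rfl)
      · exact ((hTm _).mp h.2).trans ((hTm _).mp k.2).symm
      · exact hk
    exact MulEquiv.ext fun x => DFunLike.congr_fun h1 x
  have hm2 : m ≤ 2 := by
    have : 3 ^ m ≤ 3 ^ 2 := by rw [← hm]; simpa using hTle
    exact (Nat.pow_le_pow_iff_right (by norm_num)).mp this
  have hPcard : Nat.card P = 3 ^ m := by
    rw [P.card_eq_multiplicity, hc, Nat.factorization_mul (by norm_num) (pow_ne_zero _ (by norm_num)),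
      Nat.Prime.factorization_pow Nat.prime_three]
    have : Nat.factorization (9 - 1) 3 = 0 := Nat.factorization_eq_zero_of_not_dvd (by norm_num)
    simp [this]
  have hPcomm : ∀ x y : P, x * y = y * x := by
    interval_cases m
    · have : Subsingleton P := (Nat.card_eq_one_iff_unique.mp (by simpa using hPcard)).1
      exact fun x y => Subsingleton.elim _ _
    · have : IsCyclic P := isCyclic_of_prime_card (p := 3) (by simpa using hPcard)
      exact fun x y => (IsCyclic.commGroup (α := P)).mul_comm x y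
    · exact (IsPGroup.isMulCommutative_of_card_eq_prime_sq hPcard).is_comm.comm
  have hQcard : Nat.card Q = 8 := by
    rw [Nat.card_congr e.toEquiv, Nat.card_eq_fintype_card, QuaternionGroup.card]
  have hcompl : Subgroup.IsComplement' Q (P : Subgroup H) := by
    refine Subgroup.isComplement'_of_card_mul_and_disjoint ?_ ?_
    · rw [hQcard, hPcard, hc]
    · exact IsPGroup.disjoint_of_ne 2 3 (by norm_num) Q P
        (IsPGroup.of_card (n := 3) hQcard) P.2
  obtain ⟨⟨⟨x, hx⟩, ⟨y, hy⟩⟩, hxy⟩ := hcompl.2 g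
  have hxy' : x * y = g := hxy
  subst hxy'
  have hxN : x ∈ Subgroup.normalizer (P : Set H) :=
    (Subgroup.mul_mem_cancel_right _ (Subgroup.le_normalizer hy)).mp hg
  have hxa : ⁅x, a⁆ = 1 := by
    refine Subgroup.mem_bot.mp (le_of_eq hcompl.disjoint.eq_bot ⟨?_, ?_⟩)
    · rw [commutatorElement_def, mul_assoc, mul_assoc, ← mul_assoc a]
      exact mul_mem hx (‹Q.Normal›.conj_mem _ (inv_mem hx) a)
    · show ⁅x, a⁆ ∈ (P : Subgroup H)
      exact mul_mem ((Subgroup.mem_normalizer_iff.mp hxN a).mp ha) (inv_mem ha)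
  rw [commutatorElement_eq_one_iff_commute] at hxa ⊢
  exact hxa.mul_left (congrArg Subtype.val (hPcomm ⟨y, hy⟩ ⟨a, ha⟩))

/-- Every commutator lying in a Sylow `p`-subgroup as below is trivial. -/
theorem commutator_eq_one [Group.IsSolvable H] (S : Setup φ p) (P : Sylow p H) {g a : H}
    (hg : g ∈ Subgroup.normalizer (P : Set H)) (ha : a ∈ P) : ⁅g, a⁆ = 1 := by
  by_cases hex : p = 3 ∧ Nonempty (Cfsg.pCore 2 H ≃* QuaternionGroup 2)
  · obtain ⟨h3, ⟨e⟩⟩ := hex
    exact S.commutator_eq_one_of_quaternion h3 e P hg ha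
  have hcP : ⁅g, a⁆ ∈ P :=
    mul_mem ((Subgroup.mem_normalizer_iff.mp hg a).mp ha) (inv_mem ha)
  -- the commutator centralises every `O_s(H)`
  have hall : ∀ s : Nat.Primes,
      Cfsg.pCore (s : ℕ) H ≤ Subgroup.centralizer ({⁅g, a⁆} : Set H) := by
    intro s
    haveI := Fact.mk s.2
    rcases eq_or_ne (s : ℕ) p with hsp | hsp
    · rw [hsp, S.core]; exact bot_le
    let C : H →* MulAut (Cfsg.pCore (s : ℕ) H) := MulAut.conjNormal
    suffices hC : C ⁅g, a⁆ = 1 by
      intro x hx
      rw [Subgroup.mem_centralizer_singleton_iff]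
      have h1 : ⁅g, a⁆ * x * ⁅g, a⁆⁻¹ = x :=
        (MulAut.conjNormal_apply _ (⟨x, hx⟩ : Cfsg.pCore (s : ℕ) H)).symm.trans
          (congrArg Subtype.val (DFunLike.congr_fun hC ⟨x, hx⟩))
      exact (mul_inv_eq_iff_eq_mul.mp h1).symm
    rw [map_commutatorElement, commutatorElement_eq_one_iff_commute]
    rcases S.isCyclic_or_quaternion (Fitting.pCore_isPGroup (s : ℕ)) hsp with hc | ⟨h2, n, ⟨e⟩⟩
    · show C g * C a = C a * C g
      refine (IsCyclic.mulAutMulEquiv (Cfsg.pCore (s : ℕ) H)).injective ?_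
      rw [map_mul, map_mul, mul_comm]
    rcases Nat.eq_zero_or_pos n with rfl | hn
    · have : IsCyclic (QuaternionGroup (2 ^ 0)) := QuaternionGroup.quaternionGroup_one_isCyclic
      have := isCyclic_of_surjective e.symm e.symm.surjective
      show C g * C a = C a * C g
      refine (IsCyclic.mulAutMulEquiv (Cfsg.pCore (s : ℕ) H)).injective ?_
      rw [map_mul, map_mul, mul_comm]
    suffices hCa : C a = 1 by rw [hCa]; exact Commute.one_right _
    obtain ⟨k, hk⟩ := P.2 ⟨a, ha⟩
    have hk' : a ^ p ^ k = 1 := by simpa using congrArg Subtype.val hk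
    refine (MulAut.congr e).injective ?_
    rw [map_one]
    refine QuatAut.eq_one_of_pow_prime_pow hn _ hp.out (h2 ▸ hsp.symm) (fun hn1 h3 => ?_)
      (k := k) (by rw [← map_pow, ← map_pow, hk', map_one, map_one])
    subst hn1
    have he : Nonempty (Cfsg.pCore (s : ℕ) H ≃* QuaternionGroup 2) := ⟨e⟩
    rw [h2] at he
    exact hex ⟨h3, he⟩
  have hF : Cfsg.fittingSubgroup H ≤ Subgroup.centralizer ({⁅g, a⁆} : Set H) := by
    rw [Fitting.fitting_eq_iSup_pCore]
    exact iSup_le hall
  have hcF : ⁅g, a⁆ ∈ Cfsg.fittingSubgroup H := Fitting.centralizer_fitting_le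
    (Subgroup.mem_centralizer_iff.mpr fun x hx =>
      Subgroup.mem_centralizer_singleton_iff.mp (hF hx))
  -- so it lies in `O_p(H) = 1`
  set F := Cfsg.fittingSubgroup H
  haveI : Group.IsNilpotent F := Fitting.fitting_isNilpotent
  obtain ⟨R, hR⟩ := (IsPGroup.comap_subtype P.2 (K := F)).exists_le_sylow
  haveI : (R : Subgroup F).Normal := by
    have h := ((Group.isNilpotent_of_finite_tfae (G := F)).out 0 3 rfl rfl).mp ‹_›
    exact h p hp R
  haveI : (R : Subgroup F).Characteristic := Sylow.characteristic_of_normal R inferInstance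
  have hle : (R : Subgroup F).map F.subtype ≤ Cfsg.pCore p H :=
    Fitting.le_pCore (Fitting.normal_map_subtype_of_characteristic _) (R.2.map _)
  rw [S.core] at hle
  exact Subgroup.mem_bot.mp (hle ⟨⟨_, hcF⟩, hR hcP, rfl⟩)

theorem conclusion [Group.IsSolvable H] (S : Setup φ p) :
    Cfsg.HasNormalPComplement p H ∧ ∀ P : Sylow p H, IsMulCommutative (P : Subgroup H) := by
  refine ⟨?_, fun P => ⟨⟨fun a b => Subtype.ext ?_⟩⟩⟩
  · have P : Sylow p H := default
    have hP : Subgroup.normalizer (P : Set H) ≤ Subgroup.centralizer (P : Set H) := fun g hg =>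
      Subgroup.mem_centralizer_iff.mpr fun a ha =>
        (commutatorElement_eq_one_iff_commute.mp (S.commutator_eq_one P hg ha)).symm
    exact ⟨P, _, inferInstance, MonoidHom.ker_transferSylow_isComplement' P hP⟩
  · exact commutatorElement_eq_one_iff_commute.mp
      (S.commutator_eq_one P (Subgroup.le_normalizer a.2) b.2)

end Setup

end Cfsg.Agent.BC87.TransQuot
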